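import Cfsg.Agent.Lib.UniserialSE.Basic
import Cfsg.Agent.Lib.RankTwo.Auto
import Cfsg.Agent.Lib.HallHigman.FrattiniModule

/-!
# Coordinates on a Frattini quotient along a series with factors of order `p`

`exists_rep` : from `W 0 = ⊤ ≥ W 1 ≥ ⋯ ≥ W m = Φ(Y)` with `W r ≤ W (r + 1) ⊔ ⟨e r⟩` and `|Y : Φ(Y)| = p ^ m`
coordinates on `Y / Φ(Y)` and the matrices of the automorphisms;
`coprime_trivial` : an automorphism of order prime to `p` with trivial matrix is trivial.
-/

set_option autoImplicit false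
set_option linter.unusedSectionVars false
set_option linter.style.haveILetI false

open Matrix

namespace Cfsg.Agent.UniserialSE

variable {p : ℕ} [Fact p.Prime]

/-- An automorphism of order prime to `p` trivial modulo the Frattini subgroup is trivial. -/
theorem coprime_trivial {Y : Type*} [Group Y] [Finite Y] (hY : IsPGroup p Y) {a : MulAut Y}
    (hc : Nat.Coprime (orderOf a) p) (h : ∀ x, x⁻¹ * a x ∈ frattini Y) : a = 1 := by
  by_contra ha
  have hn : orderOf a ≠ 1 := fun h => ha (orderOf_eq_one_iff.1 h)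
  obtain ⟨q, hq, hqd⟩ := Nat.exists_prime_and_dvd hn
  haveI : Fact q.Prime := ⟨hq⟩
  have hqp : q ≠ p := by
    rintro rfl
    exact hq.ne_one (Nat.eq_one_of_dvd_one (hc.gcd_eq_one ▸ Nat.dvd_gcd hqd dvd_rfl))
  have hstab : a ∈ (RankTwo.quotientAut (frattini Y) (hN := inferInstance)).ker :=
    MonoidHom.mem_ker.2 (MulEquiv.ext fun y =>
      QuotientGroup.induction_on y fun x => (QuotientGroup.eq.2 (h x)).symm)
  obtain ⟨d, hd⟩ := hqd
  have hb : a ^ d = 1 := by
    refine RankTwo.aut_eq_one_of_frattini hY hqp (a := a ^ d) ?_ fun x => ?_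
    · rw [← pow_mul, mul_comm, ← hd, pow_orderOf_eq_one]
    · have h1 := congrArg (fun c : MulAut (Y ⧸ frattini Y) => c (x : Y ⧸ frattini Y))
        (MonoidHom.mem_ker.1 (pow_mem hstab d))
      exact QuotientGroup.eq.1 h1.symm
  have hd0 : 0 < d := Nat.pos_of_ne_zero fun h => (orderOf_pos a).ne' (by rw [hd, h, mul_zero])
  have := Nat.le_of_dvd hd0 (orderOf_dvd_of_pow_eq_one hb)
  rw [hd] at this
  have h2 : 2 * d ≤ q * d := Nat.mul_le_mul_right _ hq.two_le
  omega

theorem exists_rep {Y : Type*} [Group Y] [Finite Y] (hY : IsPGroup p Y) {m : ℕ} (e : ℕ → Y)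
    (W : ℕ → Subgroup Y) (hanti : Antitone W) (h0 : W 0 = ⊤) (hWm : W m = frattini Y)
    (hgen : ∀ r < m, e r ∈ W r ∧ W r ≤ W (r + 1) ⊔ Subgroup.zpowers (e r))
    (hidx : (frattini Y).index = p ^ m) :
    ∃ (π : Y → Fin m → ZMod p) (ρ : MulAut Y →* Gl p m),
      (∀ x y, π (x * y) = π x + π y) ∧ (∀ r : Fin m, π (e r) = Pi.single r 1) ∧
      (∀ x, π x = 0 ↔ x ∈ frattini Y) ∧
      (∀ (r : ℕ) (x : Y), x ∈ W r → ∀ l : Fin m, (l : ℕ) < r → π x l = 0) ∧
      (∀ (α : MulAut Y) (a b : Fin m), (ρ α : Mat p m) a b = π (α (e b)) a) ∧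
      (∀ α : MulAut Y, ρ α = 1 ↔ ∀ x, x⁻¹ * α x ∈ frattini Y) := by
  classical
  letI : CommGroup (Y ⧸ frattini Y) :=
    { (inferInstance : Group (Y ⧸ frattini Y)) with
      mul_comm := by
        intro a b
        obtain ⟨x, rfl⟩ := QuotientGroup.mk'_surjective _ a
        obtain ⟨y, rfl⟩ := QuotientGroup.mk'_surjective _ b
        refine commutatorElement_eq_one_iff_mul_comm.1 ?_
        rw [← map_commutatorElement]
        exact (QuotientGroup.eq_one_iff _).2 (PGroup.commutatorElement_mem_frattini hY x y) }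
  set mk := QuotientGroup.mk' (frattini Y) with hmk
  have hexp : ∀ z : Y ⧸ frattini Y, z ^ p = 1 := by
    intro z
    obtain ⟨x, rfl⟩ := QuotientGroup.mk'_surjective _ z
    rw [← map_pow]
    exact (QuotientGroup.eq_one_iff _).2 (PGroup.pow_mem_frattini hY x)
  obtain ⟨inst, σ, hσ⟩ := HallHigman.exists_linear_rep (Q := Y ⧸ frattini Y) hexp
    (RankTwo.quotientAut (frattini Y) (hN := inferInstance))
  letI := inst
  let φ : (Fin m → ZMod p) →ₗ[ZMod p] Additive (Y ⧸ frattini Y) :=
    { toFun := fun v => ∑ r, v r • Additive.ofMul (mk (e r))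
      map_add' := fun v w => by simp [add_smul, Finset.sum_add_distrib]
      map_smul' := fun c v => by simp [Finset.smul_sum, smul_smul] }
  have hsurj : ∀ n r, r + n = m → ∀ x ∈ W r,
      ∃ v : Fin m → ZMod p, (∀ l : Fin m, (l : ℕ) < r → v l = 0) ∧ φ v = Additive.ofMul (mk x) := by
    intro n
    induction n with
    | zero =>
      intro r hr x hx
      refine ⟨0, fun _ _ => rfl, ?_⟩
      obtain rfl : r = m := by omega
      rw [map_zero, show mk x = 1 from (QuotientGroup.eq_one_iff _).2 (hWm ▸ hx), ofMul_one]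
    | succ n ih =>
      intro r hr x hx
      have h1 : mk x ∈ (W (r + 1)).map mk ⊔ Subgroup.zpowers (mk (e r)) := by
        rw [← MonoidHom.map_zpowers, ← Subgroup.map_sup]
        exact Subgroup.mem_map_of_mem mk ((hgen r (by omega)).2 hx)
      obtain ⟨_, ⟨y, hy, rfl⟩, _, ⟨k, rfl⟩, hyk⟩ := Subgroup.mem_sup.1 h1
      obtain ⟨v, hv0, hv⟩ := ih (r + 1) (by omega) y hy
      refine ⟨v + (k : ZMod p) • Pi.single (⟨r, by omega⟩ : Fin m) 1, fun l hl => ?_, ?_⟩
      · rw [Pi.add_apply, hv0 l (by omega), Pi.smul_apply, Pi.single_eq_of_ne, smul_zero, add_zero]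
        intro h; subst h; simp at hl
      · rw [map_add, map_smul, hv, ← hyk, ofMul_mul, ofMul_zpow]
        congr 1
        have : φ (Pi.single (⟨r, by omega⟩ : Fin m) 1) = Additive.ofMul (mk (e r)) := by
          show ∑ l, (Pi.single (⟨r, by omega⟩ : Fin m) (1 : ZMod p) : Fin m → ZMod p) l • Additive.ofMul (mk (e l)) = _
          rw [Finset.sum_eq_single (⟨r, by omega⟩ : Fin m)]
          · rw [Pi.single_eq_same, one_smul]
          · intro l _ hl; rw [Pi.single_eq_of_ne hl, zero_smul]
          · simp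
        rw [this, Int.cast_smul_eq_zsmul]
  have hbij : Function.Bijective φ := by
    have hs : Function.Surjective φ := fun z => by
      obtain ⟨x, hx⟩ := QuotientGroup.mk'_surjective _ (Additive.toMul z)
      obtain ⟨v, -, hv⟩ := hsurj m 0 (by omega) x (h0 ▸ Subgroup.mem_top x)
      exact ⟨v, by rw [hv, hmk, hx]; rfl⟩
    refine hs.bijective_of_nat_card_le ?_
    show Nat.card (Fin m → ZMod p) ≤ Nat.card (Y ⧸ frattini Y)
    rw [Nat.card_fun, Nat.card_zmod, Nat.card_fin, ← Subgroup.index_eq_card, hidx]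
  let E : (Fin m → ZMod p) ≃ₗ[ZMod p] Additive (Y ⧸ frattini Y) := LinearEquiv.ofBijective φ hbij
  let π : Y → Fin m → ZMod p := fun x => E.symm (Additive.ofMul (mk x))
  have hφs : ∀ r : Fin m, φ (Pi.single r 1) = Additive.ofMul (mk (e r)) := fun r => by
    show ∑ l, (Pi.single r (1 : ZMod p) : Fin m → ZMod p) l • Additive.ofMul (mk (e l)) = _
    rw [Finset.sum_eq_single r]
    · rw [Pi.single_eq_same, one_smul]
    · intro l _ hl; rw [Pi.single_eq_of_ne hl, zero_smul]
    · simp
  have hπφ : ∀ (x : Y) (v), φ v = Additive.ofMul (mk x) → π x = v := fun x v h => by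
    show E.symm (Additive.ofMul (mk x)) = v
    rw [← h]; exact E.symm_apply_apply v
  let ev : MulAut Y →* Mat p m :=
    { toFun := fun α => LinearMap.toMatrixAlgEquiv' (E.symm.toLinearMap ∘ₗ σ α ∘ₗ E.toLinearMap)
      map_one' := by
        rw [map_one, Module.End.one_eq_id, LinearMap.id_comp,
          show E.symm.toLinearMap ∘ₗ E.toLinearMap = LinearMap.id by ext v; simp]
        exact map_one _
      map_mul' := fun α β => by
        rw [map_mul, ← map_mul LinearMap.toMatrixAlgEquiv']
        congr 1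
        ext v
        simp [Module.End.mul_apply] }
  have hev : ∀ (α : MulAut Y) (a b : Fin m), ev α a b = π (α (e b)) a := by
    intro α a b
    show LinearMap.toMatrixAlgEquiv' _ a b = _
    rw [LinearMap.toMatrixAlgEquiv'_apply]
    show E.symm (σ α (E (Pi.single b 1))) a = _
    rw [show E (Pi.single b 1) = Additive.ofMul (mk (e b)) from hφs b, hσ]
    rfl
  refine ⟨π, ev.toHomUnits, fun x y => ?_, fun r => hπφ _ _ (hφs r), fun x => ?_, fun r x hx l hl => ?_, hev,
    fun α => ?_⟩
  · show E.symm _ = E.symm _ + E.symm _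
    rw [← map_add, map_mul]; rfl
  · show E.symm _ = 0 ↔ _
    rw [LinearEquiv.map_eq_zero_iff]
    exact (QuotientGroup.eq_one_iff x)
  · rcases Nat.lt_or_ge m r with h | h
    · obtain ⟨v, hv0, hv⟩ := hsurj 0 m (by omega) x (hanti h.le hx)
      rw [hπφ x v hv]; exact hv0 l l.2
    · obtain ⟨v, hv0, hv⟩ := hsurj (m - r) r (by omega) x hx
      rw [hπφ x v hv]; exact hv0 l hl
  · constructor
    · intro h x
      have h1 : ev α = 1 := congrArg Units.val h
      have h2 : E.symm.toLinearMap ∘ₗ σ α ∘ₗ E.toLinearMap = LinearMap.id :=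
        LinearMap.toMatrixAlgEquiv'.injective (h1.trans (map_one _).symm)
      have h3 := congrArg E (LinearMap.congr_fun h2 (E.symm (Additive.ofMul (mk x))))
      simp only [LinearMap.comp_apply, LinearEquiv.coe_coe, LinearEquiv.apply_symm_apply, LinearMap.id_apply,
        hσ] at h3
      exact QuotientGroup.eq.1 (Additive.ofMul.injective h3).symm
    · intro h
      refine Units.ext (Matrix.ext fun a b => ?_)
      show ev α a b = (1 : Mat p m) a b
      rw [hev]
      have : mk (α (e b)) = mk (e b) := (QuotientGroup.eq.2 (h (e b))).symm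
      show E.symm (Additive.ofMul (mk (α (e b)))) a = _
      rw [this, hπφ (e b) _ (hφs b) |> fun q => (show E.symm (Additive.ofMul (mk (e b))) = Pi.single b 1 from q),
        Pi.single_apply, Matrix.one_apply]

end Cfsg.Agent.UniserialSE
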