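import Cfsg.Agent.Lib.UniserialSE.Main
import Cfsg.Agent.Lib.UniserialSE.FrattiniRep
import Cfsg.Agent.Lib.MaxClass.Degree
import Cfsg.Agent.Lib.MaxClass.SmallEssential
import Cfsg.Agent.Lib.Resist.Fusion

/-!
# Normal essential subgroups of `p`-groups of maximal class, `p ≥ 5`

`false_of_lower` : a term of the lower central series is not essential;
`cases_of_index` : an essential subgroup of index `p` is a two-step centralizer, or the order is `p ^ 4`.
-/

set_option autoImplicit false
set_option linter.unusedSectionVars false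
set_option linter.style.haveILetI false

open Subgroup
open scoped commutatorElement

universe u

namespace Cfsg.Agent.UniserialSE

open Cfsg Cfsg.FusionSystem Cfsg.Agent.Fusion MaxClassPower PearlRank
open PearlRank.Pc (D D_mem)

variable {p n : ℕ} [hp : Fact p.Prime]

theorem mat_mul_entry {m : ℕ} {x y : Gl p m} (hx : x ∈ near p m 1) (hy : y ∈ near p m 1) {a b : Fin m}
    (hab : (a : ℕ) = b + 1) : ((x * y : Gl p m) : Mat p m) a b = (x : Mat p m) a b + (y : Mat p m) a b := by
  have h := (Deg.mul hx hy) a b (by omega)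
  have hne : a ≠ b := fun e => by subst e; omega
  have e : ((x * y : Gl p m) : Mat p m) = ((x : Mat p m) - 1) * ((y : Mat p m) - 1) +
      ((x : Mat p m) + (y : Mat p m) - 1) := by
    rw [Units.val_mul]; noncomm_ring
  rw [e, Matrix.add_apply, h, zero_add, Matrix.sub_apply, Matrix.add_apply, Matrix.one_apply_ne hne, sub_zero]

theorem mat_pow_entry {m : ℕ} {x : Gl p m} (hx : x ∈ near p m 1) {a b : Fin m}
    (hab : (a : ℕ) = b + 1) (k : ℕ) : ((x ^ k : Gl p m) : Mat p m) a b = k * (x : Mat p m) a b := by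
  induction k with
  | zero => simp [Matrix.one_apply_ne (show a ≠ b from fun e => by subst e; omega)]
  | succ k ih => rw [pow_succ, mat_mul_entry (pow_mem hx k) hx hab, ih, Nat.cast_succ, add_mul, one_mul]

theorem card_near_le_of_small {m : ℕ} (hm : m ≤ 2) {T : Subgroup (Gl p m)} (hT : T ≤ near p m 1) :
    Nat.card T ≤ p := by
  rcases Nat.lt_or_ge m 2 with h | h
  · have : T = ⊥ := eq_bot_iff.2 fun x hx => Subgroup.mem_bot.2 (eq_one_of_near (hT hx) (by omega))
    rw [this, card_bot]; exact hp.out.one_lt.le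
  · obtain rfl : m = 2 := by omega
    have hinj : Function.Injective (fun t : T => ((t : Gl p 2) : Mat p 2) 1 0) := by
      intro s t e
      refine Subtype.ext (Units.ext (Matrix.ext fun a b => ?_))
      have h1 := hT s.2 a b
      have h2 := hT t.2 a b
      fin_cases a <;> fin_cases b <;> simp at h1 h2 e ⊢ <;> first | exact e | linear_combination h1 - h2
    exact (Nat.card_le_card_of_injective _ hinj).trans_eq (by simp)

theorem card_near_three {T : Subgroup (Gl p 3)} (hT : T ≤ near p 3 1) : Nat.card T ≤ p ^ 3 := by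
  have hinj : Function.Injective
      (fun t : T => (((t : Gl p 3) : Mat p 3) 1 0, ((t : Gl p 3) : Mat p 3) 2 0, ((t : Gl p 3) : Mat p 3) 2 1)) := by
    intro s t e
    simp only [Prod.mk.injEq] at e
    refine Subtype.ext (Units.ext (Matrix.ext fun a b => ?_))
    have h1 := hT s.2 a b
    have h2 := hT t.2 a b
    fin_cases a <;> fin_cases b <;> simp at h1 h2 e ⊢ <;>
      first | exact e.1 | exact e.2.1 | exact e.2.2 | linear_combination h1 - h2
  refine (Nat.card_le_card_of_injective _ hinj).trans_eq ?_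
  rw [Nat.card_prod, Nat.card_prod, Nat.card_zmod, pow_three]

theorem se_map {G G' : Type*} [Group G] [Group G'] [Finite G] (e : G ≃* G') {M : Subgroup G}
    (hM : Cfsg.IsStronglyPEmbedded p M) : Cfsg.IsStronglyPEmbedded p (M.map e.toMonoidHom) := by
  haveI : Finite G' := Finite.of_equiv G e.toEquiv
  obtain ⟨h1, h2, P, hP⟩ := (StrongPEmb.isStronglyPEmbedded_iff_forall M).1 hM
  refine (StrongPEmb.isStronglyPEmbedded_iff_forall _).2 ⟨Nat.card_congr e.toEquiv ▸ h1,
    fun h => h2 (top_le_iff.1 fun x _ => ?_), P.mapSurjective (f := e.toMonoidHom) e.surjective, fun Q hQ hne => ?_⟩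
  · obtain ⟨y, hy, he⟩ := (h.symm ▸ Subgroup.mem_top (e x) : e x ∈ M.map e.toMonoidHom)
    exact e.injective he ▸ hy
  · replace hQ : Q ≤ (P : Subgroup G).map e.toMonoidHom := hQ
    have hQ' : Q.comap e.toMonoidHom ≤ (P : Subgroup G) := by
      intro x hx
      obtain ⟨y, hy, he⟩ := hQ hx
      exact e.injective he ▸ hy
    have hne' : Q.comap e.toMonoidHom ≠ ⊥ := by
      intro h
      refine hne (eq_bot_iff.2 fun y hy => ?_)
      obtain ⟨x, rfl⟩ := e.surjective y
      have : x ∈ (⊥ : Subgroup G) := h ▸ hy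
      rw [Subgroup.mem_bot.1 this, map_one]; exact one_mem _
    intro g hg
    refine ⟨e.symm g, hP _ hQ' hne' (mem_normalizer_iff.2 fun x => ?_), by simp⟩
    have := mem_normalizer_iff.1 hg (e x)
    simpa [Subgroup.mem_comap] using this

variable {Ω : Type u} [Group Ω] {S : Subgroup Ω} [Finite S] {F : FusionSystem S} {E : Subgroup Ω}

theorem normalizerIn_eq (hES : E ≤ S) (hn : (E.subgroupOf S).Normal) : normalizerIn S E = S := by
  refine le_antisymm inf_le_left fun g hg => mem_normalizerIn.2 ⟨hg, fun x => ⟨fun hx => ?_, fun hx => ?_⟩⟩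
  · exact hn.conj_mem ⟨x, hES hx⟩ hx ⟨g, hg⟩
  · have := hn.conj_mem ⟨g * x * g⁻¹, hES hx⟩ hx ⟨g⁻¹, S.inv_mem hg⟩
    simpa [mul_assoc, Subgroup.mem_subgroupOf] using this

set_option maxHeartbeats 1000000 in
/-- The terms of the lower central series are not essential. -/
theorem false_of_lower (hp5 : 5 ≤ p) (hS : IsPGroup p S) (hF : F.IsSaturated p) (c : Mc S p n) (h4 : 4 ≤ n)
    (hE : F.IsEssential p E) (hn : (E.subgroupOf S).Normal) {k : ℕ} (hk : 1 ≤ k)
    (hEk : E.subgroupOf S = L S k) : False := by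
  have hES : E ≤ S := hE.1.1
  haveI := finite_of_le (S := S) hES
  haveI := finite_mulAut (S := S) hES
  obtain ⟨s, hs⟩ := c.exists_good
  set ι : E →* S := Subgroup.inclusion hES with hι
  have hιi : Function.Injective ι := Subgroup.inclusion_injective hES
  have hιr : ι.range = L S k := by rw [← hEk, hι, Subgroup.inclusion_range]
  have hcmem : ∀ g : S, (∀ x ∈ L S k, Commute g x) → g ∈ L S k := by
    intro g hg
    rw [← hEk]
    refine FusionChain.centralizerIn_le_of_centric hE.1 ⟨g.2, mem_centralizer_iff.2 fun v hv => ?_⟩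
    exact (congrArg Subtype.val (hg ⟨v, hES hv⟩ (hEk ▸ hv)).eq).symm
  -- `k` is small
  have hkn : k ≤ n - 3 := by
    by_contra h
    have h1 : ∀ x ∈ L S k, x ∈ center S := fun x hx =>
      c.mem_center_of (Subgroup.lowerCentralSeries_antitone _ (by omega) hx)
    have h2 : s ∈ L S k := hcmem s fun x hx => mem_center_iff.1 (h1 x hx) s
    exact hs.not_mem_L_one (Subgroup.lowerCentralSeries_antitone _ hk h2)
  have hYp : IsPGroup p E := hS.to_le hES
  have hcY : Nat.card E = p ^ (n - 1 - k) := by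
    rw [← c.card_L hk, ← hEk, Nat.card_congr (subgroupOfEquivOfLe hES).toEquiv]
  -- the Frattini subgroup is a term of the series
  have hN : normalizerIn S E = S := normalizerIn_eq hES hn
  let ψ : S →* MulAut E := (normConj S E).comp (Subgroup.inclusion hN.ge)
  have hψι : ∀ (g : S) (x : E), ι (ψ g x) = g * ι x * g⁻¹ := fun g x => Subtype.ext rfl
  set Φ := (frattini E).map ι with hΦ
  haveI hΦn : Φ.Normal := ⟨by
    rintro _ ⟨x, hx, rfl⟩ g
    exact ⟨ψ g x, (PGroup.aut_mem_iff (ψ g) x).2 hx, hψι g x⟩⟩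
  obtain ⟨m, hidx⟩ := hYp.index (frattini E)
  have hm1 : 1 ≤ m := by
    by_contra h
    have hΦtop : frattini E = ⊤ := Subgroup.index_eq_one.1 (by rw [hidx, show m = 0 by omega, pow_zero])
    haveI : Nontrivial E := by
      rw [← Finite.one_lt_card_iff_nontrivial, hcY]; exact Nat.one_lt_pow (by omega) hp.out.one_lt
    exact bot_ne_top (α := Subgroup E) (frattini_nongenerating (K := ⊥) (by rw [hΦtop, sup_top_eq]))
  obtain ⟨a, hΦa⟩ := IsPGroup.iff_card.1 (hYp.to_subgroup (frattini E))
  have hma : a + m = n - 1 - k := by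
    refine Nat.pow_right_injective hp.out.two_le ?_
    show p ^ (a + m) = p ^ (n - 1 - k)
    rw [pow_add, ← hΦa, ← hidx, Subgroup.card_mul_index, hcY]
  have hkm : k + m ≤ n - 1 := by omega
  have hΦL : Φ = L S (k + m) := by
    have hidxX : Φ.index = p ^ (k + m + 1) := by
      have h := Φ.card_mul_index
      rw [hΦ, card_map_of_injective hιi, hΦa, c.card, ← hΦ] at h
      refine Nat.eq_of_mul_eq_mul_left (pow_pos hp.out.pos a) ?_
      rw [h, ← pow_add]; congr 1; omega
    have := PGroup.normal_eq_lcs c.three_le c.card c.cls (by omega : 2 ≤ k + m + 1) hidxX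
    simpa using this
  have hm : m < p := by
    by_contra h
    obtain ⟨v, hv, hv'⟩ := SetLike.not_le_iff_exists.mp (c.L_lt hk (by omega))
    obtain ⟨-, h2⟩ := hs.pow_sharp hk (by omega) hv hv'
    obtain ⟨y, rfl⟩ : v ∈ ι.range := hιr.symm ▸ hv
    refine h2 (Subgroup.lowerCentralSeries_antitone _ (show k + p ≤ k + m by omega) ?_)
    rw [← map_pow, ← L, ← hΦL]
    exact mem_map_of_mem ι (PGroup.pow_mem_frattini hYp y)
  -- the basis
  obtain ⟨a0, ha0, ha0'⟩ := SetLike.not_le_iff_exists.mp (c.L_lt hk (by omega))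
  have hD : ∀ r : ℕ, (D s)^[r] a0 ∈ ι.range := fun r =>
    hιr.symm ▸ Subgroup.lowerCentralSeries_antitone _ (Nat.le_add_right k r) (hs.D_iter_mem ha0 r)
  choose e he using hD
  let W : ℕ → Subgroup E := fun r => (L S (k + r)).comap ι
  have hW0 : W 0 = ⊤ := eq_top_iff.2 fun x _ => by
    show ι x ∈ L S (k + 0)
    rw [add_zero, ← hιr]; exact ⟨x, rfl⟩
  have hWm : W m = frattini E := by
    show (L S (k + m)).comap ι = _
    rw [← hΦL, hΦ, comap_map_eq_self_of_injective hιi]
  obtain ⟨π, ρ, hπm, hπe, hπ0, hπW, hρ, hρ1⟩ := exists_rep hYp e W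
    (fun i j hij => comap_mono (Subgroup.lowerCentralSeries_antitone _ (by omega))) hW0 hWm
    (fun r hr => by
      refine ⟨show ι (e r) ∈ L S (k + r) from (he r).symm ▸ hs.D_iter_mem ha0 r, fun x hx => ?_⟩
      have hg := c.gen_L (i := k + r) (by omega) (u := (D s)^[r] a0) (hs.D_iter_mem ha0 r)
        (hs.D_iter_sharp hk ha0 ha0' r (by omega))
      have h1 : ι x ∈ (W (r + 1)).map ι ⊔ (Subgroup.zpowers (e r)).map ι := by
        rw [MonoidHom.map_zpowers, he, map_comap_eq, hιr, inf_eq_right.2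
          (Subgroup.lowerCentralSeries_antitone _ (by omega)), ← add_assoc, hg]
        exact hx
      rw [← Subgroup.map_sup] at h1
      exact (Subgroup.mem_map_iff_mem hιi).1 h1)
    hidx
  -- the matrix group
  set A := F.autGroup E
  let φ : A →* Gl p m := ρ.comp A.subtype
  obtain ⟨hIn, M₀, hM₀⟩ := hE.2.2
  haveI := hIn
  set I := (Cfsg.Inn E).subgroupOf A
  have hinn : ∀ α ∈ Cfsg.Inn E, ρ α = 1 := by
    rintro _ ⟨y, rfl⟩
    refine (hρ1 _).2 fun x => ?_
    rw [MulAut.conj_apply, show x⁻¹ * (y * x * y⁻¹) = ⁅x⁻¹, y⁆ by rw [commutatorElement_def]; group]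
    exact PGroup.commutatorElement_mem_frattini hYp _ _
  have hker : φ.ker = I := by
    refine le_antisymm (fun α hα => ?_) fun α hα => hinn _ hα
    refine Subgroup.mem_subgroupOf.2 (Resist.le_inn_of_normal hS hE (A ⊓ ρ.ker) inf_le_left
      (fun γ hγ x hx => ⟨mul_mem (mul_mem hγ hx.1) (Subgroup.inv_mem _ hγ),
        (inferInstance : ρ.ker.Normal).conj_mem x hx.2 γ⟩) ?_ ⟨α.2, hα⟩)
    exact RankTwo.isPGroup_of_forall_coprime _ fun x hx hc => coprime_trivial hYp hc ((hρ1 x).1 hx.2)
  haveI : Finite A := inferInstance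
  let eqv : A ⧸ I ≃* φ.range := (QuotientGroup.quotientMulEquivOfEq hker.symm).trans
    (QuotientGroup.quotientKerEquivRange φ)
  have hMemb := se_map (p := p) eqv hM₀
  -- the image of `S`
  let χ : S →* Gl p m := ρ.comp ψ
  have hψA : ∀ g : S, ψ g ∈ autInducedBy S E ∧ ψ g ∈ A := fun g =>
    Resist.normConj_mem F hES (Subgroup.inclusion hN.ge g)
  have hχker : χ.ker = L S k := by
    rw [← hEk]
    refine le_antisymm (fun g hg => ?_) fun g hg => hinn _ ⟨⟨g, hg⟩, MulEquiv.ext fun _ => Subtype.ext rfl⟩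
    exact Resist.mem_of_inn hE (g := Subgroup.inclusion hN.ge g)
      (Subgroup.mem_subgroupOf.1 (hker.le (show (⟨ψ g, (hψA g).2⟩ : A) ∈ φ.ker from hg)))
  set T := χ.range with hTdef
  have hTH : T ≤ φ.range := by
    rintro _ ⟨g, rfl⟩
    exact ⟨⟨ψ g, (hψA g).2⟩, rfl⟩
  have hTp : IsPGroup p T := hS.of_surjective χ.rangeRestrict χ.rangeRestrict_surjective
  have hTcard : Nat.card T = p ^ (k + 1) := by
    rw [hTdef, ← Subgroup.index_ker, hχker, c.index_L hk (by omega)]
  obtain ⟨-, R, hR⟩ := fullyAutomized_of_fullyNormalized hS hF hE.2.1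
  have hRT : (R : Subgroup A).map φ = T := by
    rw [hR]
    ext x
    constructor
    · rintro ⟨α, hα, rfl⟩
      obtain ⟨g, hg⟩ := (range_normConj S E).symm ▸ (show (α : MulAut E) ∈ autInducedBy S E from hα)
      exact ⟨⟨g, g.2.1⟩, congrArg ρ hg⟩
    · rintro ⟨g, rfl⟩
      exact ⟨⟨ψ g, (hψA g).2⟩, (hψA g).1, rfl⟩
  have hmax : ∀ P : Subgroup (Gl p m), P ≤ φ.range → IsPGroup p P → T ≤ P → P = T := by
    intro P hP hPp hle
    have h1 : P.subgroupOf φ.range = (R.mapSurjective φ.rangeRestrict_surjective : Subgroup φ.range) := by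
      refine (R.mapSurjective φ.rangeRestrict_surjective).is_maximal'
        (hPp.of_equiv (subgroupOfEquivOfLe hP).symm) ?_
      rw [Sylow.coe_mapSurjective]
      rintro _ ⟨α, hα, rfl⟩
      exact hle (hRT ▸ mem_map_of_mem φ hα)
    rw [← map_subgroupOf_eq_of_le hP, h1, Sylow.coe_mapSurjective, Subgroup.map_map, ← hRT]
    rfl
  -- the regular element
  have hconj : ∀ (g : S) (x : E), π (ψ g x) = π x + π (x⁻¹ * ψ g x) := fun g x => by
    rw [← hπm, mul_inv_cancel_left]
  have hu : (χ s : Mat p m) = 1 + shift p m := by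
    ext a b
    show (ρ (ψ s) : Mat p m) a b = _
    rw [hρ, hconj, hπe, Pi.add_apply, Matrix.add_apply, shift_apply, Pi.single_apply, Matrix.one_apply]
    congr 1
    have hx : ι ((e b)⁻¹ * ψ s (e b)) = ι (e (b + 1)) := by
      rw [map_mul, map_inv, hψι, he, he, Function.iterate_succ_apply', D, ← mul_assoc, ← mul_assoc]
    rw [hιi hx]
    by_cases hb : (b : ℕ) + 1 < m
    · rw [hπe ⟨b + 1, hb⟩, Pi.single_apply]
      simp only [Fin.ext_iff]
    · have h0 : π (e (b + 1)) = 0 := (hπ0 _).2 (by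
        rw [← hWm]
        show ι (e (b + 1)) ∈ L S (k + m)
        rw [he]
        exact Subgroup.lowerCentralSeries_antitone _ (by omega) (hs.D_iter_mem ha0 _))
      rw [h0, if_neg (by have := a.2; omega)]; rfl
  have huT : χ s ∈ T := ⟨s, rfl⟩
  have hTn : T ≤ near p m 1 := le_near_one hTp huT hu
  have hp2 : p ^ 2 ≤ Nat.card T := hTcard ▸ Nat.pow_le_pow_right hp.out.pos (by omega)
  have hm3 : 3 ≤ m := by
    by_contra h
    have := card_near_le_of_small (by omega) hTn
    have h2 : p * 2 ≤ p * p := Nat.mul_le_mul_left p (by omega)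
    rw [pow_two] at hp2
    omega
  -- the first transitions
  have hL : ∀ t ∈ T, ∃ τ : ZMod p, ∀ a b : Fin m, (b : ℕ) + 3 ≤ m → (a : ℕ) = b + 1 →
      (t : Mat p m) a b = τ := by
    rintro _ ⟨g, rfl⟩
    haveI : (twoStep S 1).Normal := Subgroup.Normal.of_commutator_le _ (by
      show _root_.commutator S ≤ twoStep S 1
      rw [← Subgroup.top_lowerCentralSeries_one]
      exact L_one_le_twoStep 1)
    have hq : Nat.card (S ⧸ twoStep S 1) = p := by
      rw [← Subgroup.index_eq_card]
      have h := (twoStep S 1).card_mul_index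
      rw [c.card_twoStep le_rfl (by omega), c.card] at h
      exact Nat.eq_of_mul_eq_mul_left (pow_pos hp.out.pos _) (by rw [h, ← pow_succ]; congr 1; omega)
    have htop := zpowers_eq_top_of_prime_card (g := (s : S ⧸ twoStep S 1)) hq
      fun h => c.not_mem_twoStep hs le_rfl (by omega) ((QuotientGroup.eq_one_iff s).1 h)
    obtain ⟨α, hα⟩ := mem_powers_iff_mem_zpowers.2 (htop ▸ mem_top (g : S ⧸ twoStep S 1))
    set x := g * (s ^ α)⁻¹
    have hx : x ∈ twoStep S 1 := by
      rw [← QuotientGroup.eq_one_iff, QuotientGroup.mk_mul, QuotientGroup.mk_inv, QuotientGroup.mk_pow]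
      show (g : S ⧸ twoStep S 1) * (((s : S ⧸ twoStep S 1)) ^ α)⁻¹ = 1
      rw [show ((s : S ⧸ twoStep S 1)) ^ α = g from hα, mul_inv_cancel]
    refine ⟨(α : ZMod p), fun a b hb hab => ?_⟩
    have hgx : χ g = χ x * χ s ^ α := by rw [← map_pow, ← map_mul]; congr 1; simp [x]
    rw [hgx, mat_mul_entry (hTn ⟨x, rfl⟩) (pow_mem (hTn huT) α) hab, mat_pow_entry (hTn huT) hab]
    have h0 : (χ x : Mat p m) a b = 0 := by
      show (ρ (ψ x) : Mat p m) a b = _
      rw [hρ]
      have hxq : x ∈ twoStep S (k + b) := (c.twoStep_const (k + (b : ℕ)) (by omega) (Or.inl (show k + (b : ℕ) ≤ n - 4 by omega))).symm ▸ hx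
      have hcm : ι (ψ x (e b) * (e b)⁻¹) ∈ L S (k + ((b : ℕ) + 2)) := by
        rw [map_mul, map_inv, hψι, he]
        exact mem_twoStep.1 hxq _ (hs.D_iter_mem ha0 _)
      have h1 := hπW ((b : ℕ) + 2) (ψ x (e b) * (e b)⁻¹) hcm a (by omega)
      have h2 := hπm (ψ x (e b) * (e b)⁻¹) (e b)
      rw [inv_mul_cancel_right, hπe] at h2
      rw [h2, Pi.add_apply, h1, Pi.single_eq_of_ne (fun e => by subst e; omega), zero_add]
    rw [h0, hu, Matrix.add_apply, Matrix.one_apply_ne (fun e => by subst e; omega), shift_apply, if_pos hab]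
    simp
  by_cases hm4 : 4 ≤ m
  · exact false_of_uniserial hp5 hTH hTp hmax huT hu (by omega) hm hp2 hMemb hL (Or.inr hm4)
  obtain rfl : m = 3 := by omega
  rcases (show k = 1 ∨ 2 ≤ k by omega) with rfl | hk2
  · refine false_of_uniserial hp5 hTH hTp hmax huT hu (by omega) hm hp2 hMemb hL (Or.inl fun x hx y hy => ?_)
    exact congrArg Subtype.val ((IsPGroup.isMulCommutative_of_card_eq_prime_sq hTcard).is_comm.comm ⟨x, hx⟩ ⟨y, hy⟩)
  have hk' : k = 2 := by
    have := card_near_three hTn
    rw [hTcard, Nat.pow_le_pow_iff_right hp.out.one_lt] at this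
    omega
  subst hk'
  -- the elementary abelian subgroup of order `p ^ 3`
  have h26 : Φ ≤ L S 6 := by
    haveI : (L S 6).Normal := inferInstance
    let f : E →* S ⧸ L S 6 := (QuotientGroup.mk' (L S 6)).comp ι
    have hfc : ∀ x y : E, Commute (f x) (f y) := by
      have hmem : ∀ {i j : ℕ}, 5 ≤ i + j → ∀ {x y : S}, x ∈ L S i → y ∈ L S j →
          Commute (QuotientGroup.mk' (L S 6) x) (QuotientGroup.mk' (L S 6) y) := by
        intro i j hij x y hx hy
        refine commutatorElement_eq_one_iff_mul_comm.1 ?_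
        rw [← map_commutatorElement]
        exact (QuotientGroup.eq_one_iff _).2 (comm_L_mem (by omega) hx hy)
      obtain ⟨a, ha, ha'⟩ := SetLike.not_le_iff_exists.mp (c.L_lt hk (by omega))
      have hdec : ∀ x : E, ∃ y ∈ L S 3, ∃ i : ℤ, y * a ^ i = ι x := by
        intro x
        have hx : ι x ∈ L S 3 ⊔ Subgroup.zpowers a := by
          rw [c.gen_L hk ha ha', ← hιr]; exact ⟨x, rfl⟩
        haveI : (L S 3).Normal := inferInstance
        obtain ⟨y, hy, _, ⟨i, rfl⟩, he⟩ := Subgroup.mem_sup_of_normal_left.1 hx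
        exact ⟨y, hy, i, he⟩
      intro x y
      obtain ⟨x', hx', i, hxe⟩ := hdec x
      obtain ⟨y', hy', j, hye⟩ := hdec y
      show Commute (QuotientGroup.mk' (L S 6) (ι x)) (QuotientGroup.mk' (L S 6) (ι y))
      rw [← hxe, ← hye, map_mul, map_mul, map_zpow, map_zpow]
      refine Commute.mul_left (Commute.mul_right (hmem (by omega) hx' hy') ?_) (Commute.mul_right ?_ ?_)
      · exact ((hmem (by omega) hx' ha).zpow_right j)
      · exact ((hmem (by omega) ha hy').zpow_left i)
      · exact ((Commute.refl _).zpow_right j).zpow_left i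
    have hle : frattini E ≤ f.ker := by
      rw [PGroup.frattini_eq hYp, sup_le_iff, _root_.commutator_def, Subgroup.commutator_le, closure_le]
      refine ⟨fun x _ y _ => ?_, ?_⟩
      · rw [MonoidHom.mem_ker, map_commutatorElement]
        exact commutatorElement_eq_one_iff_mul_comm.2 (hfc x y)
      · rintro _ ⟨x, rfl⟩
        refine (QuotientGroup.eq_one_iff (ι (x ^ p))).2 ?_
        rw [map_pow]
        exact Subgroup.lowerCentralSeries_antitone _ (show 6 ≤ 2 + p - 1 by omega)
          (hs.pow_mem (by omega) _ (hιr ▸ ⟨x, rfl⟩))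
    rintro _ ⟨x, hx, rfl⟩
    exact (QuotientGroup.eq_one_iff (ι x)).1 (hle hx)
  have hn6 : n = 6 := by
    by_contra h
    refine c.L_lt (show 1 ≤ 5 by omega) (by omega) ?_
    rw [hΦL] at h26
    exact h26
  have hab : ∀ x y : E, x * y = y * x := by
    intro x y
    have h := PGroup.commutatorElement_mem_frattini hYp x y
    have h' : ι ⁅x, y⁆ ∈ L S 6 := h26 (mem_map_of_mem ι h)
    rw [c.L_bot (by omega), Subgroup.mem_bot, map_eq_one_iff ι hιi] at h'
    exact commutatorElement_eq_one_iff_mul_comm.1 h'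
  have hexp : ∀ x : E, x ^ p = 1 := by
    intro x
    have h' : ι (x ^ p) ∈ L S 6 := h26 (mem_map_of_mem ι (PGroup.pow_mem_frattini hYp x))
    rwa [c.L_bot (by omega), Subgroup.mem_bot, map_eq_one_iff ι hιi] at h'
  exact false_of_elementary_cube hp5 (by omega) hS hF c hE
    (by rw [hcY, hn6]) hab hexp

set_option maxHeartbeats 1000000 in
/-- An essential subgroup of index `p`. -/
theorem cases_of_index (hp5 : 5 ≤ p) (hS : IsPGroup p S) (hF : F.IsSaturated p) (c : Mc S p n) (h4 : 4 ≤ n)
    (hE : F.IsEssential p E) (hn : (E.subgroupOf S).Normal) (hidx : (E.subgroupOf S).index = p) :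
    E.subgroupOf S = twoStep S 1 ∨ E.subgroupOf S = twoStep S (n - 3) ∨
      (n = 4 ∧ Nat.card E = p ^ 3 ∧ Cfsg.IsExtraspecial p E ∧ Monoid.exponent E = p) := by
  by_contra hcon
  push Not at hcon
  obtain ⟨hne1, hne2, hne3⟩ := hcon
  have hES : E ≤ S := hE.1.1
  haveI := finite_of_le (S := S) hES
  set ι : E →* S := Subgroup.inclusion hES with hι
  have hιi : Function.Injective ι := Subgroup.inclusion_injective hES
  set E' := E.subgroupOf S with hE'
  haveI : E'.Normal := hn
  have hιr : ι.range = E' := Subgroup.inclusion_range hES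
  have hcard : Nat.card E' = p ^ (n - 1) := by
    have h := E'.card_mul_index
    rw [hidx, c.card] at h
    exact Nat.eq_of_mul_eq_mul_right hp.out.pos (by rw [h, ← pow_succ]; congr 1; omega)
  have hcY : Nat.card E = p ^ (n - 1) := by
    rw [← hcard, hE', Nat.card_congr (subgroupOfEquivOfLe hES).toEquiv]
  have hL1 : L S 1 ≤ E' := by
    rw [L, Subgroup.top_lowerCentralSeries_one]
    exact PGroup.commutator_le_of_index_eq hidx
  obtain ⟨g, hgE, hg1⟩ : ∃ g ∈ E', g ∉ L S 1 := by
    refine SetLike.not_le_iff_exists.mp fun h => ?_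
    have := Subgroup.card_le_of_le h
    rw [hcard, c.card_L le_rfl, Nat.pow_le_pow_iff_right hp.out.one_lt] at this
    omega
  have hgen : L S 1 ⊔ zpowers g = E' := by
    refine PGroup.eq_of_le_of_card_le (sup_le hL1 (zpowers_le.mpr hgE)) ?_
    have := PGroup.mul_card_le_of_lt c.pGroup
      (left_lt_sup.2 fun h => hg1 (h (mem_zpowers g)) : L S 1 < L S 1 ⊔ zpowers g)
    rw [c.card_L le_rfl, ← pow_succ', show n - 1 - 1 + 1 = n - 1 by omega] at this
    rwa [hcard]
  have hnts : ∀ i, 1 ≤ i → i ≤ n - 3 → twoStep S i ≠ E' := by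
    intro i hi hin h
    rcases (show i ≤ n - 4 ∨ i = n - 3 by omega) with h' | rfl
    · exact hne1 (h.symm.trans (c.twoStep_const i hi (Or.inl h')))
    · exact hne2 h.symm
  have hgts : ∀ i, 1 ≤ i → i ≤ n - 3 → g ∉ twoStep S i := fun i hi hin h =>
    hnts i hi hin ((c.gen_twoStep hi hin h hg1).symm.trans hgen)
  have hG : Gd S p n g := ⟨c.card, c.three_le, c.card_centralizer hg1 hgts⟩
  -- the lower central series of `E`
  have hLE : ∀ j, 1 ≤ j → (L E j).map ι = L S (j + 1) := by
    intro j hj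
    induction j, hj using Nat.le_induction with
    | base =>
      refine le_antisymm ?_ fun z hz => ?_
      · rw [L, Subgroup.top_lowerCentralSeries_one, _root_.commutator_def, Subgroup.map_commutator, ← MonoidHom.range_eq_map,
          hιr, Subgroup.commutator_le]
        intro x hx y hy
        have h2 : (L S 1).Normal := inferInstance
        rw [← hgen] at hx hy
        obtain ⟨x', hx', _, ⟨i, rfl⟩, rfl⟩ := Subgroup.mem_sup_of_normal_left.1 hx
        obtain ⟨y', hy', _, ⟨l, rfl⟩, rfl⟩ := Subgroup.mem_sup_of_normal_left.1 hy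
        rw [← QuotientGroup.eq_one_iff]
        show QuotientGroup.mk' (L S (1 + 1)) ⁅x' * g ^ i, y' * g ^ l⁆ = 1
        rw [map_commutatorElement, commutatorElement_eq_one_iff_mul_comm]
        have hm : ∀ {i' : ℕ}, ∀ {u v : S}, u ∈ L S 1 → v ∈ L S i' →
            Commute (QuotientGroup.mk' (L S (1 + 1)) u) (QuotientGroup.mk' (L S (1 + 1)) v) := by
          intro i' u v hu hv
          refine commutatorElement_eq_one_iff_mul_comm.1 ?_
          rw [← map_commutatorElement]
          exact (QuotientGroup.eq_one_iff _).2 (comm_L_mem (by omega) hu hv)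
        rw [map_mul, map_mul, map_zpow, map_zpow]
        refine Commute.mul_left (Commute.mul_right (hm (i' := 1) hx' hy') ?_) (Commute.mul_right ?_ ?_)
        · exact (hm (i' := 0) hx' (mem_L_zero g)).zpow_right l
        · exact ((hm (i' := 0) hy' (mem_L_zero g)).symm).zpow_left i
        · exact ((Commute.refl _).zpow_right l).zpow_left i
      · obtain ⟨a, ha, rfl⟩ := hG.D_surj le_rfl hz
        obtain ⟨a', ha'⟩ : a ∈ ι.range := hιr.symm ▸ hL1 ha
        obtain ⟨g', hg'⟩ : g ∈ ι.range := hιr.symm ▸ hgE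
        refine ⟨⁅a'⁻¹, g'⁆, Subgroup.commutator_mem_commutator (mem_top _) (mem_top _), ?_⟩
        rw [map_commutatorElement, map_inv, ha', hg', D, commutatorElement_def]; group
    | succ j hj ih =>
      refine le_antisymm ?_ fun z hz => ?_
      · show (⁅L E j, (⊤ : Subgroup E)⁆).map ι ≤ _
        rw [Subgroup.map_commutator, ih]
        exact Subgroup.commutator_mono le_rfl le_top
      · obtain ⟨a, ha, rfl⟩ := hG.D_surj (by omega) hz
        obtain ⟨a', ha', hae⟩ : a ∈ (L E j).map ι := ih.symm ▸ ha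
        obtain ⟨g', hg'⟩ : g ∈ ι.range := hιr.symm ▸ hgE
        refine ⟨⁅a'⁻¹, g'⁆, Subgroup.commutator_mem_commutator (inv_mem ha') (mem_top _), ?_⟩
        rw [map_commutatorElement, map_inv, hae, hg', D, commutatorElement_def]; group
  have s' := EssentialSmall.setting_of_essential hS hF hE
  by_cases hn5 : 5 ≤ n
  swap
  · have hn4 : n = 4 := by omega
    rcases MaxClassPower.small_cases s' (by omega) (by rw [hcY, hn4]) with ⟨h, -⟩ | ⟨h1, h2, h3⟩ | ⟨-, hab, -⟩
    · rw [hcY, hn4] at h
      exact absurd (Nat.pow_right_injective hp.out.two_le h) (by norm_num)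
    · exact hne3 hn4 h1 h2 h3
    · obtain ⟨a, ha, ha'⟩ := SetLike.not_le_iff_exists.mp (c.L_lt le_rfl (by omega))
      refine hG.D_sharp le_rfl (by omega) ha ha' ?_
      obtain ⟨a', rfl⟩ : a ∈ ι.range := hιr.symm ▸ hL1 ha
      obtain ⟨g', hg'⟩ : g ∈ ι.range := hιr.symm ▸ hgE
      rw [← hg', D, ← mul_assoc, ← mul_assoc, mul_assoc _ (ι g') (ι a'), ← map_mul, hab, map_mul]
      simp
  -- a characteristic series
  let U : ℕ → Subgroup E := fun j => (L S j).comap ι
  have hUj : ∀ j, 1 ≤ j → U (j + 1) = L E j := fun j hj => by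
    show (L S (j + 1)).comap ι = _
    rw [← hLE j hj, comap_map_eq_self_of_injective hιi]
  have hUchar : ∀ j, 2 ≤ j → ∀ (a : MulAut E) (x : E), x ∈ U j → a x ∈ U j := by
    intro j hj a x hx
    obtain ⟨i, rfl⟩ : ∃ i, j = i + 1 := ⟨j - 1, by omega⟩
    rw [hUj i (by omega)] at hx ⊢
    exact (PGroup.aut_mem_iff a x).2 hx
  have hU1 : ∀ x : E, x ∈ U 1 ↔ ∀ v ∈ U 2, ⁅x, v⁆ ∈ U 4 := by
    intro x
    constructor
    · intro hx v hv
      show ι ⁅x, v⁆ ∈ L S 4
      rw [map_commutatorElement]
      exact comm_L_mem (by omega) (show ι x ∈ L S 1 from hx) (show ι v ∈ L S 2 from hv)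
    · intro h
      by_contra hx
      have hx2 : ι x ∈ twoStep S 2 := mem_twoStep.2 fun u hu => by
        obtain ⟨v, rfl⟩ : u ∈ ι.range := hιr.symm ▸ hL1 (Subgroup.lowerCentralSeries_antitone _ one_le_two hu)
        rw [← map_commutatorElement]
        exact h v hu
      refine hnts 2 (by omega) (by omega) ?_
      rw [← c.gen_twoStep (by omega) (by omega) hx2 hx]
      refine PGroup.eq_of_le_of_card_le (sup_le hL1 (zpowers_le.mpr (hιr ▸ ⟨x, rfl⟩))) ?_
      rw [c.gen_twoStep (by omega) (by omega) hx2 hx, c.card_twoStep (by omega) (by omega), hcard]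
  have hUinv : ∀ j, 1 ≤ j → ∀ (a : MulAut E) (x : E), x ∈ U j → a x ∈ U j := by
    intro j hj a x hx
    rcases (show j = 1 ∨ 2 ≤ j by omega) with rfl | h2
    · rw [hU1] at hx ⊢
      intro v hv
      have := hUchar 4 (by omega) a _ (hx _ (hUchar 2 le_rfl a⁻¹ v hv))
      rwa [map_commutatorElement, MulAut.apply_inv_self] at this
    · exact hUchar j h2 a x hx
  have hUcard : ∀ j, 1 ≤ j → Nat.card (U j) = p ^ (n - 1 - j) := fun j hj => by
    rw [← c.card_L hj, ← card_map_of_injective (K := U j) hιi, map_comap_eq, hιr,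
      inf_eq_right.2 ((Subgroup.lowerCentralSeries_antitone _ hj).trans hL1)]
  obtain ⟨a, ha, hai, l, hl⟩ := s'.outer
  let V : ℕ → Subgroup E := fun i => if i < n - 1 then U (n - 1 - i) else ⊤
  refine hai (s'.mem_inn_of_chain (n - 1) V ?_ (if_neg (lt_irrefl _)) ?_ ?_ ha ?_)
  · show (if 0 < n - 1 then U (n - 1 - 0) else ⊤) = ⊥
    rw [if_pos (by omega)]
    exact Subgroup.eq_bot_of_card_eq _ (by rw [hUcard _ (by omega), show n - 1 - (n - 1 - 0) = 0 by omega, pow_zero])
  · intro i hi
    show (if i < n - 1 then U (n - 1 - i) else ⊤) ≤ (if i + 1 < n - 1 then U (n - 1 - (i + 1)) else ⊤)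
    rw [if_pos hi]
    split
    · exact comap_mono (Subgroup.lowerCentralSeries_antitone _ (by omega))
    · exact le_top
  · intro b _ i hi x hx
    revert hx
    show x ∈ (if i < n - 1 then U (n - 1 - i) else ⊤) → b x ∈ (if i < n - 1 then U (n - 1 - i) else ⊤)
    split
    · exact hUinv _ (by omega) b x
    · exact fun _ => mem_top _
  · intro i hi x hx
    revert hx
    show x ∈ (if i + 1 < n - 1 then U (n - 1 - (i + 1)) else ⊤) → x⁻¹ * a x ∈ (if i < n - 1 then U (n - 1 - i) else ⊤)
    rw [if_pos hi]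
    intro hx
    split at hx
    · refine EssentialSmall.mul_apply_mem_of_card_le s'.pgroup
        (comap_mono (Subgroup.lowerCentralSeries_antitone _ (by omega))) ?_ hl (hUinv _ (by omega) a)
        (hUinv _ (by omega) a) hx
      rw [hUcard _ (by omega), hUcard _ (by omega), ← pow_succ']
      exact Nat.pow_le_pow_right hp.out.pos (by omega)
    · refine EssentialSmall.mul_apply_mem_of_card_le s'.pgroup le_top ?_ hl (hUinv _ (by omega) a)
        (fun _ _ => mem_top _) hx
      rw [hUcard _ (by omega), card_top, hcY, ← pow_succ']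
      exact Nat.pow_le_pow_right hp.out.pos (by omega)

end Cfsg.Agent.UniserialSE
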