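import Cfsg.Agent.Lib.UniserialSE.Basic
import Mathlib.GroupTheory.GroupAction.Quotient
import Mathlib.Algebra.BigOperators.Ring.Finset
import Mathlib.Algebra.Polynomial.Eval.Defs

/-!
# Fixed vectors of tensor powers of the adjoint module by a relative trace

* `rep r` : the `r`-th tensor power of the adjoint representation, graded by `wtT`
* `exists_fixed_one`, `exists_fixed_two` : a fixed vector of `N` extends to one of `H` with an error in high degree
-/

set_option autoImplicit false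
set_option linter.unusedSectionVars false
set_option linter.style.haveILetI false

open Matrix

namespace Cfsg.Agent.UniserialSE

variable {p : ℕ} [Fact p.Prime] {m : ℕ} {ι : Type*} [Fintype ι] [DecidableEq ι]

/-- `M` raises the weight by at least `s`. -/
def Raise (wt : ι → ℤ) (s : ℤ) (M : Matrix ι ι (ZMod p)) : Prop :=
  ∀ I J, wt I < wt J + s → M I J = 0

theorem Raise.mono {wt : ι → ℤ} {s t : ℤ} {M : Matrix ι ι (ZMod p)} (h : Raise wt s M) (hts : t ≤ s) :
    Raise wt t M := fun I J hIJ => h I J (by omega)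

theorem Raise.mul {wt : ι → ℤ} {s t : ℤ} {M M' : Matrix ι ι (ZMod p)} (h : Raise wt s M) (h' : Raise wt t M') :
    Raise wt (s + t) (M * M') := by
  intro I J hIJ
  rw [Matrix.mul_apply]
  refine Finset.sum_eq_zero fun K _ => ?_
  rcases lt_or_ge (wt I) (wt K + s) with hk | hk
  · rw [h I K hk, zero_mul]
  · rw [h' K J (by omega), mul_zero]

theorem raise_one (wt : ι → ℤ) : Raise wt 0 (1 : Matrix ι ι (ZMod p)) := fun I J h => by
  rw [Matrix.one_apply_ne]; intro e; subst e; omega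

theorem Raise.pow {wt : ι → ℤ} {s : ℤ} {M : Matrix ι ι (ZMod p)} (h : Raise wt s M) :
    ∀ n : ℕ, Raise wt (n * s) (M ^ n)
  | 0 => by simpa using raise_one wt
  | n + 1 => by rw [pow_succ, Nat.cast_succ, add_mul, one_mul]; exact (h.pow n).mul h

theorem Raise.mulVec {wt : ι → ℤ} {s d : ℤ} {M : Matrix ι ι (ZMod p)} (h : Raise wt s M) {v : ι → ZMod p}
    (hv : ∀ I, wt I < d → v I = 0) : ∀ I, wt I < d + s → (M *ᵥ v) I = 0 := by
  intro I hI
  rw [Matrix.mulVec, dotProduct]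
  refine Finset.sum_eq_zero fun J _ => ?_
  rcases lt_or_ge (wt J) d with hJ | hJ
  · rw [hv J hJ, mul_zero]
  · rw [h I J (by omega), zero_mul]

/-- The tensor power of a matrix. -/
def kron (r : ℕ) (M : Matrix ι ι (ZMod p)) : Matrix (Fin r → ι) (Fin r → ι) (ZMod p) :=
  Matrix.of fun I J => ∏ k, M (I k) (J k)

theorem kron_mul (r : ℕ) (M M' : Matrix ι ι (ZMod p)) : kron r (M * M') = kron r M * kron r M' := by
  ext I J
  simp only [kron, Matrix.of_apply, Matrix.mul_apply]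
  rw [Finset.prod_univ_sum, Fintype.piFinset_univ]
  exact Finset.sum_congr rfl fun K _ => Finset.prod_mul_distrib

theorem kron_one (r : ℕ) : kron r (1 : Matrix ι ι (ZMod p)) = 1 := by
  ext I J
  simp only [kron, Matrix.of_apply]
  rcases eq_or_ne I J with rfl | h
  · simp
  · obtain ⟨k, hk⟩ := Function.ne_iff.1 h
    rw [Matrix.one_apply_ne h]
    exact Finset.prod_eq_zero (Finset.mem_univ k) (Matrix.one_apply_ne hk)

theorem kron_mulVec_prod (r : ℕ) (M : Matrix ι ι (ZMod p)) (x : Fin r → ι → ZMod p) :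
    kron r M *ᵥ (fun I => ∏ k, x k (I k)) = fun I => ∏ k, (M *ᵥ x k) (I k) := by
  ext I
  simp only [Matrix.mulVec, dotProduct, kron, Matrix.of_apply]
  rw [Finset.prod_univ_sum, Fintype.piFinset_univ]
  exact Finset.sum_congr rfl fun K _ => Finset.prod_mul_distrib.symm

/-- The weight of a tensor. -/
def wtK (wt : ι → ℤ) (r : ℕ) (I : Fin r → ι) : ℤ := ∑ k, wt (I k)

theorem raise_kron_sub_one {wt : ι → ℤ} {i : ℤ} (hi : 1 ≤ i) {M : Matrix ι ι (ZMod p)}
    (h : Raise wt i (M - 1)) (r : ℕ) : Raise (wtK wt r) i (kron r M - 1) := by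
  intro I J hIJ
  have h0 : ∀ a b : ι, wt a < wt b + i → M a b = if a = b then 1 else 0 := by
    intro a b hab
    have := h a b hab
    rw [Matrix.sub_apply, sub_eq_zero, Matrix.one_apply] at this
    exact this
  rw [Matrix.sub_apply, sub_eq_zero]
  simp only [kron, Matrix.of_apply]
  rcases eq_or_ne I J with rfl | hne
  · rw [Matrix.one_apply_eq]
    exact Finset.prod_eq_one fun k _ => by rw [h0 _ _ (by omega), if_pos rfl]
  · rw [Matrix.one_apply_ne hne]
    by_contra hp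
    have hk : ∀ k, I k = J k ∨ wt (J k) + i ≤ wt (I k) := by
      intro k
      by_contra hc
      push Not at hc
      refine hp (Finset.prod_eq_zero (Finset.mem_univ k) ?_)
      rw [h0 _ _ hc.2, if_neg hc.1]
    obtain ⟨k, hkne⟩ := Function.ne_iff.1 hne
    have h1 : wtK wt r J + i ≤ wtK wt r I := by
      have hk' := (hk k).resolve_left hkne
      rw [wtK, wtK, ← Finset.add_sum_erase _ _ (Finset.mem_univ k), ← Finset.add_sum_erase _ _ (Finset.mem_univ k)]
      have : ∑ l ∈ Finset.univ.erase k, wt (J l) ≤ ∑ l ∈ Finset.univ.erase k, wt (I l) :=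
        Finset.sum_le_sum fun l _ => by rcases hk l with e | e <;> [rw [e]; omega]
      omega
    omega

/-- The weight on matrix positions. -/
def wtA (x : Fin m × Fin m) : ℤ := (x.1 : ℕ) - (x.2 : ℕ)

/-- The adjoint action. -/
def adj : Gl p m →* Matrix (Fin m × Fin m) (Fin m × Fin m) (ZMod p) where
  toFun g := Matrix.of fun x y => (g : Mat p m) x.1 y.1 * ((g⁻¹ : Gl p m) : Mat p m) y.2 x.2
  map_one' := by
    ext x y
    simp [Matrix.one_apply, Prod.ext_iff]
    split_ifs <;> simp_all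
  map_mul' g h := by
    ext x y
    simp only [Matrix.of_apply, Matrix.mul_apply, _root_.mul_inv_rev, Units.val_mul, Fintype.sum_prod_type,
      Finset.sum_mul_sum]
    exact Finset.sum_congr rfl fun a _ => Finset.sum_congr rfl fun b _ => by ring

/-- A matrix as a vector. -/
def vec (X : Mat p m) : Fin m × Fin m → ZMod p := fun x => X x.1 x.2

theorem adj_vec (g : Gl p m) (X : Mat p m) :
    adj g *ᵥ vec X = vec ((g : Mat p m) * X * ((g⁻¹ : Gl p m) : Mat p m)) := by
  ext x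
  simp only [adj, vec, Matrix.mulVec, dotProduct, MonoidHom.coe_mk, OneHom.coe_mk, Matrix.of_apply,
    Matrix.mul_apply, Fintype.sum_prod_type, Finset.sum_mul]
  rw [Finset.sum_comm]
  exact Finset.sum_congr rfl fun a _ => Finset.sum_congr rfl fun b _ => by ring

theorem raise_adj {i : ℕ} (hi : 1 ≤ i) {g : Gl p m} (hg : g ∈ near p m i) :
    Raise wtA (i : ℤ) (adj g - 1) := by
  intro x y hxy
  have hg' := inv_mem hg
  rw [Matrix.sub_apply, sub_eq_zero]
  show (g : Mat p m) x.1 y.1 * ((g⁻¹ : Gl p m) : Mat p m) y.2 x.2 = _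
  have e1 : ∀ (k : Gl p m), k ∈ near p m i → ∀ a b : Fin m, (a : ℕ) < b + i →
      (k : Mat p m) a b = if a = b then 1 else 0 := fun k hk a b hab => by
    have := hk a b hab
    rw [Matrix.sub_apply, sub_eq_zero, Matrix.one_apply] at this
    exact this
  simp only [wtA] at hxy
  simp only [Matrix.one_apply, Prod.ext_iff]
  rcases Nat.lt_or_ge (x.1 : ℕ) (y.1 + i) with h1 | h1
  · rw [e1 g hg _ _ h1]
    rcases Nat.lt_or_ge (y.2 : ℕ) (x.2 + i) with h2 | h2
    · rw [e1 g⁻¹ hg' _ _ h2]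
      by_cases ha : x.1 = y.1
      · by_cases hb : y.2 = x.2
        · rw [if_pos ha, if_pos hb, if_pos ⟨ha, hb.symm⟩, mul_one]
        · rw [if_neg hb, mul_zero, if_neg]
          exact fun h => hb h.2.symm
      · rw [if_neg ha, zero_mul, if_neg]
        exact fun h => ha h.1
    · by_cases he : x.1 = y.1
      · rw [he] at hxy; omega
      · simp [he]
  · rcases Nat.lt_or_ge (y.2 : ℕ) (x.2 + i) with h2 | h2
    · rw [e1 g⁻¹ hg' _ _ h2]
      by_cases he : y.2 = x.2
      · rw [he] at hxy; omega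
      · rw [if_neg he, mul_zero, if_neg]
        exact fun h => he h.2.symm
    · omega

/-- The weight on tensors. -/
def wtT (m r : ℕ) : (Fin r → Fin m × Fin m) → ℤ := wtK wtA r

/-- The tensor power of the adjoint representation. -/
def rep (r : ℕ) : Gl p m →* Matrix (Fin r → Fin m × Fin m) (Fin r → Fin m × Fin m) (ZMod p) where
  toFun g := kron r (adj g)
  map_one' := by rw [map_one, kron_one]
  map_mul' g h := by rw [map_mul, kron_mul]

/-- The tensor of a family of matrices. -/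
def tens {r : ℕ} (X : Fin r → Mat p m) : (Fin r → Fin m × Fin m) → ZMod p :=
  fun I => ∏ k, vec (X k) (I k)

theorem rep_tens {r : ℕ} (g : Gl p m) (X : Fin r → Mat p m) :
    rep r g *ᵥ tens X = tens fun k => (g : Mat p m) * X k * ((g⁻¹ : Gl p m) : Mat p m) := by
  rw [show rep r g = kron r (adj g) from rfl]
  unfold tens
  rw [kron_mulVec_prod]
  simp only [adj_vec]

theorem raise_rep {i : ℕ} (hi : 1 ≤ i) {g : Gl p m} (hg : g ∈ near p m i) (r : ℕ) :
    Raise (wtT m r) (i : ℤ) (rep r g - 1) :=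
  raise_kron_sub_one (by omega) (raise_adj hi hg) r

theorem wtT_ge (r : ℕ) (I : Fin r → Fin m × Fin m) : -((r * (m - 1) : ℕ) : ℤ) ≤ wtT m r I := by
  have h : ∀ k ∈ (Finset.univ : Finset (Fin r)), -((m - 1 : ℕ) : ℤ) ≤ wtA (I k) := fun k _ => by
    have := (I k).1.2; have := (I k).2.2
    simp only [wtA]; omega
  have h2 := Finset.card_nsmul_le_sum _ _ _ h
  rw [Finset.card_univ, Fintype.card_fin, nsmul_eq_mul] at h2
  rw [wtT, wtK]
  push_cast
  linarith

theorem wtT_le (r : ℕ) (I : Fin r → Fin m × Fin m) : wtT m r I ≤ ((r * (m - 1) : ℕ) : ℤ) := by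
  have h : ∀ k ∈ (Finset.univ : Finset (Fin r)), wtA (I k) ≤ ((m - 1 : ℕ) : ℤ) := fun k _ => by
    have := (I k).1.2; have := (I k).2.2
    simp only [wtA]; omega
  have h2 := Finset.sum_le_card_nsmul _ _ _ h
  rw [Finset.card_univ, Fintype.card_fin, nsmul_eq_mul] at h2
  rw [wtT, wtK]
  push_cast
  linarith

/-! ### The relative trace -/

theorem exists_trace {G : Type*} [Group G] [Finite G] (τ : G →* Matrix ι ι (ZMod p)) (N A : Subgroup G)
    [Fintype A] (hAN : A ≤ N) {v : ι → ZMod p} (hv : ∀ n ∈ N, τ n *ᵥ v = v)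
    (hfree : ∀ a ∈ A, ∀ x : G, x⁻¹ * a * x ∈ N → a = 1 ∨ x ∈ N) :
    ∃ w : ι → ZMod p, ∀ g : G, τ g *ᵥ (v + (∑ a : A, τ (a : G)) *ᵥ w) = v + (∑ a : A, τ (a : G)) *ᵥ w := by
  classical
  haveI : Fintype (G ⧸ N) := Fintype.ofFinite _
  let f : G ⧸ N → ι → ZMod p := fun q => τ q.out *ᵥ v
  have hf : ∀ (g : G) (q : G ⧸ N), f (g • q) = τ g *ᵥ f q := by
    intro g q
    show τ (g • q).out *ᵥ v = τ g *ᵥ (τ q.out *ᵥ v)
    have h1 : ((g • q).out : G ⧸ N) = ((g * q.out : G) : G ⧸ N) := by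
      rw [QuotientGroup.out_eq']
      conv_lhs => rw [← QuotientGroup.out_eq' q]
      rfl
    obtain ⟨n, hn⟩ : ∃ n : N, (g • q).out = g * q.out * n :=
      ⟨⟨(g * q.out)⁻¹ * (g • q).out, QuotientGroup.eq.1 h1.symm⟩, by group⟩
    rw [hn, map_mul, map_mul, ← Matrix.mulVec_mulVec, hv n n.2, Matrix.mulVec_mulVec]
  set q0 : G ⧸ N := ((1 : G) : G ⧸ N)
  have hf0 : f q0 = v := by
    refine hv _ ?_
    have h := QuotientGroup.out_eq' q0
    rw [QuotientGroup.eq, mul_one] at h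
    exact N.inv_mem_iff.1 h
  have hA0 : ∀ a ∈ A, a • q0 = q0 := by
    intro a ha
    rw [MulAction.Quotient.smul_coe, smul_eq_mul, mul_one, QuotientGroup.eq, mul_one]
    exact inv_mem (hAN ha)
  let Ω := {q : G ⧸ N // q ≠ q0}
  letI : MulAction A Ω :=
    { smul := fun a q => ⟨(a : G) • q.1, fun h => q.2 (by
        have := congrArg (fun x => (a : G)⁻¹ • x) h
        simpa [hA0 _ (inv_mem a.2)] using this)⟩
      one_smul := fun q => Subtype.ext (by show ((1 : A) : G) • q.1 = q.1; simp)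
      mul_smul := fun a b q => Subtype.ext (by
        show ((a * b : A) : G) • q.1 = (a : G) • ((b : G) • q.1); simp [mul_smul]) }
  have hΩfree : ∀ (a : A) (q : Ω), a • q = q → a = 1 := by
    intro a q h
    have h1 : (a : G) • q.1 = q.1 := congrArg Subtype.val h
    rw [← QuotientGroup.out_eq' q.1, MulAction.Quotient.smul_coe, smul_eq_mul, QuotientGroup.eq] at h1
    have h2 : (q.1.out)⁻¹ * (a : G) * q.1.out ∈ N := by
      have := N.inv_mem h1
      simpa [mul_assoc] using this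
    rcases hfree a a.2 _ h2 with h3 | h3
    · exact Subtype.ext h3
    · refine absurd ?_ q.2
      rw [← QuotientGroup.out_eq' q.1, QuotientGroup.eq, mul_one]
      exact inv_mem h3
  have := Fintype.ofFinite (Quotient (MulAction.orbitRel A Ω))
  let φ : A × Quotient (MulAction.orbitRel A Ω) → Ω := fun z => z.1 • z.2.out
  have hout : ∀ (a : A) (c : Ω), Quotient.mk (MulAction.orbitRel A Ω) (a • c) = Quotient.mk _ c :=
    fun a c => Quotient.sound (MulAction.mem_orbit c a)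
  have hφ : Function.Bijective φ := by
    refine ⟨fun z z' h => ?_, fun c => ?_⟩
    · have h2 : z.2 = z'.2 := by
        have := ((hout z.1 z.2.out).symm.trans
          (congrArg (fun c => Quotient.mk (MulAction.orbitRel A Ω) c) h)).trans (hout z'.1 z'.2.out)
        rwa [Quotient.out_eq, Quotient.out_eq] at this
      refine Prod.ext ?_ h2
      simp only [φ, h2] at h
      have := hΩfree (z'.1⁻¹ * z.1) z'.2.out (by rw [mul_smul, h, inv_smul_smul])
      exact (inv_mul_eq_one.1 this).symm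
    · obtain ⟨a, ha⟩ := Quotient.mk_out (s := MulAction.orbitRel A Ω) c
      exact ⟨(a⁻¹, Quotient.mk _ c), by simp only [φ]; rw [← ha, inv_smul_smul]⟩
  refine ⟨∑ o : Quotient (MulAction.orbitRel A Ω), f o.out.1, ?_⟩
  have hsum : ∑ q, f q = v + (∑ a : A, τ (a : G)) *ᵥ ∑ o : Quotient (MulAction.orbitRel A Ω), f o.out.1 := by
    rw [Fintype.sum_eq_add_sum_subtype_ne f q0, hf0]
    congr 1
    rw [← (Equiv.ofBijective φ hφ).sum_comp (fun q : Ω => f q.1), Fintype.sum_prod_type, Matrix.sum_mulVec]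
    refine Finset.sum_congr rfl fun a _ => ?_
    rw [Matrix.mulVec_sum]
    exact Finset.sum_congr rfl fun o _ => hf a o.out.1
  intro g
  rw [← hsum, Matrix.mulVec_sum]
  calc ∑ q, τ g *ᵥ f q = ∑ q, f (g • q) := Finset.sum_congr rfl fun q _ => (hf g q).symm
    _ = ∑ q, f q := Equiv.sum_comp (MulAction.toPerm g) f

open Polynomial in
theorem geom_sum_eq (M : Matrix ι ι (ZMod p)) : ∑ j ∈ Finset.range p, M ^ j = (M - 1) ^ (p - 1) := by
  have h : ∑ j ∈ Finset.range p, (X : (ZMod p)[X]) ^ j = (X - 1) ^ (p - 1) := by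
    refine mul_right_cancel₀ (b := (X : (ZMod p)[X]) - 1) ?_ ?_
    · simpa using X_sub_C_ne_zero (1 : ZMod p)
    · rw [geom_sum_mul, ← pow_succ, Nat.sub_add_cancel (Fact.out : p.Prime).one_le, sub_pow_char, one_pow]
  have h2 := congrArg (aeval M) h
  simpa using h2

/-- The two cases in one: the trace over `⟨u⟩`. -/
theorem exists_fixed_one {H : Subgroup (Gl p m)} (r : ℕ) (N : Subgroup H) {u : H}
    (huN : u ∈ N) (hu : orderOf u = p) (hu1 : (u : Gl p m) ∈ near p m 1)
    {v : (Fin r → Fin m × Fin m) → ZMod p} (hv : ∀ n ∈ N, rep r (n : Gl p m) *ᵥ v = v)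
    (hfree : ∀ a ∈ Subgroup.zpowers u, ∀ x : H, x⁻¹ * a * x ∈ N → a = 1 ∨ x ∈ N) :
    ∃ err : (Fin r → Fin m × Fin m) → ZMod p,
      (∀ g ∈ H, rep r g *ᵥ (v + err) = v + err) ∧
      ∀ I, wtT m r I < ((p - 1 : ℕ) : ℤ) - (r * (m - 1) : ℕ) → err I = 0 := by
  classical
  haveI : Fintype (Subgroup.zpowers u) := Fintype.ofFinite _
  obtain ⟨w, hw⟩ := exists_trace ((rep r).comp H.subtype) N (Subgroup.zpowers u)
    (Subgroup.zpowers_le.2 huN) hv hfree
  refine ⟨(∑ a : Subgroup.zpowers u, rep r ((a : H) : Gl p m)) *ᵥ w, fun g hg => hw ⟨g, hg⟩, ?_⟩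
  have hS : ∑ a : Subgroup.zpowers u, rep r ((a : H) : Gl p m) = (rep r (u : Gl p m) - 1) ^ (p - 1) := by
    rw [← geom_sum_eq, Finset.sum_range]
    refine (Fintype.sum_equiv ((finCongr hu.symm).trans (finEquivZPowers (isOfFinOrder_of_finite u))) _ _
      fun j => ?_).symm
    simp [finEquivZPowers_apply, map_pow]
  rw [hS]
  intro I hI
  refine ((raise_rep le_rfl hu1 r).pow (p - 1)).mulVec (d := -((r * (m - 1) : ℕ) : ℤ))
    (fun J hJ => absurd (wtT_ge r J) (not_le.2 hJ)) I ?_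
  simp only [Nat.cast_one, mul_one]
  omega

/-- The trace over `⟨u⟩ × ⟨z⟩`. -/
theorem exists_fixed_two {H : Subgroup (Gl p m)} (r : ℕ) (N : Subgroup H) {u z : H}
    (huN : u ∈ N) (hzN : z ∈ N) (huz : Commute u z) (hu : orderOf u = p) (hz : orderOf z = p)
    (hne : z ∉ Subgroup.zpowers u) {i : ℕ} (hi : 1 ≤ i)
    (hu1 : (u : Gl p m) ∈ near p m 1) (hzi : (z : Gl p m) ∈ near p m i)
    {v : (Fin r → Fin m × Fin m) → ZMod p} (hv : ∀ n ∈ N, rep r (n : Gl p m) *ᵥ v = v)
    (hfree : ∀ (a b : ℕ), ∀ x : H, x⁻¹ * (u ^ a * z ^ b) * x ∈ N → u ^ a * z ^ b = 1 ∨ x ∈ N) :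
    ∃ err : (Fin r → Fin m × Fin m) → ZMod p,
      (∀ g ∈ H, rep r g *ᵥ (v + err) = v + err) ∧
      ∀ I, wtT m r I < (((p - 1) * (1 + i) : ℕ) : ℤ) - (r * (m - 1) : ℕ) → err I = 0 := by
  classical
  let φ : Fin p × Fin p → H := fun ab => u ^ (ab.1 : ℕ) * z ^ (ab.2 : ℕ)
  let A : Subgroup H := Subgroup.closure {u, z}
  have hp0 : 0 < p := (Fact.out : p.Prime).pos
  have hup : u ^ p = 1 := (congrArg (u ^ ·) hu.symm).trans (pow_orderOf_eq_one u)
  have hzp : z ^ p = 1 := (congrArg (z ^ ·) hz.symm).trans (pow_orderOf_eq_one z)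
  have hrange : ∀ x, x ∈ A ↔ ∃ a b : ℕ, u ^ a * z ^ b = x := by
    intro x
    refine ⟨fun hx => ?_, fun ⟨a, b, h⟩ => h ▸ mul_mem (pow_mem (Subgroup.subset_closure (by simp)) _)
      (pow_mem (Subgroup.subset_closure (by simp)) _)⟩
    induction hx using Subgroup.closure_induction with
    | mem y hy =>
      rcases hy with rfl | rfl
      · exact ⟨1, 0, by simp⟩
      · exact ⟨0, 1, by simp⟩
    | one => exact ⟨0, 0, by simp⟩
    | mul x y _ _ hx hy =>
      obtain ⟨a, b, rfl⟩ := hx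
      obtain ⟨c, d, rfl⟩ := hy
      refine ⟨a + c, b + d, ?_⟩
      rw [pow_add, pow_add, (huz.pow_pow c b).mul_mul_mul_comm (u ^ a) (z ^ d)]
    | inv x _ hx =>
      obtain ⟨a, b, rfl⟩ := hx
      refine ⟨(p - 1) * a, (p - 1) * b, (inv_eq_of_mul_eq_one_right ?_).symm⟩
      rw [((huz.pow_pow ((p - 1) * a) b).symm).mul_mul_mul_comm (u ^ a) (z ^ ((p - 1) * b)), ← pow_add, ← pow_add]
      rw [show a + (p - 1) * a = p * a by obtain ⟨q, rfl⟩ := Nat.exists_eq_add_of_le' hp0; simp; ring,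
        show b + (p - 1) * b = p * b by obtain ⟨q, rfl⟩ := Nat.exists_eq_add_of_le' hp0; simp; ring,
        pow_mul, pow_mul, hup, hzp, one_pow, one_pow, one_mul]
  have hbij : Function.Bijective (fun ab => (⟨φ ab, (hrange _).2 ⟨_, _, rfl⟩⟩ : A)) := by
    refine ⟨fun x y h => ?_, fun ⟨x, hx⟩ => ?_⟩
    · have h1 : φ x = φ y := congrArg Subtype.val h
      have h2 : (u ^ (y.1 : ℕ))⁻¹ * u ^ (x.1 : ℕ) = z ^ (y.2 : ℕ) * (z ^ (x.2 : ℕ))⁻¹ := by
        rw [inv_mul_eq_iff_eq_mul, ← mul_assoc, eq_mul_inv_iff_mul_eq]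
        exact h1
      set k : H := (u ^ (y.1 : ℕ))⁻¹ * u ^ (x.1 : ℕ) with hk
      have hk1 : k = 1 := by
        by_contra hk1
        have hkz : k ∈ Subgroup.zpowers z := h2 ▸ mul_mem (pow_mem (Subgroup.mem_zpowers z) _)
          (inv_mem (pow_mem (Subgroup.mem_zpowers z) _))
        have hku : k ∈ Subgroup.zpowers u := mul_mem (inv_mem (pow_mem (Subgroup.mem_zpowers u) _))
          (pow_mem (Subgroup.mem_zpowers u) _)
        have hcard : Nat.card (Subgroup.zpowers k) = p := by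
          refine ((Nat.dvd_prime (Fact.out : p.Prime)).1 ?_).resolve_left ?_
          · have := Subgroup.card_dvd_of_le (Subgroup.zpowers_le.2 hkz)
            rwa [Nat.card_zpowers z, hz] at this
          · rw [Nat.card_zpowers]; exact fun e => hk1 (orderOf_eq_one_iff.1 e)
        have hzk : Subgroup.zpowers k = Subgroup.zpowers z :=
          Subgroup.eq_of_le_of_card_ge (Subgroup.zpowers_le.2 hkz) (by rw [hcard, Nat.card_zpowers, hz])
        exact hne ((Subgroup.zpowers_le.2 hku) (hzk ▸ Subgroup.mem_zpowers z))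
      refine Prod.ext (Fin.ext (pow_injOn_Iio_orderOf (x := u) ?_ ?_ ?_))
        (Fin.ext (pow_injOn_Iio_orderOf (x := z) ?_ ?_ ?_))
      · simp [hu]
      · simp [hu]
      · exact (inv_mul_eq_one.1 hk1).symm
      · simp [hz]
      · simp [hz]
      · exact (mul_inv_eq_one.1 (h2 ▸ hk1)).symm
    · obtain ⟨a, b, rfl⟩ := (hrange x).1 hx
      refine ⟨(⟨a % p, Nat.mod_lt _ hp0⟩, ⟨b % p, Nat.mod_lt _ hp0⟩), Subtype.ext ?_⟩
      simp only [φ]
      rw [← pow_eq_pow_mod a hup, ← pow_eq_pow_mod b hzp]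
  haveI : Fintype A := Fintype.ofFinite _
  obtain ⟨w, hw⟩ := exists_trace ((rep r).comp H.subtype) N A
    ((Subgroup.closure_le N).2 (by rintro x (rfl | rfl) <;> assumption)) hv
    (fun a ha x hx => by obtain ⟨c, d, rfl⟩ := (hrange a).1 ha; exact hfree c d x hx)
  refine ⟨(∑ a : A, rep r ((a : H) : Gl p m)) *ᵥ w, fun g hg => hw ⟨g, hg⟩, ?_⟩
  have hS : ∑ a : A, rep r ((a : H) : Gl p m) =
      (rep r (u : Gl p m) - 1) ^ (p - 1) * (rep r (z : Gl p m) - 1) ^ (p - 1) := by
    rw [← Fintype.sum_equiv (Equiv.ofBijective _ hbij)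
      (fun ab => rep r ((φ ab : H) : Gl p m)) _ (fun ab => rfl), ← geom_sum_eq, ← geom_sum_eq,
      Finset.sum_range, Finset.sum_range, Finset.sum_mul_sum, Fintype.sum_prod_type]
    simp [φ, map_mul, map_pow]
  rw [hS]
  intro I hI
  refine (((raise_rep le_rfl hu1 r).pow (p - 1)).mul ((raise_rep hi hzi r).pow (p - 1))).mulVec
    (d := -((r * (m - 1) : ℕ) : ℤ)) (fun J hJ => absurd (wtT_ge r J) (not_le.2 hJ)) I ?_
  have e : (((p - 1) * (1 + i) : ℕ) : ℤ) = ((p - 1 : ℕ) : ℤ) * ((1 : ℕ) : ℤ) + ((p - 1 : ℕ) : ℤ) * (i : ℤ) := by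
    push_cast; ring
  omega

end Cfsg.Agent.UniserialSE
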