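import Cfsg.Agent.Lib.UniserialSE.Reduce
import Cfsg.Agent.Lib.UniserialSE.Trace

/-!
# Abelian Sylow subgroup with a regular unipotent and trivial `p`-core

`false_of_ab` : there is no such group in dimension less than `p` once either the Sylow subgroup is not of
prime order, or the dimension is below `(p - 1) / 2` and the weights are killed by an exponent at most the dimension.
-/

set_option autoImplicit false
set_option linter.unusedSectionVars false
set_option linter.style.haveILetI false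

open Matrix

namespace Cfsg.Agent.UniserialSE

variable {p : ℕ} [Fact p.Prime] {m : ℕ}

theorem mem_normalizer_of_conj_mem {G : Type*} [Group G] [Finite G] {T : Subgroup G} {g : G}
    (h : ∀ t ∈ T, g * t * g⁻¹ ∈ T) : g ∈ Subgroup.normalizer (T : Set G) :=
  Subgroup.mem_normalizer_fintype h

/-- Anything commuting with a regular nilpotent polynomial in the shift commutes with the shift. -/
theorem commute_of_commute_regular {g X : Mat p m} (hX : Commute X (shift p m)) (hd : Deg 1 X)
    (h1 : co X 1 ≠ 0) (hg : Commute g X) : Commute g (shift p m) := by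
  have key : ∀ n : ℕ, ∀ s, m ≤ s + n → ∀ Y : Mat p m, Commute Y (shift p m) → Deg s Y → Commute g Y := by
    intro n
    induction n with
    | zero =>
      intro s hs Y _ hY
      rw [hY.eq_zero (by omega)]; exact Commute.zero_right _
    | succ n ih =>
      intro s hs Y hYc hY
      by_cases hsm : m ≤ s
      · rw [hY.eq_zero hsm]; exact Commute.zero_right _
      · set a := co Y s * (co X 1 ^ s)⁻¹
        have h2 : Deg (s + 1) (Y - a • X ^ s) := by
          refine deg_succ_of_co (hYc.sub_left ((hX.pow_left s).smul_left _))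
            (hY.sub ((by simpa using hd.pow s : Deg s (X ^ s)).smul _)) ?_
          rw [co_sub, co_smul, co_pow_one hX hd s (by omega)]
          simp [a, inv_mul_cancel₀ (pow_ne_zero s h1), mul_assoc]
        have h3 := ih (s + 1) (by omega) _ (hYc.sub_left ((hX.pow_left s).smul_left _)) h2
        have := h3.add_right ((hg.pow_right s).smul_right a)
        rwa [sub_add_cancel] at this
  exact key m 1 (by omega) _ (Commute.refl _) deg_shift

theorem near_one_conj {g t : Gl p m} (hg : Deg 0 (g : Mat p m)) (ht : t ∈ near p m 1) :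
    g * t * g⁻¹ ∈ near p m 1 := by
  rw [mem_near, coe_conj, cnj]
  have e : (g : Mat p m) * (t : Mat p m) * ((g⁻¹ : Gl p m) : Mat p m) - 1 =
      (g : Mat p m) * ((t : Mat p m) - 1) * ((g⁻¹ : Gl p m) : Mat p m) := by
    simp [mul_sub, sub_mul]
  rw [e]
  exact (hg.mul ht).mul (deg_zero_inv hg)

theorem co_one_mul {a b : Gl p m} (ha : a ∈ near p m 1) (hb : b ∈ near p m 1) :
    co (((a * b : Gl p m) : Mat p m) - 1) 1 = co ((a : Mat p m) - 1) 1 + co ((b : Mat p m) - 1) 1 := by
  have e : ((a * b : Gl p m) : Mat p m) - 1 = ((a : Mat p m) - 1) * ((b : Mat p m) - 1) +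
      (((a : Mat p m) - 1) + ((b : Mat p m) - 1)) := by
    rw [Units.val_mul]; noncomm_ring
  rw [e, co_add, co_add, (Deg.mul ha hb).co_eq_zero (show 1 < 1 + 1 by omega), zero_add]

/-- Centralizers of `t` in `H` normalize `T`. -/
def Closed (H T : Subgroup (Gl p m)) (t : Gl p m) : Prop :=
  ∀ g ∈ H, g * t = t * g → g ∈ Subgroup.normalizer (T : Set (Gl p m))

/-- Trivial `p`-core. -/
def Core (H : Subgroup (Gl p m)) : Prop :=
  ∀ O : Subgroup (Gl p m), O ≤ H → IsPGroup p O → H ≤ Subgroup.normalizer (O : Set (Gl p m)) → O = ⊥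

/-- No element of `T` is close to the identity, outside dimension three. -/
def Small (T : Subgroup (Gl p m)) : Prop := m = 3 ∨ ∀ t ∈ T, t ≠ 1 → t ∉ near p m ((p - 1) / 2)

namespace Ab

variable {H T : Subgroup (Gl p m)} {u : Gl p m}

theorem mem_nor (hA : Ab H T u) (hmp : m ≤ p) {g : Gl p m} (hg : g ∈ H) (hd : Deg 0 (g : Mat p m)) :
    g ∈ hA.nor := by
  refine ⟨hg, mem_normalizer_of_conj_mem fun t ht => ?_⟩
  have h1 : g * t * g⁻¹ ∈ H ⊓ near p m 1 :=
    ⟨mul_mem (mul_mem hg (hA.le ht)) (H.inv_mem hg), near_one_conj hd (hA.le_near ht)⟩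
  rwa [hA.max _ inf_le_left ((isPGroup_near hmp).to_inf_right) (le_inf hA.le hA.le_near)] at h1

theorem le_T (hA : Ab H T u) {Q : Subgroup (Gl p m)} (hQ : Q ≤ H) (hQp : IsPGroup p Q)
    (hQn : T ≤ Subgroup.normalizer (Q : Set (Gl p m))) : Q ≤ T := by
  have := hA.max _ (sup_le hA.le hQ) (hA.pgroup.to_sup_of_normal_right' hQp hQn) le_sup_left
  exact this ▸ le_sup_right

theorem mem_T_of_pow (hA : Ab H T u) (hmp : m ≤ p) {g : Gl p m} (hg : g ∈ hA.nor) {k : ℕ}
    (hk : g ^ p ^ k = 1) : g ∈ T := by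
  have h1 : g ∈ H ⊓ near p m 1 := ⟨hg.1, mem_near_one_of_deg (hA.nor_deg hg) hk⟩
  rwa [hA.max _ inf_le_left ((isPGroup_near hmp).to_inf_right) (le_inf hA.le hA.le_near)] at h1

theorem conj_mem_T (hA : Ab H T u) (hmp : m ≤ p) {g t : Gl p m} (ht : t ∈ T)
    (h : g * t * g⁻¹ ∈ hA.nor) : g * t * g⁻¹ ∈ T :=
  hA.mem_T_of_pow hmp h (k := 1) (by
    rw [conj_pow, pow_one, pow_char_eq_one (hA.le_near ht) hmp, mul_one, mul_inv_cancel])

theorem co_cnj (hA : Ab H T u) {g : Gl p m} (hg : g ∈ hA.nor) {X : Mat p m} (hX : Commute X (shift p m))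
    {i : ℕ} (hi : Deg i X) (him : i < m) : co (cnj g X) i = wgt g ^ i * co X i := by
  obtain ⟨hc, hd⟩ := hA.nor_shift hg
  have e : cnj g X = ∑ s ∈ Finset.range m, co X s • cnj g (shift p m) ^ s := by
    conv_lhs => rw [eq_sum_of_commute hX, cnj_sum]
    exact Finset.sum_congr rfl fun s _ => by rw [cnj_smul, cnj_pow]
  have hco : ∀ (t : Finset ℕ) (Y : ℕ → Mat p m), co (∑ s ∈ t, Y s) i = ∑ s ∈ t, co (Y s) i := by
    intro t Y
    induction t using Finset.induction_on with
    | empty => simp [co_zero]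
    | insert a t ha ih => rw [Finset.sum_insert ha, Finset.sum_insert ha, co_add, ih]
  rw [e, hco, Finset.sum_eq_single i]
  · rw [co_smul, co_pow_one hc hd i him, mul_comm]; rfl
  · intro s _ hs
    rw [co_smul]
    rcases Nat.lt_or_ge s i with h | h
    · rw [hi.co_eq_zero h, zero_mul]
    · rw [(by simpa using hd.pow s : Deg s (cnj g (shift p m) ^ s)).co_eq_zero (by omega), mul_zero]
  · intro h; exact absurd (Finset.mem_range.2 him) h

theorem commutant_mem_nor (hA : Ab H T u) (hmp : m ≤ p) {g : Gl p m} (hg : g ∈ H)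
    (hc : Commute (g : Mat p m) (shift p m)) : g ∈ hA.nor :=
  hA.mem_nor hmp hg (deg_zero_of_commute hc)

theorem closed_of_regular (hA : Ab H T u) (hmp : m ≤ p) {t : Gl p m} (ht : t ∈ T)
    (h1 : co ((t : Mat p m) - 1) 1 ≠ 0) : Closed H T t := fun g hg hgt =>
  (hA.commutant_mem_nor hmp hg (commute_of_commute_regular
    ((hA.commute_shift ht).sub_left (Commute.one_left _)) (hA.le_near ht) h1
    ((show Commute (g : Mat p m) (t : Mat p m) from congrArg Units.val hgt).sub_right
      (Commute.one_right _)))).2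

theorem ti (hA : Ab H T u) (hmp : m ≤ p) (hcl : ∀ t ∈ T, t ≠ 1 → Closed H T t)
    {a x : Gl p m} (ha : a ∈ T) (hx : x ∈ H) (h : x⁻¹ * a * x ∈ hA.nor) : a = 1 ∨ x ∈ hA.nor := by
  refine or_iff_not_imp_left.2 fun ha1 => ⟨hx, mem_normalizer_of_conj_mem fun t ht => ?_⟩
  have ha' : x⁻¹ * a * x ∈ T := by
    have := hA.conj_mem_T hmp (g := x⁻¹) ha (by simpa using h)
    simpa using this
  refine hA.conj_mem_T hmp ht ⟨mul_mem (mul_mem hx (hA.le ht)) (H.inv_mem hx), hcl a ha ha1 _
    (mul_mem (mul_mem hx (hA.le ht)) (inv_mem hx)) ?_⟩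
  have := congrArg (fun y => x * y * x⁻¹) (hA.comm t ht _ ha')
  simpa [mul_assoc] using this

theorem orderOf_eq (hA : Ab H T u) (hmp : m ≤ p) {t : Gl p m} (ht : t ∈ T) (h1 : t ≠ 1) : orderOf t = p :=
  orderOf_eq_prime (pow_char_eq_one (hA.le_near ht) hmp) h1

theorem u_ne_one (hA : Ab H T u) (hm : 2 ≤ m) : u ≠ 1 := by
  rintro rfl
  have := hA.std
  rw [Units.val_one, left_eq_add] at this
  exact shift_pow_ne_zero (p := p) (show 1 < m by omega) (by rw [pow_one, this])

theorem card_le (hA : Ab H T u) (hT2 : ∀ t ∈ T, t ∈ near p m 2 → t = 1) : Nat.card T ≤ p := by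
  have h : Function.Injective (fun t : T => co (((t : Gl p m) : Mat p m) - 1) 1) := by
    rintro ⟨s, hs⟩ ⟨t, ht⟩ e
    have e1 := co_one_mul (inv_mem (hA.le_near hs)) (hA.le_near ht)
    have e2 := co_one_mul (inv_mem (hA.le_near hs)) (hA.le_near hs)
    simp only [inv_mul_cancel, Units.val_one, sub_self, co_zero] at e2
    have hmem : s⁻¹ * t ∈ T := mul_mem (inv_mem hs) ht
    have := hT2 _ hmem (deg_succ_of_co ((hA.commute_shift hmem).sub_left (Commute.one_left _))
      (hA.le_near hmem) (by simp only at e; rw [e1, ← e, ← e2]))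
    exact Subtype.ext (inv_mul_eq_one.1 this)
  simpa using Nat.card_le_card_of_injective _ h

theorem sq_le_card (hA : Ab H T u) (hm : 2 ≤ m) (hmp : m ≤ p) {z : Gl p m} (hz : z ∈ T) (hz1 : z ≠ 1)
    (hz2 : z ∈ near p m 2) : p ^ 2 ≤ Nat.card T := by
  obtain ⟨n, hn⟩ := IsPGroup.iff_card.1 hA.pgroup
  rw [hn]
  refine Nat.pow_le_pow_right (Fact.out : p.Prime).pos ?_
  by_contra h
  have hcp : Nat.card T ≤ Nat.card (Subgroup.zpowers z) := by
    rw [Nat.card_zpowers, hA.orderOf_eq hmp hz hz1, hn]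
    exact (Nat.pow_le_pow_right (Fact.out : p.Prime).pos (show n ≤ 1 by omega)).trans (pow_one p).le
  have hTz : Subgroup.zpowers z = T := Subgroup.eq_of_le_of_card_ge (Subgroup.zpowers_le.2 hz) hcp
  have huz : u ∈ near p m 2 := (Subgroup.zpowers_le.2 hz2) (hTz.symm ▸ hA.mem)
  have := (mem_near.1 huz).co_eq_zero one_lt_two
  rw [hA.std, add_sub_cancel_left, ← pow_one (shift p m), co_shift_pow (by omega), if_pos rfl] at this
  exact one_ne_zero this

end Ab

/-! ### The tensor step -/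

theorem raise_zero_adj {g : Gl p m} (hg : Deg 0 (g : Mat p m)) : Raise wtA 0 (adj g) := by
  intro x y hxy
  show (g : Mat p m) x.1 y.1 * ((g⁻¹ : Gl p m) : Mat p m) y.2 x.2 = 0
  simp only [wtA] at hxy
  rcases Nat.lt_or_ge (x.1 : ℕ) (y.1 : ℕ) with h | h
  · rw [hg x.1 y.1 (by omega), zero_mul]
  · rw [deg_zero_inv hg y.2 x.2 (by omega), mul_zero]

theorem raise_zero_rep {g : Gl p m} (hg : Deg 0 (g : Mat p m)) (r : ℕ) :
    Raise (wtT m r) 0 (rep r g) := by
  intro I J h
  show ∏ k, adj g (I k) (J k) = 0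
  obtain ⟨k, hk⟩ : ∃ k, wtA (I k) < wtA (J k) := by
    by_contra hc
    push Not at hc
    have := Finset.sum_le_sum (s := Finset.univ) fun k _ => hc k
    simp only [wtT, wtK] at h
    omega
  exact Finset.prod_eq_zero (Finset.mem_univ k) (raise_zero_adj hg _ _ (by omega))

theorem adj_diag {g : Gl p m} {c b : ZMod p} (hc : c ≠ 0) (hb : b ≠ 0)
    (hg : (g : Mat p m) = Matrix.diagonal fun r : Fin m => c * b ^ (r : ℕ)) :
    adj g = Matrix.diagonal fun x => b ^ wtA x := by
  have hinv : ((g⁻¹ : Gl p m) : Mat p m) = Matrix.diagonal fun r : Fin m => (c * b ^ (r : ℕ))⁻¹ := by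
    refine Units.inv_eq_of_mul_eq_one_right ?_
    rw [hg, Matrix.diagonal_mul_diagonal, ← Matrix.diagonal_one]
    congr 1
    funext r
    exact mul_inv_cancel₀ (mul_ne_zero hc (pow_ne_zero _ hb))
  ext x y
  show (g : Mat p m) x.1 y.1 * ((g⁻¹ : Gl p m) : Mat p m) y.2 x.2 = _
  rw [hg, hinv, Matrix.diagonal_apply, Matrix.diagonal_apply, Matrix.diagonal_apply]
  by_cases h : x = y
  · subst h
    rw [if_pos rfl, if_pos rfl, if_pos rfl, wtA, zpow_sub₀ hb, zpow_natCast, zpow_natCast]
    field_simp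
  · rw [if_neg h]
    rcases not_and_or.1 (fun h' : x.1 = y.1 ∧ x.2 = y.2 => h (Prod.ext h'.1 h'.2)) with h' | h'
    · rw [if_neg h', zero_mul]
    · rw [if_neg (Ne.symm h'), mul_zero]

theorem rep_diag {g : Gl p m} {c b : ZMod p} (hc : c ≠ 0) (hb : b ≠ 0)
    (hg : (g : Mat p m) = Matrix.diagonal fun r : Fin m => c * b ^ (r : ℕ)) (r : ℕ)
    (v : (Fin r → Fin m × Fin m) → ZMod p) (I : Fin r → Fin m × Fin m) :
    (rep r g *ᵥ v) I = b ^ wtT m r I * v I := by
  have hd : rep r g = Matrix.diagonal fun I => ∏ k, b ^ wtA (I k) := by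
    ext I J
    show ∏ k, adj g (I k) (J k) = _
    rw [adj_diag hc hb hg, Matrix.diagonal_apply]
    split
    · rename_i h; subst h; simp
    · rename_i h
      obtain ⟨k, hk⟩ := Function.ne_iff.1 h
      exact Finset.prod_eq_zero (Finset.mem_univ k) (Matrix.diagonal_apply_ne _ hk)
  have hsum : ∀ (s : Finset (Fin r)), ∏ k ∈ s, b ^ wtA (I k) = b ^ ∑ k ∈ s, wtA (I k) := by
    intro s
    induction s using Finset.induction_on with
    | empty => simp
    | insert a t ha ih => rw [Finset.prod_insert ha, Finset.sum_insert ha, ih, zpow_add₀ hb]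
  rw [hd, Matrix.mulVec_diagonal, hsum]
  rfl

theorem tens_smul {r : ℕ} (a : Fin r → ZMod p) (X : Fin r → Mat p m) :
    tens (fun k => a k • X k) = (∏ k, a k) • tens X := by
  funext I
  simp [tens, vec, Finset.prod_mul_distrib]

theorem tens_eq {r : ℕ} {X Y : Fin r → Mat p m} (h : tens X = tens Y) (hY : ∀ k, Y k ≠ 0) (k0 : Fin r) :
    ∃ a : ZMod p, a ≠ 0 ∧ X k0 = a • Y k0 := by
  classical
  have hpt : ∀ k, ∃ x : Fin m × Fin m, vec (Y k) x ≠ 0 := by
    intro k
    by_contra hc
    push Not at hc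
    exact hY k (by ext a b; exact hc (a, b))
  choose J hJ using hpt
  set K := ∏ k ∈ Finset.univ.erase k0, vec (X k) (J k)
  set K' := ∏ k ∈ Finset.univ.erase k0, vec (Y k) (J k)
  have hK' : K' ≠ 0 := Finset.prod_ne_zero_iff.2 fun k _ => hJ k
  have key : ∀ x, vec (X k0) x * K = vec (Y k0) x * K' := by
    intro x
    have := congrFun h (Function.update J k0 x)
    simp only [tens] at this
    rw [← Finset.mul_prod_erase _ _ (Finset.mem_univ k0), ← Finset.mul_prod_erase _ _ (Finset.mem_univ k0),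
      Function.update_self] at this
    rw [Finset.prod_congr rfl (fun k hk => by rw [Function.update_of_ne (Finset.ne_of_mem_erase hk)])] at this
    conv_rhs at this => rw [Finset.prod_congr rfl (fun k hk => by
      rw [Function.update_of_ne (Finset.ne_of_mem_erase hk)])]
    exact this
  have hK : K ≠ 0 := by
    intro hK
    have := key (J k0)
    rw [hK, mul_zero] at this
    exact mul_ne_zero (hJ k0) hK' this.symm
  refine ⟨K' / K, div_ne_zero hK' hK, ?_⟩
  ext a b
  have := key (a, b)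
  simp only [vec] at this
  rw [Matrix.smul_apply, smul_eq_mul, div_mul_eq_mul_div, eq_div_iff hK, this, mul_comm]

end Cfsg.Agent.UniserialSE
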