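import Cfsg.Agent.EqLemmas
import Mathlib.LinearAlgebra.Matrix.NonsingularInverse
import Mathlib.Algebra.CharP.Lemmas
import Mathlib.GroupTheory.PGroup
import Mathlib.FieldTheory.Finite.Basic
import Mathlib.LinearAlgebra.Matrix.GeneralLinearGroup.Defs

/-!
# Matrices of degree at least `s` for the standard flag

`Deg s X`: `X` maps `Fⱼ` into `Fⱼ₊ₛ`, where `Fⱼ` is spanned by the basis vectors of index at least `j`.
`shift` is the regular nilpotent matrix; `co X s` is the coefficient of `shift ^ s` of a matrix commuting with it.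
-/

set_option autoImplicit false
set_option linter.unusedSectionVars false
set_option linter.style.haveILetI false

open Matrix

namespace Cfsg.Agent.UniserialSE

variable {p : ℕ} [Fact p.Prime] {m : ℕ}

/-- Matrices over the prime field. -/
abbrev Mat (p m : ℕ) := Matrix (Fin m) (Fin m) (ZMod p)

/-- The regular nilpotent matrix. -/
def shift (p m : ℕ) : Mat p m := Matrix.of fun r c => if (r : ℕ) = c + 1 then 1 else 0

/-- `X` raises the degree by at least `s`. -/
def Deg (s : ℕ) (X : Mat p m) : Prop := ∀ r c : Fin m, (r : ℕ) < c + s → X r c = 0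

theorem Deg.mono {s t : ℕ} {X : Mat p m} (h : Deg s X) (hts : t ≤ s) : Deg t X :=
  fun r c hrc => h r c (by omega)

theorem deg_zero (s : ℕ) : Deg s (0 : Mat p m) := fun _ _ _ => rfl

theorem Deg.add {s : ℕ} {X Y : Mat p m} (hX : Deg s X) (hY : Deg s Y) : Deg s (X + Y) :=
  fun r c h => by simp [hX r c h, hY r c h]

theorem Deg.neg {s : ℕ} {X : Mat p m} (hX : Deg s X) : Deg s (-X) := fun r c h => by simp [hX r c h]

theorem Deg.sub {s : ℕ} {X Y : Mat p m} (hX : Deg s X) (hY : Deg s Y) : Deg s (X - Y) := by
  rw [sub_eq_add_neg]; exact hX.add hY.neg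

theorem Deg.smul {s : ℕ} {X : Mat p m} (a : ZMod p) (hX : Deg s X) : Deg s (a • X) :=
  fun r c h => by simp [hX r c h]

theorem deg_sum {ι : Type*} (t : Finset ι) {s : ℕ} {X : ι → Mat p m} (hX : ∀ i ∈ t, Deg s (X i)) :
    Deg s (∑ i ∈ t, X i) := fun r c h => by
  rw [Matrix.sum_apply]
  exact Finset.sum_eq_zero fun i hi => hX i hi r c h

theorem deg_one : Deg 0 (1 : Mat p m) := fun r c h => by
  rw [Matrix.one_apply_ne]
  intro e; subst e; omega

theorem Deg.mul {s t : ℕ} {X Y : Mat p m} (hX : Deg s X) (hY : Deg t Y) : Deg (s + t) (X * Y) := by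
  intro r c h
  rw [Matrix.mul_apply]
  refine Finset.sum_eq_zero fun k _ => ?_
  rcases Nat.lt_or_ge (r : ℕ) (k + s) with hk | hk
  · rw [hX r k hk, zero_mul]
  · rw [hY k c (by omega), mul_zero]

theorem Deg.pow {s : ℕ} {X : Mat p m} (hX : Deg s X) : ∀ n : ℕ, Deg (n * s) (X ^ n)
  | 0 => by simpa using deg_one
  | n + 1 => by rw [pow_succ, Nat.succ_mul]; exact (hX.pow n).mul hX

theorem Deg.eq_zero {s : ℕ} {X : Mat p m} (hX : Deg s X) (hs : m ≤ s) : X = 0 := by
  ext r c
  exact hX r c (lt_of_lt_of_le r.2 (hs.trans (Nat.le_add_left s c)))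

theorem Deg.mul_diag {X Y : Mat p m} (hX : Deg 0 X) (hY : Deg 0 Y) (r : Fin m) :
    (X * Y) r r = X r r * Y r r := by
  rw [Matrix.mul_apply]
  refine Finset.sum_eq_single r (fun k _ hk => ?_) (fun h => absurd (Finset.mem_univ r) h)
  rcases lt_or_gt_of_ne hk with hk | hk
  · rw [hY k r (by have := Fin.lt_def.1 hk; omega), mul_zero]
  · rw [hX r k (by have := Fin.lt_def.1 hk; omega), zero_mul]

theorem shift_apply (r c : Fin m) : shift p m r c = if (r : ℕ) = c + 1 then 1 else 0 := rfl

theorem deg_shift : Deg 1 (shift p m) := fun r c h => by rw [shift_apply, if_neg (by omega)]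

theorem deg_shift_pow (j : ℕ) : Deg j (shift p m ^ j) := by simpa using (deg_shift (p := p)).pow j

theorem mul_shift_apply (X : Mat p m) (r c : Fin m) :
    (X * shift p m) r c = if h : (c : ℕ) + 1 < m then X r ⟨c + 1, h⟩ else 0 := by
  rw [Matrix.mul_apply]
  split
  · rename_i h
    rw [Finset.sum_eq_single ⟨(c : ℕ) + 1, h⟩]
    · simp [shift_apply]
    · intro k _ hk
      rw [shift_apply, if_neg, mul_zero]
      exact fun e => hk (Fin.ext e)
    · simp
  · rename_i h
    refine Finset.sum_eq_zero fun k _ => ?_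
    rw [shift_apply, if_neg, mul_zero]
    intro e; have := k.2; omega

theorem shift_mul_apply (X : Mat p m) (r c : Fin m) :
    (shift p m * X) r c = if h : 0 < (r : ℕ) then X ⟨r - 1, by have := r.2; omega⟩ c else 0 := by
  rw [Matrix.mul_apply]
  split
  · rename_i h
    rw [Finset.sum_eq_single ⟨(r : ℕ) - 1, by have := r.2; omega⟩]
    · rw [shift_apply, if_pos (show (r : ℕ) = r - 1 + 1 by omega), one_mul]
    · intro k _ hk
      rw [shift_apply, if_neg, zero_mul]
      intro e
      exact hk (Fin.ext (show (k : ℕ) = r - 1 by omega))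
    · simp
  · rename_i h
    refine Finset.sum_eq_zero fun k _ => ?_
    rw [shift_apply, if_neg (by omega), zero_mul]

theorem shift_pow_apply (j : ℕ) (r c : Fin m) :
    (shift p m ^ j) r c = if (r : ℕ) = c + j then 1 else 0 := by
  induction j generalizing r c with
  | zero => simp [Matrix.one_apply, Fin.ext_iff]
  | succ j ih =>
    rw [pow_succ, mul_shift_apply]
    split
    · rename_i h; rw [ih]; congr 1; simp only [eq_iff_iff]; omega
    · rename_i h
      rw [if_neg]
      have := r.2; omega

/-- The coefficient of `shift ^ s`. -/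
def co (X : Mat p m) (s : ℕ) : ZMod p :=
  if h : s < m then X ⟨s, h⟩ ⟨0, by omega⟩ else 0

theorem co_of_le (X : Mat p m) {s : ℕ} (h : m ≤ s) : co X s = 0 := dif_neg (by omega)

theorem co_add (X Y : Mat p m) (s : ℕ) : co (X + Y) s = co X s + co Y s := by
  unfold co; split <;> simp

theorem co_smul (a : ZMod p) (X : Mat p m) (s : ℕ) : co (a • X) s = a * co X s := by
  unfold co; split <;> simp

theorem co_sub (X Y : Mat p m) (s : ℕ) : co (X - Y) s = co X s - co Y s := by
  unfold co; split <;> simp

theorem co_zero (s : ℕ) : co (0 : Mat p m) s = 0 := by unfold co; split <;> simp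

theorem co_shift_pow {j : ℕ} (hj : j < m) (s : ℕ) : co (shift p m ^ j) s = if s = j then 1 else 0 := by
  unfold co
  split
  · rw [shift_pow_apply]; simp [eq_comm]
  · rw [if_neg (by omega)]

/-- A matrix commuting with the shift is given by its first column. -/
theorem apply_of_commute {X : Mat p m} (hX : Commute X (shift p m)) :
    ∀ (r c : Fin m), X r c = if (c : ℕ) ≤ r then co X (r - c) else 0 := by
  suffices ∀ n : ℕ, ∀ r c : Fin m, (c : ℕ) = n → X r c = if (c : ℕ) ≤ r then co X (r - c) else 0 from
    fun r c => this c r c rfl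
  intro n
  induction n with
  | zero =>
    intro r c hc
    rw [if_pos (by omega), co, dif_pos (by have := r.2; omega)]
    congr 1 <;> apply Fin.ext <;> simp [hc]
  | succ n ih =>
    intro r c hc
    have hn : n < m := by have := c.2; omega
    have e := congrFun (congrFun hX.eq r) ⟨n, hn⟩
    rw [mul_shift_apply, dif_pos (show n + 1 < m by have := c.2; omega), shift_mul_apply] at e
    have hc' : (⟨n + 1, by have := c.2; omega⟩ : Fin m) = c := Fin.ext hc.symm
    rw [hc'] at e
    rw [e]
    split
    · rename_i hr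
      rw [ih _ ⟨n, hn⟩ rfl]
      by_cases h1 : n ≤ (r : ℕ) - 1
      · rw [if_pos h1, if_pos (show (c : ℕ) ≤ r by omega), show (r : ℕ) - 1 - n = r - c by omega]
      · rw [if_neg h1, if_neg (show ¬ (c : ℕ) ≤ r by omega)]
    · rw [if_neg (by omega)]

theorem deg_of_co {X : Mat p m} (hX : Commute X (shift p m)) {s : ℕ} (h : ∀ t < s, co X t = 0) :
    Deg s X := fun r c hrc => by
  rw [apply_of_commute hX]
  split
  · exact h _ (by omega)
  · rfl

theorem Deg.co_eq_zero {X : Mat p m} {s t : ℕ} (h : Deg s X) (ht : t < s) : co X t = 0 := by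
  unfold co; split
  · exact h _ _ (by simpa using ht)
  · rfl

theorem deg_zero_of_commute {X : Mat p m} (hX : Commute X (shift p m)) : Deg 0 X :=
  deg_of_co hX fun _ h => absurd h (Nat.not_lt_zero _)

theorem eq_sum_of_commute {X : Mat p m} (hX : Commute X (shift p m)) :
    X = ∑ s ∈ Finset.range m, co X s • shift p m ^ s := by
  ext r c
  rw [apply_of_commute hX, Matrix.sum_apply]
  simp only [Matrix.smul_apply, shift_pow_apply, smul_eq_mul, mul_ite, mul_one, mul_zero]
  split
  · rename_i h
    rw [Finset.sum_eq_single ((r : ℕ) - c)]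
    · rw [if_pos (by omega)]
    · intro s _ hs; rw [if_neg (by omega)]
    · intro hn; exact absurd (Finset.mem_range.2 (by have := r.2; omega)) hn
  · rename_i h
    exact (Finset.sum_eq_zero fun s _ => by rw [if_neg (by omega)]).symm

theorem commute_of_commute_shift {X Y : Mat p m} (hX : Commute X (shift p m)) (hY : Commute Y (shift p m)) :
    Commute X Y := by
  rw [eq_sum_of_commute hX]
  exact Commute.sum_left _ _ _ fun s _ => ((hY.symm.pow_left s).smul_left _)

theorem co_mul {X Y : Mat p m} (hX : Commute X (shift p m)) (hY : Commute Y (shift p m)) (n : ℕ)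
    (hn : n < m) : co (X * Y) n = ∑ k ∈ Finset.range (n + 1), co X (n - k) * co Y k := by
  rw [co, dif_pos hn, Matrix.mul_apply]
  have h1 : ∑ k : Fin m, X ⟨n, hn⟩ k * Y k ⟨0, by omega⟩ =
      ∑ k ∈ Finset.range m, if k ≤ n then co X (n - k) * co Y k else 0 := by
    rw [Finset.sum_range]
    refine Finset.sum_congr rfl fun k _ => ?_
    rw [apply_of_commute hX, apply_of_commute hY]
    simp only [Nat.zero_le, if_true, Nat.sub_zero]
    split <;> simp
  rw [h1, ← Finset.sum_filter]
  refine Finset.sum_congr ?_ fun _ _ => rfl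
  ext k; simp; omega

theorem co_mul_deg {X Y : Mat p m} (hX : Commute X (shift p m)) (hY : Commute Y (shift p m)) {a b : ℕ}
    (ha : Deg a X) (hb : Deg b Y) (hab : a + b < m) : co (X * Y) (a + b) = co X a * co Y b := by
  rw [co_mul hX hY _ hab, Finset.sum_eq_single b]
  · simp
  · intro k hk hkb
    have := Finset.mem_range.1 hk
    rcases Nat.lt_or_ge k b with h | h
    · rw [hb.co_eq_zero h, mul_zero]
    · rw [ha.co_eq_zero (show a + b - k < a by omega), zero_mul]
  · intro h; exact absurd (Finset.mem_range.2 (by omega)) h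

theorem deg_succ_of_co {X : Mat p m} (hX : Commute X (shift p m)) {s : ℕ} (h : Deg s X)
    (h0 : co X s = 0) : Deg (s + 1) X := by
  refine deg_of_co hX fun t ht => ?_
  rcases Nat.lt_or_ge t s with h' | h'
  · exact h.co_eq_zero h'
  · rwa [show t = s by omega]

theorem eq_zero_or_exists_order {X : Mat p m} (hX : Commute X (shift p m)) :
    X = 0 ∨ ∃ s < m, Deg s X ∧ co X s ≠ 0 := by
  by_cases h : ∀ s, co X s = 0
  · exact Or.inl ((deg_of_co hX (s := m) fun t _ => h t).eq_zero le_rfl)
  · push Not at h
    classical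
    refine Or.inr ⟨Nat.find h, ?_, deg_of_co hX fun t ht => ?_, Nat.find_spec h⟩
    · by_contra hm; exact Nat.find_spec h (co_of_le _ (by omega))
    · by_contra hne; exact Nat.find_min h ht hne

/-! ### Units -/

/-- The general linear group. -/
abbrev Gl (p m : ℕ) := (Mat p m)ˣ

instance : Finite (Gl p m) := inferInstance

/-- The units that are congruent to one modulo degree `s`. -/
def near (p : ℕ) [Fact p.Prime] (m s : ℕ) : Subgroup (Gl p m) :=
  let S : Submonoid (Gl p m) :=
    { carrier := {g | Deg s ((g : Mat p m) - 1)}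
      one_mem' := by simp [deg_zero]
      mul_mem' := fun {a b} ha hb => by
        have e : ((a * b : Gl p m) : Mat p m) - 1 = ((a : Mat p m) - 1) * ((b : Mat p m) - 1) +
            (((a : Mat p m) - 1) + ((b : Mat p m) - 1)) := by
          rw [Units.val_mul]; noncomm_ring
        show Deg s _
        rw [e]
        exact ((Deg.mul ha hb).mono (Nat.le_add_right s s)).add (ha.add hb) }
  { S with
    inv_mem' := fun {g} hg => by
      rw [inv_eq_of_mul_eq_one_right (a := g) (b := g ^ (orderOf g - 1))]
      · exact pow_mem (S := S) hg _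
      · rw [← pow_succ', Nat.sub_add_cancel (orderOf_pos g), pow_orderOf_eq_one] }

theorem mem_near {s : ℕ} {g : Gl p m} : g ∈ near p m s ↔ Deg s ((g : Mat p m) - 1) := Iff.rfl

theorem deg_of_mem_near {s : ℕ} {g : Gl p m} (hg : g ∈ near p m s) : Deg 0 (g : Mat p m) := by
  have := ((mem_near.1 hg).mono (Nat.zero_le _)).add (deg_one (p := p))
  rwa [sub_add_cancel] at this

theorem near_mono {s t : ℕ} (h : t ≤ s) : near p m s ≤ near p m t := fun _ hg => hg.mono h

theorem eq_one_of_near {g : Gl p m} {s : ℕ} (hg : g ∈ near p m s) (hs : m ≤ s) : g = 1 :=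
  Units.ext (sub_eq_zero.1 (hg.eq_zero hs))

theorem pow_char_eq_one {g : Gl p m} (hg : g ∈ near p m 1) (hm : m ≤ p) : g ^ p = 1 := by
  apply Units.ext
  rcases Nat.eq_zero_or_pos m with rfl | hm0
  · ext r; exact r.elim0
  haveI : Nonempty (Fin m) := ⟨⟨0, hm0⟩⟩
  haveI : CharP (Mat p m) p := Matrix.charP p
  have h := ((mem_near.1 hg).pow p).eq_zero (by simpa using hm)
  rw [sub_pow_char_of_commute p (Commute.one_right _), one_pow, sub_eq_zero] at h
  simpa using h

theorem isPGroup_near (hm : m ≤ p) : IsPGroup p (near p m 1) := fun g =>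
  ⟨1, Subtype.ext (by rw [pow_one]; exact pow_char_eq_one g.2 hm)⟩

/-- The unit upper-left `1` entries of a triangular element of `p`-power order. -/
theorem mem_near_one_of_deg {g : Gl p m} (hg : Deg 0 (g : Mat p m)) {k : ℕ} (hk : g ^ p ^ k = 1) :
    g ∈ near p m 1 := by
  intro r c hrc
  rcases Nat.lt_or_ge (r : ℕ) c with h | h
  · have hne : r ≠ c := fun e => by subst e; omega
    simp [hg r c (by omega), Matrix.one_apply_ne hne]
  · have e : r = c := Fin.ext (by omega)
    subst e
    have hpow : ∀ n : ℕ, ((g : Mat p m) ^ n) r r = ((g : Mat p m) r r) ^ n := by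
      intro n
      induction n with
      | zero => simp
      | succ n ih =>
        rw [pow_succ, pow_succ,
          Deg.mul_diag (by simpa using hg.pow n) hg, ih]
    have h1 := hpow (p ^ k)
    rw [← Units.val_pow_eq_pow_val, hk, Units.val_one, Matrix.one_apply_eq, ZMod.pow_card_pow] at h1
    simp [← h1]

end Cfsg.Agent.UniserialSE
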