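import Cfsg.Agent.Lib.UniserialSE.Basic
import Mathlib.GroupTheory.Nilpotent

/-!
# `p`-groups containing a regular unipotent matrix

* `le_near_one` : such a group is unitriangular
* `exists_standard` : a regular nilpotent matrix is conjugate to `shift`
* `exists_quadratic` : if it is not abelian it contains a polynomial in `shift` acting quadratically
-/

set_option autoImplicit false
set_option linter.unusedSectionVars false
set_option linter.style.haveILetI false

open Matrix

namespace Cfsg.Agent.UniserialSE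

variable {p : ℕ} [Fact p.Prime] {m : ℕ}

theorem deg_zero_of_conj {w : Gl p m} {X : Mat p m} (hX : Deg 1 X)
    (hw : (w : Mat p m) * shift p m = X * (w : Mat p m)) : Deg 0 (w : Mat p m) := by
  have hpow : ∀ n : ℕ, (w : Mat p m) * shift p m ^ n = X ^ n * (w : Mat p m) :=
    fun n => (SemiconjBy.pow_right (show SemiconjBy (w : Mat p m) (shift p m) X from hw) n)
  intro r c hrc
  have hc : (r : ℕ) + 1 ≤ c := by omega
  have h := congrFun (congrFun (hpow ((r : ℕ) + 1)) r) ⟨(c : ℕ) - (r + 1), by have := c.2; omega⟩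
  have h2 : (X ^ ((r : ℕ) + 1) * (w : Mat p m)) r ⟨(c : ℕ) - (r + 1), by have := c.2; omega⟩ = 0 := by
    rw [Matrix.mul_apply]
    refine Finset.sum_eq_zero fun k _ => ?_
    rw [hX.pow _ r k (by omega), zero_mul]
  rw [h2, Matrix.mul_apply, Finset.sum_eq_single c] at h
  · rw [shift_pow_apply, if_pos (show (c : ℕ) = c - (r + 1) + (r + 1) by omega), mul_one] at h
    exact h
  · intro k _ hk
    rw [shift_pow_apply, if_neg, mul_zero]
    intro e
    exact hk (Fin.ext (by simpa [Nat.sub_add_cancel hc] using e))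
  · simp

theorem deg_zero_of_conj_mem {u w : Gl p m} (hu : (u : Mat p m) = 1 + shift p m)
    (hw : w * u * w⁻¹ ∈ near p m 1) : Deg 0 (w : Mat p m) := by
  refine deg_zero_of_conj hw ?_
  have h1 : ((w * u * w⁻¹ : Gl p m) : Mat p m) * (w : Mat p m) = (w : Mat p m) * (u : Mat p m) := by
    simp [Units.val_mul]
  rw [sub_mul, h1, hu, mul_add, mul_one, one_mul]
  abel

/-- A `p`-group containing `1 + shift` is unitriangular. -/
theorem le_near_one {T : Subgroup (Gl p m)} (hT : IsPGroup p T) {u : Gl p m} (huT : u ∈ T)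
    (hu : (u : Mat p m) = 1 + shift p m) : T ≤ near p m 1 := by
  have hu1 : u ∈ near p m 1 := by
    rw [mem_near, hu, add_sub_cancel_left]; exact deg_shift
  haveI : Group.IsNilpotent T := hT.isNilpotent
  by_contra hle
  have hlt : (near p m 1).subgroupOf T < ⊤ := by
    rw [lt_top_iff_ne_top, Ne, Subgroup.subgroupOf_eq_top]
    exact hle
  obtain ⟨w, hw, hnw⟩ := SetLike.exists_of_lt (Group.normalizerCondition_of_isNilpotent _ hlt)
  refine hnw (Subgroup.mem_subgroupOf.2 ?_)
  have hwu : (w : Gl p m) * u * (w : Gl p m)⁻¹ ∈ near p m 1 := by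
    have := (Subgroup.mem_normalizer_iff.1 hw ⟨u, huT⟩).1 (Subgroup.mem_subgroupOf.2 hu1)
    simpa [Subgroup.mem_subgroupOf] using this
  obtain ⟨k, hk⟩ := hT w
  exact mem_near_one_of_deg (deg_zero_of_conj_mem hu hwu) (k := k)
    (by simpa using congrArg Subtype.val hk)

/-- A regular nilpotent matrix is conjugate to the shift. -/
theorem exists_standard {N : Mat p m} (hN0 : N ^ m = 0) (hN1 : N ^ (m - 1) ≠ 0) :
    ∃ P : Gl p m, N * (P : Mat p m) = (P : Mat p m) * shift p m := by
  rcases Nat.eq_zero_or_pos m with rfl | hm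
  · exact ⟨1, by ext r; exact r.elim0⟩
  obtain ⟨v, hv⟩ : ∃ v : Fin m → ZMod p, (N ^ (m - 1)) *ᵥ v ≠ 0 := by
    by_contra h
    push Not at h
    exact hN1 (Matrix.ext_of_mulVec_single fun i => by rw [h, Matrix.zero_mulVec])
  let P : Mat p m := Matrix.of fun r c => ((N ^ (c : ℕ)) *ᵥ v) r
  have hcol : ∀ x : Fin m → ZMod p, P *ᵥ x = ∑ c, x c • ((N ^ (c : ℕ)) *ᵥ v) := fun x => by
    ext r; simp [P, Matrix.mulVec, dotProduct, mul_comm, Finset.sum_apply]
  have hinj : Function.Injective P.mulVec := by
    intro x y h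
    rw [← sub_eq_zero]
    have h0 : P *ᵥ (x - y) = 0 := by rw [Matrix.mulVec_sub, h, sub_self]
    set z := x - y with hz
    clear_value z
    by_contra hne
    classical
    have hex : (Finset.univ.filter fun c : Fin m => z c ≠ 0).Nonempty := by
      by_contra he
      rw [Finset.not_nonempty_iff_eq_empty, Finset.filter_eq_empty_iff] at he
      exact hne (funext fun c => not_not.1 (he (Finset.mem_univ c)))
    set c0 := (Finset.univ.filter fun c : Fin m => z c ≠ 0).min' hex with hc0
    have hzc0 : z c0 ≠ 0 := (Finset.mem_filter.1 (Finset.min'_mem _ hex)).2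
    have h1 := congrArg (fun w => (N ^ (m - 1 - (c0 : ℕ))) *ᵥ w) h0
    simp only [hcol, Matrix.mulVec_sum, Matrix.mulVec_smul, Matrix.mulVec_mulVec, ← pow_add,
      Matrix.mulVec_zero] at h1
    rw [Finset.sum_eq_single c0] at h1
    · rw [show m - 1 - (c0 : ℕ) + c0 = m - 1 by omega] at h1
      exact (smul_ne_zero hzc0 hv) h1
    · intro c _ hc
      rcases lt_or_gt_of_ne hc with h2 | h2
      · have : z c = 0 := by
          by_contra hzc
          exact absurd (Finset.min'_le _ c (Finset.mem_filter.2 ⟨Finset.mem_univ c, hzc⟩)) (not_le.2 h2)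
        rw [this, zero_smul]
      · have h3 : m ≤ m - 1 - (c0 : ℕ) + c := by
          have := Fin.lt_def.1 h2; omega
        rw [pow_eq_zero_of_le h3 hN0, Matrix.zero_mulVec, smul_zero]
    · simp
  refine ⟨(Matrix.mulVec_injective_iff_isUnit.1 hinj).unit, ?_⟩
  rw [IsUnit.unit_spec]
  ext r c
  rw [mul_shift_apply]
  have hl : (N * P) r c = ((N ^ ((c : ℕ) + 1)) *ᵥ v) r := by
    rw [pow_succ', ← Matrix.mulVec_mulVec, Matrix.mul_apply]
    rfl
  rw [hl]
  split
  · rfl
  · rename_i h
    rw [pow_eq_zero_of_le (by omega) hN0, Matrix.zero_mulVec]; rfl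

/-- Conjugation by a unit preserving the algebra of the shift changes the order by the order of its image. -/
theorem shift_pow_perturb {δ : Mat p m} (hδ : Commute δ (shift p m)) {l : ℕ} (hl : 2 ≤ l) (hd : Deg l δ)
    (s : ℕ) : Deg (s + l) ((shift p m + δ) ^ s - shift p m ^ s - (s : ZMod p) • (shift p m ^ (s - 1) * δ)) := by
  induction s with
  | zero => simpa using deg_zero (p := p) l
  | succ s ih =>
    set E := (shift p m + δ) ^ s - shift p m ^ s - (s : ZMod p) • (shift p m ^ (s - 1) * δ) with hE
    have key : (shift p m + δ) ^ (s + 1) - shift p m ^ (s + 1) -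
        ((s + 1 : ℕ) : ZMod p) • (shift p m ^ (s + 1 - 1) * δ) =
        E * (shift p m + δ) + (s : ZMod p) • (shift p m ^ (s - 1) * (δ * δ)) := by
      rcases Nat.eq_zero_or_pos s with hs | hs
      · subst hs; simp [hE]
      · have h1 : shift p m ^ (s - 1) * (δ * shift p m) = shift p m ^ s * δ := by
          rw [hδ.eq, ← mul_assoc, ← pow_succ, Nat.sub_add_cancel hs]
        rw [hE, pow_succ, pow_succ (shift p m), Nat.add_sub_cancel, Nat.cast_succ, add_smul, one_smul]
        simp only [sub_mul, mul_add, smul_mul_assoc, mul_assoc, h1, smul_add, smul_sub]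
        abel
    rw [key]
    refine Deg.add ?_ (Deg.smul _ ?_)
    · exact (ih.mul ((deg_shift.add (hd.mono (by omega))))).mono (by omega)
    · exact ((deg_shift_pow (s - 1)).mul (hd.mul hd)).mono (by omega)

/-- A nonabelian `p`-group containing `1 + shift` contains a quadratic polynomial in the shift. -/
theorem exists_quadratic (hmp : m ≤ p) {T : Subgroup (Gl p m)} (hT : IsPGroup p T) {u : Gl p m}
    (huT : u ∈ T) (hu : (u : Mat p m) = 1 + shift p m)
    (hna : ∃ t ∈ T, ¬ Commute (t : Mat p m) (shift p m)) :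
    ∃ z ∈ T, Commute (z : Mat p m) (shift p m) ∧
      ∃ i, i < m ∧ m + 1 ≤ 2 * i ∧ Deg i ((z : Mat p m) - 1) ∧ co ((z : Mat p m) - 1) i ≠ 0 := by
  have hTU := le_near_one hT huT hu
  set A := T ⊓ Subgroup.centralizer ({u} : Set (Gl p m))
  have hcA : ∀ {x : Gl p m}, x ∈ A → Commute (x : Mat p m) (shift p m) := by
    intro x hx
    have h := congrArg Units.val (Subgroup.mem_centralizer_singleton_iff.1 hx.2)
    rw [Units.val_mul, Units.val_mul, hu, mul_add, add_mul, mul_one, one_mul, add_right_inj] at h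
    exact h
  have hAc : ∀ {x : Gl p m}, x ∈ T → Commute (x : Mat p m) (shift p m) → x ∈ A := by
    intro x hx hc
    refine ⟨hx, Subgroup.mem_centralizer_singleton_iff.2 (Units.ext ?_)⟩
    rw [Units.val_mul, Units.val_mul, hu, mul_add, add_mul, mul_one, one_mul, hc.eq]
  haveI : Group.IsNilpotent T := hT.isNilpotent
  obtain ⟨t, htT, htc⟩ := hna
  have hlt : A.subgroupOf T < ⊤ := by
    rw [lt_top_iff_ne_top, Ne, Subgroup.subgroupOf_eq_top]
    exact fun h => htc (hcA (h htT))
  obtain ⟨⟨w, hwT⟩, hw, hnw⟩ := SetLike.exists_of_lt (Group.normalizerCondition_of_isNilpotent _ hlt)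
  have hwA : ∀ {x : Gl p m}, x ∈ A → w * x * w⁻¹ ∈ A := fun {x} hx => by
    have := (Subgroup.mem_normalizer_iff.1 hw ⟨x, hx.1⟩).1 (Subgroup.mem_subgroupOf.2 hx)
    simpa [Subgroup.mem_subgroupOf] using this
  have hwn : ¬ Commute (w : Mat p m) (shift p m) := fun h => hnw (Subgroup.mem_subgroupOf.2 (hAc hwT h))
  have huA : u ∈ A := ⟨huT, Subgroup.mem_centralizer_singleton_iff.2 rfl⟩
  set σ : Mat p m → Mat p m := fun X => (w : Mat p m) * X * ((w⁻¹ : Gl p m) : Mat p m) with hσ
  have hσ1 : σ 1 = 1 := by simp [hσ]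
  have hσpow : ∀ n : ℕ, σ (shift p m ^ n) = σ (shift p m) ^ n := fun n => by
    induction n with
    | zero => simpa using hσ1
    | succ n ih => rw [pow_succ (σ _), ← ih]; simp [hσ, pow_succ, mul_assoc]
  set δ := σ (shift p m) - shift p m with hδdef
  have hσu : σ (u : Mat p m) = 1 + σ (shift p m) := by
    rw [hu]; simp [hσ, mul_add, add_mul]
  have hσJ : Commute (σ (shift p m)) (shift p m) := by
    have h2 : Commute (σ (u : Mat p m) - 1) (shift p m) := by
      refine Commute.sub_left ?_ (Commute.one_left _)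
      simpa [hσ] using hcA (hwA huA)
    rwa [hσu, add_sub_cancel_left] at h2
  have hδc : Commute δ (shift p m) := hσJ.sub_left (Commute.refl _)
  have hw0 : Deg 0 (w : Mat p m) := deg_of_mem_near (hTU hwT)
  have hδ2 : Deg 2 δ := by
    have e : δ = ((w : Mat p m) - 1) * shift p m * ((w⁻¹ : Gl p m) : Mat p m) +
        shift p m * (((w⁻¹ : Gl p m) : Mat p m) - 1) := by
      rw [hδdef, hσ]
      simp only [sub_mul, mul_sub, mul_one, one_mul]
      abel
    rw [e]
    exact ((((hTU hwT)).mul deg_shift).mul (deg_of_mem_near (hTU (inv_mem hwT)))).mono (by norm_num) |>.add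
      ((deg_shift.mul (hTU (inv_mem hwT))).mono (by norm_num))
  have hδ0 : δ ≠ 0 := by
    intro h
    refine hwn ?_
    have h1 : σ (shift p m) = shift p m := sub_eq_zero.1 h
    have h2 := congrArg (· * (w : Mat p m)) h1
    exact (show (w : Mat p m) * shift p m = shift p m * (w : Mat p m) by simpa [hσ, mul_assoc] using h2)
  obtain ⟨l, hlm, hld, hlc⟩ : ∃ l < m, Deg l δ ∧ co δ l ≠ 0 :=
    (eq_zero_or_exists_order hδc).resolve_left hδ0
  have hl2 : 2 ≤ l := by
    by_contra h
    exact hlc (hδ2.co_eq_zero (by omega))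
  -- the first order change
  have hdiff : ∀ (f : Mat p m), Commute f (shift p m) → ∀ i, Deg i f → 1 ≤ i →
      Deg (i + l - 1) (σ f - f) ∧ (i + l - 1 < m → i < m → co (σ f - f) (i + l - 1) = (i : ZMod p) * co f i * co δ l) := by
    intro f hf i hi hi1
    have e : σ f - f = ∑ s ∈ Finset.range m, co f s • (σ (shift p m) ^ s - shift p m ^ s) := by
      conv_lhs => rw [eq_sum_of_commute hf]
      simp only [hσ, Finset.mul_sum, Finset.sum_mul, mul_smul_comm, smul_mul_assoc, ← Finset.sum_sub_distrib,
        smul_sub]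
      refine Finset.sum_congr rfl fun s _ => ?_
      rw [show (w : Mat p m) * shift p m ^ s * ((w⁻¹ : Gl p m) : Mat p m) = σ (shift p m ^ s) from rfl, hσpow]
    have hterm : ∀ s ∈ Finset.range m, Deg (i + l - 1) (co f s • (σ (shift p m) ^ s - shift p m ^ s)) := by
      intro s _
      rcases Nat.lt_or_ge s i with hs | hs
      · rw [hi.co_eq_zero hs, zero_smul]; exact deg_zero _
      · refine Deg.smul _ ?_
        have h1 := shift_pow_perturb hδc hl2 hld s
        rw [hδdef, add_sub_cancel] at h1
        have h2 := (h1.mono (show i + l - 1 ≤ s + l by omega)).add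
          (Deg.smul (s : ZMod p) (((deg_shift_pow (s - 1)).mul hld).mono (show i + l - 1 ≤ s - 1 + l by omega)))
        rwa [hδdef, sub_add_cancel] at h2
    refine ⟨e ▸ deg_sum _ hterm, fun hil him => ?_⟩
    rw [e]
    have hco : ∀ (t : Finset ℕ) (X : ℕ → Mat p m) (n : ℕ), co (∑ s ∈ t, X s) n = ∑ s ∈ t, co (X s) n := by
      intro t X n
      induction t using Finset.induction_on with
      | empty => simp [co_zero]
      | insert a t ha ih => rw [Finset.sum_insert ha, Finset.sum_insert ha, co_add, ih]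
    rw [hco, Finset.sum_eq_single i]
    · rw [co_smul]
      have h1 := (shift_pow_perturb hδc hl2 hld i).co_eq_zero (show i + l - 1 < i + l by omega)
      rw [co_sub, co_smul, show i + l - 1 = i - 1 + l by omega,
        co_mul_deg ((Commute.refl _).pow_left _) hδc (deg_shift_pow _) hld (by omega),
        co_shift_pow (by omega), if_pos rfl, one_mul] at h1
      rw [hδdef, add_sub_cancel, ← hδdef, show i - 1 + l = i + l - 1 by omega] at h1
      rw [sub_eq_zero.1 h1]; ring
    · intro s _ hs
      rw [co_smul]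
      rcases Nat.lt_or_ge s i with h | h
      · rw [hi.co_eq_zero h, zero_mul]
      · have h1 := shift_pow_perturb hδc hl2 hld s
        rw [hδdef, add_sub_cancel] at h1
        have h2 := (h1.mono (show i + l ≤ s + l by omega)).add
          (Deg.smul (s : ZMod p) (((deg_shift_pow (s - 1)).mul hld).mono (show i + l ≤ s - 1 + l by omega)))
        rw [hδdef, sub_add_cancel] at h2
        rw [h2.co_eq_zero (by omega), mul_zero]
    · intro h; exact absurd (Finset.mem_range.2 him) h
  -- iterate
  have step : ∀ n : ℕ, ∀ a : Gl p m, a ∈ A → ∀ i, m ≤ i + n → 1 ≤ i → i < m → Deg i ((a : Mat p m) - 1) →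
      co ((a : Mat p m) - 1) i ≠ 0 → (i = 1 ∨ l ≤ i) →
      ∃ z ∈ A, ∃ i', l ≤ i' ∧ i' < m ∧ m < i' + l ∧ Deg i' ((z : Mat p m) - 1) ∧ co ((z : Mat p m) - 1) i' ≠ 0 := by
    intro n
    induction n with
    | zero => intros; omega
    | succ n ih =>
      intro a ha i hin hi1 him hdeg hco hil
      by_cases hend : m < i + l
      · exact ⟨a, ha, i, by rcases hil with h | h <;> omega, him, hend, hdeg, hco⟩
      · set b := w * a * w⁻¹ * a⁻¹
        have hb : b ∈ A := mul_mem (hwA ha) (inv_mem ha)
        have hac := hcA ha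
        obtain ⟨hd1, hd2⟩ := hdiff ((a : Mat p m) - 1) (hac.sub_left (Commute.one_left _)) i hdeg hi1
        have hbv : (b : Mat p m) - 1 =
            (σ ((a : Mat p m) - 1) - ((a : Mat p m) - 1)) * ((a⁻¹ : Gl p m) : Mat p m) := by
          simp only [b, hσ, Units.val_mul, mul_sub, sub_mul, mul_one, one_mul, mul_assoc, Units.mul_inv]
          abel
        have hσc : Commute (σ ((a : Mat p m) - 1)) (shift p m) := by
          have : σ ((a : Mat p m) - 1) = ((w * a * w⁻¹ : Gl p m) : Mat p m) - 1 := by
            simp [hσ, mul_sub, sub_mul]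
          rw [this]
          exact (hcA (hwA ha)).sub_left (Commute.one_left _)
        have hainv : Deg 0 ((a⁻¹ : Gl p m) : Mat p m) := deg_of_mem_near (hTU (inv_mem ha.1))
        have hainv0 : co ((a⁻¹ : Gl p m) : Mat p m) 0 = 1 := by
          have h3 := (hTU (inv_mem ha.1)).co_eq_zero (t := 0) Nat.one_pos
          rw [co_sub, co, co, dif_pos (by omega), dif_pos (by omega), Matrix.one_apply_eq, sub_eq_zero] at h3
          rw [co, dif_pos (by omega)]; exact h3
        refine ih b hb (i + l - 1) (by omega) (by omega) (by omega) ?_ ?_ (Or.inr (by omega))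
        · rw [hbv]; exact hd1.mul hainv
        · rw [hbv]
          have := co_mul_deg (hσc.sub_left (hac.sub_left (Commute.one_left _))) (hcA (inv_mem ha)) hd1 hainv
            (show i + l - 1 + 0 < m by omega)
          rw [add_zero] at this
          rw [this, hainv0, mul_one, hd2 (by omega) him]
          refine mul_ne_zero (mul_ne_zero ?_ hco) hlc
          rw [Ne, ZMod.natCast_eq_zero_iff]
          exact Nat.not_dvd_of_pos_of_lt (by omega) (by omega)
  obtain ⟨z, hz, i, hli, him, hend, hd, hc⟩ := step m u huA 1 (by omega) le_rfl (by omega)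
    (by rw [hu, add_sub_cancel_left]; exact deg_shift)
    (by rw [hu, add_sub_cancel_left, ← pow_one (shift p m), co_shift_pow (by omega)]; simp) (Or.inl rfl)
  exact ⟨z, hz.1, hcA hz, i, him, by omega, hd, hc⟩

end Cfsg.Agent.UniserialSE
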