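import Cfsg.Agent.Lib.UniserialSE.Abelian

/-!
# The induction on the dimension

* `exists_rel` : if all centralizers normalize `T` then a power of an eigen generator of the commutant is relatively
  invariant under the whole group
* `false_of_ab` : the abelian case
-/

set_option autoImplicit false
set_option linter.unusedSectionVars false
set_option linter.style.haveILetI false

open Matrix

namespace Cfsg.Agent.UniserialSE

variable {p : ℕ} [Fact p.Prime] {m : ℕ}

namespace Rel

variable {H : Subgroup (Gl p m)} {j : ℕ} {U : Gl p m}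

theorem gen_ne_zero (hR : Rel H j U) : shift p m ^ j * (U : Mat p m) ≠ 0 := fun h =>
  shift_pow_ne_zero (p := p) hR.lt (by simpa [mul_assoc] using congrArg (· * ((U⁻¹ : Gl p m) : Mat p m)) h)

/-- An element trivial on the top block that commutes with the invariant element is block unipotent. -/
theorem bdHom_eq_one (hR : Rel H j U) {g : H} (hg : hR.topHom g = 1)
    (hc : Commute ((g : Gl p m) : Mat p m) (shift p m ^ j * (U : Mat p m))) : hR.bdHom g = 1 := by
  obtain ⟨a, ha, h⟩ := hR.bd_of_top hg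
  have ha1 : a = 1 := by
    set Y := shift p m ^ j * (U : Mat p m) * ((g : Gl p m) : Mat p m)
    have h1 : a • Y = (1 : ZMod p) • Y := by rw [one_smul, ← h, hc.eq]
    by_contra hne
    have h2 : Y = 0 := by
      have h3 : (a - 1) • Y = 0 := by rw [sub_smul, h1, sub_self]
      exact (smul_eq_zero.1 h3).resolve_left (sub_ne_zero.2 hne)
    exact hR.gen_ne_zero
      (by simpa [Y, mul_assoc] using congrArg (· * (((g : Gl p m)⁻¹ : Gl p m) : Mat p m)) h2)
  apply Units.ext
  rw [ha, ha1]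
  simp

theorem ker_bd_le (hR : Rel H j U) {T : Subgroup (Gl p m)} {u : Gl p m} (hA : Ab H T u) (hmp : m ≤ p) {g : H}
    (hg : hR.bdHom g = 1) : (g : Gl p m) ∈ T := by
  refine hA.le_T (Q := hR.bdHom.ker.map H.subtype) (Subgroup.map_subtype_le _) ((hR.isPGroup_ker hmp).map _)
    (fun t ht => mem_normalizer_of_conj_mem ?_) ⟨g, hg, rfl⟩
  rintro _ ⟨x, hx, rfl⟩
  exact ⟨⟨t, hA.le ht⟩ * x * ⟨t, hA.le ht⟩⁻¹, (inferInstance : hR.bdHom.ker.Normal).conj_mem x hx _, rfl⟩

theorem top_cnj (hR : Rel H j U) (g : H) :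
    top j hR.lt.le (cnj (g : Gl p m) (shift p m)) = cnj (hR.topHom g) (shift p j) := by
  rw [cnj, cnj, top_mul _ ((hR.sgm g.2).mul (deg_shift.mono (Nat.zero_le 1) |>.sgm j)), top_mul _ (hR.sgm g.2),
    top_shift, ← map_inv, hR.coe_topHom, hR.coe_topHom]
  rfl

/-- When all of `H` centralizes the invariant element, the weights of the image are killed by `j`. -/
theorem wgt_img (hR : Rel H j U) {T : Subgroup (Gl p m)} {u : Gl p m} (hA : Ab H T u) (hmp : m ≤ p)
    (hj2 : 2 ≤ j) (hex : ∀ g ∈ H, Commute (g : Mat p m) (shift p m ^ j * (U : Mat p m))) {g' : Gl p j}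
    (hg' : g' ∈ (hR.ab_img hA).nor) : wgt g' ^ j = 1 := by
  obtain ⟨g, rfl⟩ := hg'.1
  have hgT : ∀ t ∈ T, (g : Gl p m) * t * (g : Gl p m)⁻¹ ∈ T := by
    intro t ht
    obtain ⟨s, hs, hse⟩ := (Subgroup.mem_normalizer_iff.1 hg'.2 (hR.topHom ⟨t, hA.le ht⟩)).1
      ⟨⟨t, hA.le ht⟩, ht, rfl⟩
    have hs' : (s : Gl p m) ∈ T := hs
    have h1 : hR.topHom (s⁻¹ * (g * ⟨t, hA.le ht⟩ * g⁻¹)) = 1 := by
      rw [map_mul, map_inv, hse, map_mul, map_mul, map_inv, inv_mul_cancel]
    have h2 := hR.ker_bd_le hA hmp (hR.bdHom_eq_one h1 (hex _ (SetLike.coe_mem _)))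
    simpa using T.mul_mem hs' h2
  have hgn : (g : Gl p m) ∈ hA.nor := ⟨g.2, mem_normalizer_of_conj_mem hgT⟩
  have hw : wgt (hR.topHom g) = wgt (g : Gl p m) := by
    rw [wgt, wgt, ← hR.top_cnj, co_top _ _ (show 1 < j by omega)]
  have hXc : Commute (shift p m ^ j * (U : Mat p m)) (shift p m) :=
    ((Commute.refl _).pow_left j).mul_left hR.comm
  have hXd : Deg j (shift p m ^ j * (U : Mat p m)) := by
    simpa using (deg_shift_pow j).mul (deg_zero_of_commute hR.comm)
  have hX0 : co (shift p m ^ j * (U : Mat p m)) j ≠ 0 := by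
    intro h0
    have h1 := deg_succ_of_co hXc hXd h0
    have h2 : Deg (j + 1) (shift p m ^ j) := by
      have := h1.mul (deg_zero_inv (deg_zero_of_commute hR.comm))
      simpa [mul_assoc] using this
    have := h2.co_eq_zero (show j < j + 1 by omega)
    rw [co_shift_pow hR.lt, if_pos rfl] at this
    exact one_ne_zero this
  have := hA.co_cnj hgn hXc hXd hR.lt
  rw [cnj_eq_iff.2 (hex _ g.2).eq] at this
  rw [hw]
  exact mul_right_cancel₀ hX0 (this.symm.trans (one_mul _).symm)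

/-- Two dimensional images have a Sylow subgroup of prime order at most. -/
theorem card_imgT_le (hR : Rel H j U) {T : Subgroup (Gl p m)} {u : Gl p m} (hA : Ab H T u) (hj : j ≤ 2) :
    Nat.card (hR.imgT T) ≤ p :=
  (hR.ab_img hA).card_le fun _ _ ht => eq_one_of_near ht hj

end Rel

theorem tens_fixed {H T : Subgroup (Gl p m)} {u : Gl p m} (hA : Ab H T u) {P : Gl p m} {b : ZMod p}
    (hall : ∀ h ∈ hA.nor, ∃ k : ℕ, wgt h = b ^ k ∧ cnj (P⁻¹ * h * P) (shift p m) = b ^ k • shift p m)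
    {r : ℕ} (j : Fin r → ℕ) (hj : b ^ (∑ k, j k) = 1) {h : Gl p m} (hh : h ∈ hA.nor) :
    rep r h *ᵥ tens (fun k => cnj P (shift p m) ^ j k) = tens (fun k => cnj P (shift p m) ^ j k) := by
  obtain ⟨q, -, hq⟩ := hall h hh
  have e : cnj h (cnj P (shift p m)) = b ^ q • cnj P (shift p m) := by
    rw [← cnj_smul, ← hq, ← cnj_mul, ← cnj_mul]
    congr 1
    group
  have e2 : (fun k => (h : Mat p m) * cnj P (shift p m) ^ j k * ((h⁻¹ : Gl p m) : Mat p m)) =
      fun k => (b ^ q) ^ j k • cnj P (shift p m) ^ j k := by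
    funext k
    show cnj h (cnj P (shift p m) ^ j k) = _
    rw [cnj_pow, e, smul_pow]
  rw [rep_tens, e2, tens_smul, Finset.prod_pow_eq_pow_sum, ← pow_mul, mul_comm, pow_mul, hj, one_pow, one_smul]

/-- An error in high weight fixed by the diagonal element vanishes. -/
theorem err_eq_zero {P g : Gl p m} {c b : ZMod p} (hP : Deg 0 (P : Mat p m)) (hc : c ≠ 0) (hb : b ≠ 0)
    (hd : ((P⁻¹ * g * P : Gl p m) : Mat p m) = Matrix.diagonal fun r : Fin m => c * b ^ (r : ℕ)) {r : ℕ}
    {err : (Fin r → Fin m × Fin m) → ZMod p} (hg : rep r g *ᵥ err = err) {B : ℤ} (hB0 : 0 ≤ B)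
    (hB : ∀ I, wtT m r I < B → err I = 0)
    (hnone : ∀ w : ℕ, B ≤ (w : ℤ) → w ≤ r * (m - 1) → ¬ orderOf b ∣ w) : err = 0 := by
  set err' := rep r P⁻¹ *ᵥ err
  have hB' : ∀ I, wtT m r I < B → err' I = 0 := fun I hI =>
    (raise_zero_rep (deg_zero_inv hP) r).mulVec hB I (by omega)
  have hfix : rep r (P⁻¹ * g * P) *ᵥ err' = err' := by
    show rep r (P⁻¹ * g * P) *ᵥ (rep r P⁻¹ *ᵥ err) = rep r P⁻¹ *ᵥ err
    rw [Matrix.mulVec_mulVec, ← map_mul, show P⁻¹ * g * P * P⁻¹ = P⁻¹ * g by group, map_mul,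
      ← Matrix.mulVec_mulVec, hg]
  have h0 : err' = 0 := by
    funext I
    by_contra hne
    have hwB : B ≤ wtT m r I := not_lt.1 fun h => hne (hB' I h)
    obtain ⟨w, hw⟩ := Int.eq_ofNat_of_zero_le (hB0.trans hwB)
    have h1 := congrFun hfix I
    rw [rep_diag hc hb hd, hw, zpow_natCast] at h1
    refine hnone w (hw ▸ hwB) ?_ (orderOf_dvd_of_pow_eq_one ?_)
    · have := wtT_le r I; omega
    · exact mul_right_cancel₀ hne (h1.trans (one_mul _).symm)
  have h2 : rep r P *ᵥ err' = err := by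
    show rep r P *ᵥ (rep r P⁻¹ *ᵥ err) = err
    rw [Matrix.mulVec_mulVec, ← map_mul, mul_inv_cancel, map_one, Matrix.one_mulVec]
  rw [← h2, h0, Matrix.mulVec_zero]

theorem part_le {e m : ℕ} (hm : 2 ≤ m) :
    let r := (e + m - 2) / (m - 1)
    r * (m - 1) ≤ e + m - 2 ∧ e ≤ r * (m - 1) ∧ (1 ≤ e → 1 ≤ r) := by
  intro r
  have h1 := Nat.div_mul_le_self (e + m - 2) (m - 1)
  have h2 : e + m - 2 < (r + 1) * (m - 1) := Nat.lt_mul_of_div_lt (by omega) (by omega)
  rw [add_mul, one_mul] at h2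
  refine ⟨h1, by omega, fun he => ?_⟩
  rcases Nat.eq_zero_or_pos r with h | h
  · rw [h] at h2; omega
  · exact h

/-- If all centralizers in `H` of nontrivial elements of `T` normalize `T`, some element of the commutant is
relatively invariant; it is invariant when `T` has prime order and it is not of the first order. -/
theorem exists_rel {H T : Subgroup (Gl p m)} {u : Gl p m} (hA : Ab H T u) (hm : 2 ≤ m) (hmp : m < p)
    (hcl : ∀ t ∈ T, t ≠ 1 → Closed H T t)
    (halt : (∃ z ∈ T, z ≠ 1 ∧ z ∈ near p m 2) ∨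
      (m < (p - 1) / 2 ∧ ∃ d, 1 ≤ d ∧ d ≤ m ∧ ∀ g ∈ hA.nor, wgt g ^ d = 1)) :
    ∃ (j : ℕ) (U : Gl p m), Rel H j U ∧
      ((∃ z ∈ T, z ≠ 1 ∧ z ∈ near p m 2) ∨ j = 1 ∨
        ∀ g ∈ H, Commute (g : Mat p m) (shift p m ^ j * (U : Mat p m))) := by
  obtain ⟨P, g, c, b, -, hPc, hP0, hg, hc, hb, hwg, hd, hall⟩ := hA.exists_eigen hm hmp
  set L := cnj P (shift p m)
  have hLc : Commute L (shift p m) := hPc _ (Commute.refl _)
  have hLd : Deg 1 L := by simpa [L, cnj] using (hP0.mul deg_shift).mul (deg_zero_inv hP0)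
  have hLne : ∀ j < m, L ^ j ≠ 0 := by
    intro j hj h
    apply shift_pow_ne_zero (p := p) hj
    have h1 : cnj P (shift p m ^ j) = 0 := by rw [cnj_pow]; exact h
    have h2 := congrArg (cnj P⁻¹) h1
    rwa [← cnj_mul, inv_mul_cancel, show cnj (1 : Gl p m) (shift p m ^ j) = shift p m ^ j by simp [cnj],
      show cnj P⁻¹ (0 : Mat p m) = 0 by simp [cnj]] at h2
  have hL1 : co L 1 ≠ 0 := by
    intro h
    refine hLne (m - 1) (by omega) (((deg_succ_of_co hLc hLd h).pow (m - 1)).eq_zero ?_)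
    omega
  set e := orderOf b
  have hbp : b ^ (p - 1) = 1 := ZMod.pow_card_sub_one_eq_one hb
  have hep : e ∣ p - 1 := orderOf_dvd_of_pow_eq_one hbp
  have hp1 : 0 < p - 1 := by omega
  have he0 : 1 ≤ e := Nat.pos_of_dvd_of_pos hep hp1
  have he1 : e ≤ p - 1 := Nat.le_of_dvd hp1 hep
  set r := (e + m - 2) / (m - 1)
  obtain ⟨hr1, hr2, hr3⟩ := part_le (e := e) hm
  have hr0 : 1 ≤ r := hr3 he0
  obtain ⟨r', hr'⟩ : ∃ r', r = r' + 1 := ⟨r - 1, by omega⟩
  change r * (m - 1) ≤ e + m - 2 at hr1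
  change e ≤ r * (m - 1) at hr2
  rw [hr'] at hr1 hr2
  have hr2' : r' * (m - 1) < e := by rw [add_mul, one_mul] at hr1; omega
  let js : Fin (r' + 1) → ℕ := Fin.lastCases (e - r' * (m - 1)) (fun _ => m - 1)
  have hjsum : ∑ k, js k = e := by
    simp only [Fin.sum_univ_castSucc, js, Fin.lastCases_castSucc, Fin.lastCases_last, Finset.sum_const,
      Finset.card_univ, Fintype.card_fin, smul_eq_mul]
    omega
  have hjlast : e - r' * (m - 1) ≤ m - 1 := by rw [add_mul, one_mul] at hr2; omega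
  have hjs : ∀ k, 1 ≤ js k ∧ js k < m := by
    intro k
    refine Fin.lastCases ?_ (fun i => ?_) k
    · simp only [js, Fin.lastCases_last]; omega
    · simp only [js, Fin.lastCases_castSucc]; omega
  set v := tens (fun k => L ^ js k)
  let N : Subgroup H := hA.nor.subgroupOf H
  have hv : ∀ n ∈ N, rep (r' + 1) (n : Gl p m) *ᵥ v = v := fun n hn =>
    tens_fixed hA hall js (by rw [hjsum]; exact pow_orderOf_eq_one b) hn
  have hti : ∀ (a : Gl p m), a ∈ T → ∀ x : H, ((x : Gl p m))⁻¹ * a * (x : Gl p m) ∈ hA.nor →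
      a = 1 ∨ (x : Gl p m) ∈ hA.nor := fun a ha x hx => hA.ti hmp.le hcl ha x.2 hx
  set uH : H := ⟨u, hA.le hA.mem⟩
  have huN : uH ∈ N := hA.le_nor hA.mem
  have huo : orderOf uH = p := by
    rw [← Subgroup.orderOf_coe]; exact hA.orderOf_eq hmp.le hA.mem (hA.u_ne_one hm)
  -- the vector is fixed
  have hfix : ∀ h ∈ H, rep (r' + 1) h *ᵥ v = v := by
    have fin : ∀ {err : (Fin (r' + 1) → Fin m × Fin m) → ZMod p} {B : ℤ},
        (∀ h ∈ H, rep (r' + 1) h *ᵥ (v + err) = v + err) → 0 ≤ B →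
        (∀ I, wtT m (r' + 1) I < B → err I = 0) →
        (∀ w : ℕ, B ≤ (w : ℤ) → w ≤ (r' + 1) * (m - 1) → ¬ e ∣ w) → ∀ h ∈ H, rep (r' + 1) h *ᵥ v = v := by
      intro err B herr hB0 hB hnone h hh
      have hge : rep (r' + 1) g *ᵥ err = err := by
        have := herr g hg.1
        rwa [Matrix.mulVec_add, show rep (r' + 1) g *ᵥ v = v from hv ⟨g, hg.1⟩ hg, add_right_inj] at this
      have := herr h hh
      rwa [err_eq_zero hP0 hc hb hd hge hB0 hB hnone, add_zero] at this
    by_cases hz : ∃ z ∈ T, z ≠ 1 ∧ z ∈ near p m 2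
    · obtain ⟨z, hzT, hz1, hz2⟩ := hz
      set zH : H := ⟨z, hA.le hzT⟩
      have hne : zH ∉ Subgroup.zpowers uH := by
        intro hmem
        obtain ⟨n, hn⟩ := mem_powers_iff_mem_zpowers.2 hmem
        have hn' : u ^ n = z := congrArg Subtype.val hn
        have hu1 := hA.le_near hA.mem
        have hco : ∀ n : ℕ, co (((u ^ n : Gl p m) : Mat p m) - 1) 1 = (n : ZMod p) := by
          intro n
          induction n with
          | zero => simp [co_zero]
          | succ n ih =>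
            rw [pow_succ, co_one_mul (pow_mem hu1 n) hu1, ih, hA.std, add_sub_cancel_left, Nat.cast_succ]
            congr 1
            simpa using co_shift_pow (p := p) (show 1 < m by omega) 1
        have h0 : (n : ZMod p) = 0 := by
          rw [← hco, hn']; exact (mem_near.1 hz2).co_eq_zero one_lt_two
        rw [ZMod.natCast_eq_zero_iff] at h0
        obtain ⟨q, rfl⟩ := h0
        exact hz1 (by rw [← hn', pow_mul, pow_char_eq_one hu1 hmp.le, one_pow])
      obtain ⟨err, herr, hB⟩ := exists_fixed_two (H := H) (r' + 1) N (u := uH) (z := zH) huN (hA.le_nor hzT)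
        (Subtype.ext (hA.comm u hA.mem z hzT)) huo
        (by rw [← Subgroup.orderOf_coe]; exact hA.orderOf_eq hmp.le hzT hz1) hne (i := 2) (by omega)
        (hA.le_near hA.mem) hz2 hv
        (fun a k x hx => (hti (u ^ a * z ^ k) (mul_mem (pow_mem hA.mem a) (pow_mem hzT k)) x hx).imp
          (fun h => Subtype.ext h) id)
      refine fin herr ?_ hB ?_
      · omega
      · intro w hw hw' hdvd
        obtain ⟨q, rfl⟩ := hdvd
        have hwn : 3 * (p - 1) ≤ e * q + (r' + 1) * (m - 1) := by omega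
        rcases Nat.lt_or_ge q 2 with hq | hq
        · have : e * q ≤ e * 1 := Nat.mul_le_mul_left e (by omega)
          omega
        · have : e * 2 ≤ e * q := Nat.mul_le_mul_left e hq
          have hr0' : r' = 0 := by
            by_contra h
            have : 1 * (m - 1) ≤ r' * (m - 1) := Nat.mul_le_mul_right _ (by omega)
            omega
          subst hr0'
          omega
    · obtain ⟨hms, d, hd1, hdm, hdw⟩ := halt.resolve_left hz
      have hed : e ∣ d := orderOf_dvd_of_pow_eq_one (hwg ▸ hdw g hg)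
      have hem : e ≤ m := (Nat.le_of_dvd (by omega) hed).trans hdm
      have h3e : 3 * e ≤ p - 1 := by
        obtain ⟨q, hq⟩ := hep
        rcases Nat.lt_or_ge q 3 with h | h
        · have : e * q ≤ e * 2 := Nat.mul_le_mul_left e (by omega)
          omega
        · have : e * 3 ≤ e * q := Nat.mul_le_mul_left e h
          omega
      obtain ⟨err, herr, hB⟩ := exists_fixed_one (H := H) (r' + 1) N (u := uH) huN huo (hA.le_near hA.mem) hv
        (fun a ha x hx => by
          obtain ⟨n, rfl⟩ := Subgroup.mem_zpowers_iff.1 ha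
          exact (hti (u ^ n) (zpow_mem hA.mem n) x
            (by simpa [uH, N, Subgroup.mem_subgroupOf] using hx)).imp
            (fun h => Subtype.ext (by simpa [uH] using h)) id)
      have hr1' : r' ≤ 1 := by
        by_contra h
        have : 2 * (m - 1) ≤ r' * (m - 1) := Nat.mul_le_mul_right _ (by omega)
        omega
      refine fin herr ?_ hB ?_
      · rcases Nat.le_one_iff_eq_zero_or_eq_one.1 hr1' with h | h <;> subst h <;> omega
      · intro w hw hw' hdvd
        obtain ⟨q, rfl⟩ := hdvd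
        rcases Nat.le_one_iff_eq_zero_or_eq_one.1 hr1' with h | h <;> subst h
        · omega
        · rcases Nat.lt_or_ge q 2 with hq | hq
          · have : e * q ≤ e * 1 := Nat.mul_le_mul_left e (by omega)
            omega
          · have : e * 2 ≤ e * q := Nat.mul_le_mul_left e hq
            omega
  -- relative invariance
  have heig : ∀ h ∈ H, ∀ k, ∃ a : ZMod p, a ≠ 0 ∧ cnj h (L ^ js k) = a • L ^ js k := fun h hh k => by
    have := hfix h hh
    rw [rep_tens] at this
    exact tens_eq this (fun l => hLne _ (hjs l).2) k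
  have hfac : ∀ k, ∃ U : Gl p m, Commute (U : Mat p m) (shift p m) ∧ L ^ js k = shift p m ^ js k * (U : Mat p m) :=
    fun k => exists_factor (hLc.pow_left _) (hjs k).2 (by simpa using hLd.pow (js k))
      (by rw [co_pow_one hLc hLd _ (hjs k).2]; exact pow_ne_zero _ hL1)
  have hrel : ∀ k, ∀ U : Gl p m, Commute (U : Mat p m) (shift p m) →
      L ^ js k = shift p m ^ js k * (U : Mat p m) → Rel H (js k) U := by
    intro k U hUc hU
    refine ⟨(hjs k).1, (hjs k).2, hUc, fun h hh => ?_⟩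
    obtain ⟨a, ha, hae⟩ := heig h hh k
    refine ⟨a, ha, ?_⟩
    rw [← hU, cnj_eq_iff.1 hae, smul_mul_assoc]
  by_cases hz : ∃ z ∈ T, z ≠ 1 ∧ z ∈ near p m 2
  · obtain ⟨U, hUc, hU⟩ := hfac 0
    exact ⟨_, U, hrel 0 U hUc hU, Or.inl hz⟩
  · obtain ⟨hms, d, hd1, hdm, hdw⟩ := halt.resolve_left hz
    have hed : e ∣ d := orderOf_dvd_of_pow_eq_one (hwg ▸ hdw g hg)
    have hem : e ≤ m := (Nat.le_of_dvd (by omega) hed).trans hdm
    obtain ⟨U, hUc, hU⟩ := hfac (Fin.last r')
    refine ⟨_, U, hrel _ U hUc hU, Or.inr ?_⟩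
    rcases Nat.eq_zero_or_pos r' with h | h
    · subst h
      refine Or.inr fun h hh => ?_
      have h1 := hfix h hh
      rw [rep_tens] at h1
      have h2 : cnj h (L ^ js (Fin.last 0)) = L ^ js (Fin.last 0) := by
        ext a k
        have := congrFun h1 fun _ => (a, k)
        simpa [tens, vec, cnj, v] using this
      rw [← hU]
      exact cnj_eq_iff.1 h2
    · refine Or.inl ?_
      simp only [js, Fin.lastCases_last]
      have : 1 * (m - 1) ≤ r' * (m - 1) := Nat.mul_le_mul_right _ h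
      omega

theorem exists_pick {T : Subgroup (Gl p m)} (P : Gl p m → Prop) (h : ∃ t ∈ T, t ≠ 1 ∧ P t)
    (hc : ∀ t ∈ T, Commute ((t : Mat p m) - 1) (shift p m)) :
    ∃ z ∈ T, z ≠ 1 ∧ P z ∧ ∃ i, i < m ∧ Deg i ((z : Mat p m) - 1) ∧ co ((z : Mat p m) - 1) i ≠ 0 ∧
      ∀ t ∈ T, t ≠ 1 → P t → t ∈ near p m i := by
  classical
  have hex : ∃ i, ∃ z ∈ T, z ≠ 1 ∧ P z ∧ i < m ∧ Deg i ((z : Mat p m) - 1) ∧ co ((z : Mat p m) - 1) i ≠ 0 := by
    obtain ⟨t, ht, ht1, hPt⟩ := h
    obtain ⟨i, him, hid, hic⟩ := (eq_zero_or_exists_order (hc t ht)).resolve_left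
      fun h0 => ht1 (Units.ext (sub_eq_zero.1 h0))
    exact ⟨i, t, ht, ht1, hPt, him, hid, hic⟩
  obtain ⟨z, hz, hz1, hPz, him, hid, hic⟩ := Nat.find_spec hex
  refine ⟨z, hz, hz1, hPz, _, him, hid, hic, fun t ht ht1 hPt => ?_⟩
  obtain ⟨s, hsm, hsd, hsc⟩ := (eq_zero_or_exists_order (hc t ht)).resolve_left
    fun h0 => ht1 (Units.ext (sub_eq_zero.1 h0))
  exact hsd.mono (Nat.find_le ⟨t, ht, ht1, hPt, hsm, hsd, hsc⟩)

theorem Rel.img_core_of_core {H : Subgroup (Gl p m)} {j : ℕ} {U : Gl p m} (hR : Rel H j U) (hmp : m ≤ p)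
    (hQ : ∀ Q : Subgroup H, Q.Normal → IsPGroup p Q → Q ≤ hR.topHom.ker) : Core hR.img :=
  fun O hO hOp hOn => hR.img_core hmp hQ O hO hOp hOn

/-- **The abelian case.** -/
theorem false_of_ab (hp5 : 5 ≤ p) : ∀ (m : ℕ) (H T : Subgroup (Gl p m)) (u : Gl p m) (hA : Ab H T u),
    2 ≤ m → m < p → Core H → Small T →
    (p ^ 2 ≤ Nat.card T ∨ m < (p - 1) / 2 ∧ ∃ d, 1 ≤ d ∧ d ≤ m ∧ ∀ g ∈ hA.nor, wgt g ^ d = 1) → False := by
  intro m
  induction m using Nat.strong_induction_on with
  | _ m ih =>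
  intro H T u hA hm hmp hcore hsmall halt
  by_cases hcl : ∀ t ∈ T, t ≠ 1 → Closed H T t
  · -- all centralizers normalize `T`
    have halt' : (∃ z ∈ T, z ≠ 1 ∧ z ∈ near p m 2) ∨
        (m < (p - 1) / 2 ∧ ∃ d, 1 ≤ d ∧ d ≤ m ∧ ∀ g ∈ hA.nor, wgt g ^ d = 1) := by
      refine or_iff_not_imp_left.2 fun h => halt.resolve_left fun hcard => ?_
      push Not at h
      have := hA.card_le fun t ht ht2 => by_contra fun h1 => h t ht h1 ht2
      have : p * 2 ≤ p * p := Nat.mul_le_mul_left p (by omega)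
      rw [pow_two] at hcard
      omega
    obtain ⟨j, U, hR, hex⟩ := exists_rel hA hm hmp hcl halt'
    have hnormal : ∀ Q : Subgroup H, Q.Normal → IsPGroup p Q → Q = ⊥ := by
      intro Q hQn hQp
      have := hcore (Q.map H.subtype) (Subgroup.map_subtype_le _) (hQp.map _) (fun g hg =>
        mem_normalizer_of_conj_mem (by
          rintro _ ⟨x, hx, rfl⟩
          exact ⟨⟨g, hg⟩ * x * ⟨g, hg⟩⁻¹, hQn.conj_mem x hx _, rfl⟩))
      exact (Subgroup.map_eq_bot_iff_of_injective _ H.subtype_injective).1 this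
    have hQ : ∀ Q : Subgroup H, Q.Normal → IsPGroup p Q → Q ≤ hR.topHom.ker := fun Q h1 h2 =>
      hnormal Q h1 h2 ▸ bot_le
    have hXc : Commute (shift p m ^ j * (U : Mat p m)) (shift p m) :=
      ((Commute.refl _).pow_left j).mul_left hR.comm
    have hinj : ∀ t ∈ T, ∀ ht' : t ∈ H, hR.topHom ⟨t, ht'⟩ = 1 → t = 1 := by
      intro t ht ht' h1
      have hb := hR.bdHom_eq_one h1 (commute_of_commute_shift (hA.commute_shift ht) hXc)
      have := hnormal _ inferInstance (hR.isPGroup_ker hmp.le)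
      have h2 : (⟨t, ht'⟩ : H) ∈ (⊥ : Subgroup H) := this ▸ hb
      exact congrArg Subtype.val (Subgroup.mem_bot.1 h2)
    have hcard : Nat.card T ≤ Nat.card (hR.imgT T) := by
      refine Nat.card_le_card_of_injective
        (fun t : T => (⟨hR.topHom ⟨t, hA.le t.2⟩, ⟨t, hA.le t.2⟩, t.2, rfl⟩ : hR.imgT T)) fun s t h => ?_
      have h1 := congrArg Subtype.val h
      simp only at h1
      have h2 := hinj ((s : Gl p m)⁻¹ * t) (mul_mem (inv_mem s.2) t.2) (hA.le (mul_mem (inv_mem s.2) t.2))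
        (by rw [show (⟨(s : Gl p m)⁻¹ * t, _⟩ : H) = (⟨s, hA.le s.2⟩ : H)⁻¹ * ⟨t, hA.le t.2⟩ from rfl,
          map_mul, map_inv, h1, inv_mul_cancel])
      exact Subtype.ext (inv_mul_eq_one.1 h2)
    have hu' : 2 ≤ j := by
      by_contra hj
      have hj1 : j ≤ 1 := by omega
      exact hA.u_ne_one hm (hinj u hA.mem (hA.le hA.mem)
        (eq_one_of_near ((hR.ab_img hA).le_near (hR.ab_img hA).mem) hj1))
    have hsmall' : Small (hR.imgT T) ∨ j ≤ 2 := by
      rcases hsmall with h3 | hs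
      · exact Or.inr (by have := hR.lt; omega)
      refine Or.inl (Or.inr fun s hs' hs1 hnear => ?_)
      obtain ⟨t, ht, rfl⟩ := hs'
      by_cases hjs : j ≤ (p - 1) / 2
      · exact hs1 (eq_one_of_near hnear hjs)
      · have ht1 : (t : Gl p m) ≠ 1 := fun h => hs1 (by rw [show t = 1 from Subtype.ext h, map_one])
        refine hs t ht ht1 (deg_of_co ((hA.commute_shift ht).sub_left (Commute.one_left _)) fun l hl => ?_)
        have h4 := (mem_near.1 hnear).co_eq_zero hl
        rw [hR.coe_topHom, co_sub, co_top _ _ (show l < j by omega), ← top_one hR.lt.le,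
          co_top _ _ (show l < j by omega), ← co_sub] at h4
        exact h4
    have hbig : (∃ z ∈ T, z ≠ 1 ∧ z ∈ near p m 2) → p ^ 2 ≤ Nat.card (hR.imgT T) :=
      fun ⟨z, hz, hz1, hz2⟩ => (hA.sq_le_card hm hmp.le hz hz1 hz2).trans hcard
    have halt2 : p ^ 2 ≤ Nat.card (hR.imgT T) ∨
        j < (p - 1) / 2 ∧ ∃ d, 1 ≤ d ∧ d ≤ j ∧ ∀ g ∈ (hR.ab_img hA).nor, wgt g ^ d = 1 := by
      rcases hex with hz | hj1 | hex
      · exact Or.inl (hbig hz)
      · omega
      · rcases halt with h | ⟨hms, -⟩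
        · exact Or.inl (h.trans hcard)
        · exact Or.inr ⟨hR.lt.trans hms, j, by omega, le_rfl, fun g hg => hR.wgt_img hA hmp.le hu' hex hg⟩
    refine ih j hR.lt _ _ _ (hR.ab_img hA) hu' (hR.lt.trans hmp) (hR.img_core_of_core hmp.le hQ) ?_ halt2
    rcases hsmall' with h | hj2
    · exact h
    · exact Or.inr fun s _ hs1 hn => hs1 (eq_one_of_near hn (by omega))
  · -- some centralizer does not
    push Not at hcl
    obtain ⟨z, hzT, hz1, hnc, i, him, hid, hic, hmin⟩ := exists_pick (fun t => ¬ Closed H T t)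
      (by obtain ⟨t, ht, ht1, hc⟩ := hcl; exact ⟨t, ht, ht1, hc⟩)
      (fun t ht => (hA.commute_shift ht).sub_left (Commute.one_left _))
    have hi0 : 1 ≤ i := by
      by_contra h
      refine hic ((mem_near.1 (hA.le_near hzT)).co_eq_zero ?_)
      omega
    have hi2 : 2 ≤ i := by
      by_contra h
      exact hnc (hA.closed_of_regular hmp.le hzT (by rwa [show (1 : ℕ) = i by omega]))
    have his : i < (p - 1) / 2 := by
      rcases hsmall with h3 | hs
      · exfalso
        subst h3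
        have hi : i = 2 := by omega
        subst hi
        refine hnc fun g hg hgz => (hA.mem_nor hmp.le hg ?_).2
        have hcz : Commute (g : Mat p 3) ((z : Mat p 3) - 1) :=
          (show Commute (g : Mat p 3) (z : Mat p 3) from congrArg Units.val hgz).sub_right (Commute.one_right _)
        have e : (z : Mat p 3) - 1 = co ((z : Mat p 3) - 1) 2 • shift p 3 ^ 2 := by
          conv_lhs => rw [eq_sum_of_commute ((hA.commute_shift hzT).sub_left (Commute.one_left _))]
          simp [Finset.sum_range_succ, hid.co_eq_zero (show 0 < 2 by omega), hid.co_eq_zero (show 1 < 2 by omega)]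
        rw [e] at hcz
        have hc2 := congrArg (fun X => (co ((z : Mat p 3) - 1) 2)⁻¹ • X) hcz.eq
        simp only [mul_smul_comm, smul_mul_assoc, smul_smul, inv_mul_cancel₀ hic, one_smul] at hc2
        intro r c hrc
        have key : ∀ a b, ((g : Mat p 3) * shift p 3 ^ 2) a b = (shift p 3 ^ 2 * (g : Mat p 3)) a b :=
          fun a b => congrFun (congrFun hc2 a) b
        have k00 := key 0 0
        have k10 := key 1 0
        have k21 := key 2 1
        simp [Matrix.mul_apply, Fin.sum_univ_three, shift_pow_apply] at k00 k10 k21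
        fin_cases r <;> fin_cases c <;> first | assumption | exact k21.symm | (exfalso; simp at hrc)
      · by_contra hle
        exact hs z hzT hz1 (hid.mono (by omega))
    set C := H ⊓ Subgroup.centralizer ({z} : Set (Gl p m))
    have hTC : T ≤ C := fun t ht => ⟨hA.le ht, Subgroup.mem_centralizer_singleton_iff.2 (hA.comm t ht z hzT)⟩
    have hAC : Ab C T u := ⟨hTC, hA.pgroup, fun P hP hPp hle => hA.max P (hP.trans inf_le_left) hPp hle,
      hA.comm, hA.mem, hA.std⟩
    obtain ⟨U, hUc, hU⟩ := exists_factor ((hA.commute_shift hzT).sub_left (Commute.one_left _)) him hid hic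
    have hex : ∀ g ∈ C, Commute (g : Mat p m) (shift p m ^ i * (U : Mat p m)) := fun g hg => by
      rw [← hU]
      exact (show Commute (g : Mat p m) (z : Mat p m) from
        congrArg Units.val (Subgroup.mem_centralizer_singleton_iff.1 hg.2)).sub_right (Commute.one_right _)
    have hR : Rel C i U := ⟨hi0, him, hUc, fun g hg => ⟨1, one_ne_zero, by rw [one_smul]; exact (hex g hg).eq⟩⟩
    have hQ : ∀ Q : Subgroup C, Q.Normal → IsPGroup p Q → Q ≤ hR.topHom.ker := by
      intro Q hQn hQp q hq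
      have hQT : Q.map C.subtype ≤ T := hAC.le_T (Subgroup.map_subtype_le _) (hQp.map _) fun t ht =>
        mem_normalizer_of_conj_mem (by
          rintro _ ⟨x, hx, rfl⟩
          exact ⟨⟨t, hTC ht⟩ * x * ⟨t, hTC ht⟩⁻¹, hQn.conj_mem x hx _, rfl⟩)
      have hqT : (q : Gl p m) ∈ T := hQT ⟨q, hq, rfl⟩
      have hqi : (q : Gl p m) ∈ near p m i := by
        by_cases hq1 : (q : Gl p m) = 1
        · rw [hq1]; exact one_mem _
        refine hmin _ hqT hq1 fun hclq => hnc fun g hg hgz => mem_normalizer_of_conj_mem fun t ht => ?_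
        have hgC : g ∈ C := ⟨hg, Subgroup.mem_centralizer_singleton_iff.2 hgz⟩
        have hconj : ((⟨g, hgC⟩ : C)⁻¹ * q * ⟨g, hgC⟩) ∈ Q := by
          simpa using hQn.conj_mem q hq (⟨g, hgC⟩ : C)⁻¹
        have h1 : g⁻¹ * q * g ∈ T := hQT ⟨_, hconj, rfl⟩
        have h2 : g * t * g⁻¹ * q = q * (g * t * g⁻¹) := by
          have := congrArg (fun y => g * y * g⁻¹) (hA.comm t ht _ h1)
          simpa [mul_assoc] using this
        exact hA.conj_mem_T hmp.le ht ⟨mul_mem (mul_mem hg (hA.le ht)) (H.inv_mem hg),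
          hclq _ (mul_mem (mul_mem hg (hA.le ht)) (H.inv_mem hg)) h2⟩
      refine Units.ext (sub_eq_zero.1 ?_)
      rw [hR.coe_topHom, Units.val_one, ← top_one hR.lt.le]
      ext a b
      exact hqi _ _ (by simp; omega)
    refine ih i him _ _ _ (hR.ab_img hAC) hi2 (him.trans hmp) (hR.img_core_of_core hmp.le hQ)
      (Or.inr fun s _ hs1 hn => hs1 (eq_one_of_near hn his.le))
      (Or.inr ⟨his, i, hi0, le_rfl, fun g hg => hR.wgt_img hAC hmp.le hi2 hex hg⟩)

end Cfsg.Agent.UniserialSE
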