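import Cfsg.Agent.Lib.UniserialSE.Reduce
import Cfsg.Agent.Lib.QuadRoot.Flat
import Cfsg.Agent.Lib.StrongPEmb.Basic

/-!
# Quadratic elements commuting with the regular unipotent

If `z - 1 = Z` is a polynomial in the shift of highest possible order `i`, `m ≤ 2 i`, then `Z` is a quadratic element
of least rank, so that a group with a strongly `p`-embedded subgroup contains a diagonal torus element for it
(`exists_torus`); this contradicts equality of the first transitions of the layers (`false_of_quad`).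
-/

set_option autoImplicit false
set_option linter.unusedSectionVars false
set_option linter.style.haveILetI false

open Matrix Module
open scoped MatrixGroups

namespace Cfsg.Agent.UniserialSE

open Cfsg.Agent.QuadRoot (ex coe_ex InG Dmin Opp cj)

variable {p : ℕ} [Fact p.Prime] {m : ℕ}

/-- Matrices as endomorphisms. -/
noncomputable def endEquiv (p m : ℕ) [Fact p.Prime] : Mat p m ≃ₐ[ZMod p] Module.End (ZMod p) (Fin m → ZMod p) :=
  Matrix.toLinAlgEquiv'

/-- The general linear groups. -/
noncomputable def glEquiv (p m : ℕ) [Fact p.Prime] :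
    Gl p m ≃* LinearMap.GeneralLinearGroup (ZMod p) (Fin m → ZMod p) :=
  Units.mapEquiv (endEquiv p m).toMulEquiv

theorem coe_glEquiv (g : Gl p m) :
    ((glEquiv p m g : LinearMap.GeneralLinearGroup (ZMod p) (Fin m → ZMod p)) : Module.End (ZMod p) _) =
      endEquiv p m (g : Mat p m) := rfl

theorem pow_prime_pow_eq_one {g : Gl p m} {n : ℕ} (h : ((g : Mat p m) - 1) ^ n = 0) : g ^ p ^ n = 1 := by
  apply Units.ext
  rcases Nat.eq_zero_or_pos m with rfl | hm0
  · ext r; exact r.elim0
  haveI : Nonempty (Fin m) := ⟨⟨0, hm0⟩⟩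
  haveI : CharP (Mat p m) p := Matrix.charP p
  have h2 := pow_eq_zero_of_le (Nat.lt_pow_self (Fact.out : p.Prime).one_lt (n := n)).le h
  rw [sub_pow_char_pow_of_commute p n (Commute.one_right _), one_pow, sub_eq_zero] at h2
  simpa using h2

theorem pow_eq_of_sq {z : Gl p m} (hz : ((z : Mat p m) - 1) * ((z : Mat p m) - 1) = 0) (n : ℕ) :
    ((z ^ n : Gl p m) : Mat p m) = 1 + (n : ZMod p) • ((z : Mat p m) - 1) := by
  induction n with
  | zero => simp
  | succ n ih =>
    rw [pow_succ, Units.val_mul, ih, Nat.cast_succ, add_smul, one_smul]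
    conv_lhs => rw [show (z : Mat p m) = 1 + ((z : Mat p m) - 1) by abel]
    rw [mul_add, mul_one, add_mul, one_mul, add_sub_cancel, smul_mul_assoc, hz, smul_zero]
    abel

section Group

variable (H : Subgroup (Gl p m))

/-- `H` as a group of linear maps. -/
noncomputable def lin : Subgroup (LinearMap.GeneralLinearGroup (ZMod p) (Fin m → ZMod p)) :=
  H.map (glEquiv p m).toMonoidHom

theorem exists_of_mem_lin {g : LinearMap.GeneralLinearGroup (ZMod p) (Fin m → ZMod p)} (hg : g ∈ lin H) :
    ∃ y ∈ H, endEquiv p m (y : Mat p m) = (g : Module.End (ZMod p) _) := by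
  obtain ⟨y, hy, rfl⟩ := hg
  exact ⟨y, hy, rfl⟩

theorem inG_of_mem {z : Gl p m} (hz : z ∈ H) (h : ((z : Mat p m) - 1) * ((z : Mat p m) - 1) = 0) :
    InG (lin H) (endEquiv p m ((z : Mat p m) - 1)) := by
  have hsq : endEquiv p m ((z : Mat p m) - 1) * endEquiv p m ((z : Mat p m) - 1) = 0 := by
    rw [← map_mul, h, map_zero]
  refine ⟨hsq, fun c => ⟨z ^ c.val, pow_mem hz _, ?_⟩⟩
  apply Units.ext
  show endEquiv p m ((z ^ c.val : Gl p m) : Mat p m) = _
  rw [pow_eq_of_sq h, ZMod.natCast_zmod_val, coe_ex (QuadRoot.smul_sq hsq c c), map_add, map_one, map_smul]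

theorem exists_of_inG {a : Module.End (ZMod p) (Fin m → ZMod p)} (h : InG (lin H) a) :
    ∃ y ∈ H, endEquiv p m ((y : Mat p m) - 1) = a := by
  obtain ⟨y, hy, e⟩ := exists_of_mem_lin H h.ex_mem
  exact ⟨y, hy, by rw [map_sub, map_one, e, coe_ex h.sq, add_sub_cancel_left]⟩

theorem reduced_lin (hcore : ∀ O : Subgroup (Gl p m), O ≤ H → IsPGroup p O →
    H ≤ Subgroup.normalizer (O : Set (Gl p m)) → O = ⊥) : QuadRoot.Reduced (lin H) := by
  intro U hU hun hnor
  set O : Subgroup (Gl p m) := U.comap (glEquiv p m).toMonoidHom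
  have hO : O ≤ H := by
    intro x hx
    obtain ⟨y, hy, e⟩ := hU hx
    rwa [← (glEquiv p m).injective e]
  have hOp : IsPGroup p O := by
    obtain ⟨n, hn⟩ := hun
    intro x
    refine ⟨n, Subtype.ext (pow_prime_pow_eq_one (g := (x : Gl p m)) ?_)⟩
    have h := hn (List.replicate n (glEquiv p m (x : Gl p m))) (fun g hg => (List.eq_of_mem_replicate hg) ▸ x.2)
      List.length_replicate
    simp only [List.map_eq_map, bind_pure_comp, List.map_replicate, List.prod_replicate] at h
    refine (endEquiv p m).injective ?_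
    rw [map_pow, map_sub, map_one, map_zero]
    exact h
  have hOn : H ≤ Subgroup.normalizer (O : Set (Gl p m)) := fun g hg => Subgroup.mem_normalizer_fintype fun x hx => by
    have h1 := hnor (glEquiv p m g) ⟨g, hg, rfl⟩
    show glEquiv p m (g * x * g⁻¹) ∈ U
    rw [← h1, map_mul, map_mul, map_inv]
    exact ⟨glEquiv p m x, hx, rfl⟩
  have h0 := hcore O hO hOp hOn
  rw [eq_bot_iff]
  intro g hg
  obtain ⟨y, hy, rfl⟩ := hU hg
  have : y ∈ O := hg
  rw [h0, Subgroup.mem_bot] at this
  rw [Subgroup.mem_bot, this, map_one]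

/-- An element commuting with all minimal quadratic elements contradicts the strong embedding. -/
theorem exists_opp_of_se {M : Subgroup H} (hM : Cfsg.IsStronglyPEmbedded p M) (hmp : m ≤ p) (hp5 : 5 ≤ p)
    (hcore : ∀ O : Subgroup (Gl p m), O ≤ H → IsPGroup p O → H ≤ Subgroup.normalizer (O : Set (Gl p m)) → O = ⊥)
    {z : Gl p m} (hz : z ∈ H) (hz1 : z ≠ 1) (hzn : z ∈ near p m 1)
    (h : ((z : Mat p m) - 1) * ((z : Mat p m) - 1) = 0) :
    ∃ e, Dmin (lin H) e ∧ Opp (endEquiv p m ((z : Mat p m) - 1)) e := by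
  have hk2 : ringChar (ZMod p) ≠ 2 := by rw [ZMod.ringChar_zmod_n]; omega
  have hk3 : Nat.card (ZMod p) ≠ 3 := by rw [Nat.card_zmod]; omega
  have hirr := reduced_lin H hcore
  set a := endEquiv p m ((z : Mat p m) - 1) with ha_def
  have ha : InG (lin H) a := inG_of_mem H hz h
  have ha0 : a ≠ 0 := fun h0 => hz1 (Units.ext (sub_eq_zero.1 ((endEquiv p m).injective (h0.trans (map_zero _).symm))))
  by_contra hcon
  push Not at hcon
  obtain ⟨e, he⟩ := Dmin.exists_of_ne_bot ⟨a, ha, ha0⟩
  have hcen := QuadRoot.flat_centralizes hk2 hk3 hirr ha (fun e he ho => hcon e he ho.symm)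
  obtain ⟨y, hy, hye⟩ := exists_of_inG H he.inG
  have hyg : glEquiv p m y = ex e := by
    apply Units.ext
    rw [coe_glEquiv, coe_ex he.inG.sq, ← hye, map_sub, map_one, add_sub_cancel]
  have hzg : glEquiv p m z = ex a := by
    apply Units.ext
    rw [coe_glEquiv, coe_ex ha.sq, ha_def, map_sub, map_one, add_sub_cancel]
  have hall : ∀ g : H, Commute ((g * ⟨y, hy⟩ * g⁻¹ : H)) (⟨z, hz⟩ : H) := by
    intro g
    apply Subtype.ext
    apply (glEquiv p m).injective
    have h1 : Dmin (lin H) (cj (glEquiv p m (g : Gl p m)) e) := he.conj ⟨g, g.2, rfl⟩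
    have h2 : ex (cj (glEquiv p m (g : Gl p m)) e) ∈ QuadRoot.sigmaJoin (lin H) :=
      QuadRoot.le_sigmaJoin (QuadRoot.mem_rootSubgroups h1)
        (QuadRoot.ex_mem_sameActionSubgroup h1 (QuadRoot.SameClass.refl h1))
    have h3 := Subgroup.mem_centralizer_iff.1 hcen _ h2
    rw [← QuadRoot.conj_ex (glEquiv p m (g : Gl p m)) he.inG.sq, ← hyg, ← hzg] at h3
    simp only [Subgroup.coe_mul, Subgroup.coe_inv, map_mul, map_inv]
    exact h3
  obtain ⟨P, hP⟩ := StrongPEmb.exists_sylow_le hM
  have hzp : orderOf (⟨z, hz⟩ : H) = p := by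
    rw [← Subgroup.orderOf_coe]
    exact orderOf_eq_prime (pow_char_eq_one hzn hmp) hz1
  obtain ⟨Q, hQ⟩ := (StrongPEmb.isPGroup_zpowers_of_orderOf_eq hzp).exists_le_sylow
  obtain ⟨g, hg⟩ := MulAction.exists_smul_eq H Q P
  set z0 : H := g * ⟨z, hz⟩ * g⁻¹
  have hz0M : z0 ∈ M := by
    refine hP ?_
    rw [← hg]
    exact Subgroup.smul_mem_pointwise_smul _ (MulAut.conj g) _ (hQ (Subgroup.mem_zpowers _))
  have hz0 : orderOf z0 = p := by
    rw [show z0 = MulAut.conj g ⟨z, hz⟩ from rfl, MulEquiv.orderOf_eq, hzp]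
  have hyM : ∀ x : H, x * ⟨y, hy⟩ * x⁻¹ ∈ M := by
    intro x
    refine StrongPEmb.centralizer_le hM hz0M hz0 ?_
    rw [Subgroup.mem_centralizer_singleton_iff]
    have h1 := congrArg (fun w => g * w * g⁻¹) (hall (g⁻¹ * x)).eq
    simpa [z0, mul_assoc] using h1
  have hyp : orderOf (⟨y, hy⟩ : H) = p := by
    refine orderOf_eq_prime (Subtype.ext (Units.ext ?_)) fun h1 => he.ne ?_
    · have hsq : ((y : Mat p m) - 1) * ((y : Mat p m) - 1) = 0 := (endEquiv p m).injective (by
        rw [map_mul, hye, he.inG.sq, map_zero])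
      show ((y ^ p : Gl p m) : Mat p m) = 1
      rw [pow_eq_of_sq hsq, ZMod.natCast_self, zero_smul, add_zero]
    · rw [← hye, show y = 1 from congrArg Subtype.val h1, Units.val_one, sub_self, map_zero]
  exact hM.2.1 (top_le_iff.1 fun x _ => StrongPEmb.mem_of_conj_mem hM hyp (by simpa using hyM 1) (hyM x))

end Group

/-! ### The corner block -/

/-- Nonzero only below row `i` and left of column `r`. -/
def Crn (i r : ℕ) (X : Mat p m) : Prop := ∀ a c : Fin m, ((a : ℕ) < i ∨ r ≤ (c : ℕ)) → X a c = 0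

theorem Crn.mul_eq_zero {i r : ℕ} {X Y : Mat p m} (hX : Crn i r X) (hY : Crn i r Y) (hri : r ≤ i) :
    X * Y = 0 := by
  ext a c
  rw [Matrix.mul_apply, Matrix.zero_apply]
  refine Finset.sum_eq_zero fun k _ => ?_
  rcases Nat.lt_or_ge (k : ℕ) i with h | h
  · rw [hY k c (Or.inl h), mul_zero]
  · rw [hX a k (Or.inr (hri.trans h)), zero_mul]

theorem Crn.conj {i r : ℕ} {X A B : Mat p m} (hX : Crn i r X) (hA : Deg 0 A) (hB : Deg 0 B) :
    Crn i r (A * X * B) := by
  intro a c hac
  rw [Matrix.mul_apply]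
  refine Finset.sum_eq_zero fun k _ => ?_
  rw [Matrix.mul_apply, Finset.sum_mul]
  refine Finset.sum_eq_zero fun l _ => ?_
  rcases Nat.lt_or_ge (a : ℕ) l with h | h
  · rw [hA a l (by omega), zero_mul, zero_mul]
  rcases Nat.lt_or_ge (k : ℕ) c with h' | h'
  · rw [hB k c (by omega), mul_zero]
  rcases hac with hac | hac
  · rw [hX l k (Or.inl (by omega)), mul_zero, zero_mul]
  · rw [hX l k (Or.inr (by omega)), mul_zero, zero_mul]

theorem Crn.deg {i r : ℕ} {X : Mat p m} (hX : Crn i r X) (hri : r ≤ i) : Deg 1 X := fun a c h => by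
  rcases Nat.lt_or_ge (a : ℕ) i with h' | h'
  · exact hX a c (Or.inl h')
  · exact hX a c (Or.inr (by omega))

/-- The hypotheses on the quadratic element. -/
structure Quad (H T : Subgroup (Gl p m)) (u z : Gl p m) (i : ℕ) : Prop where
  sylow : T = H ⊓ near p m 1
  memu : u ∈ T
  std : (u : Mat p m) = 1 + shift p m
  memz : z ∈ T
  comm : Commute (z : Mat p m) (shift p m)
  lt : i < m
  half : m ≤ 2 * i
  deg : Deg i ((z : Mat p m) - 1)
  co_ne : co ((z : Mat p m) - 1) i ≠ 0
  top : ∀ t ∈ T, Commute (t : Mat p m) (shift p m) → Deg (i + 1) ((t : Mat p m) - 1) → t = 1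

namespace Quad

variable {H T : Subgroup (Gl p m)} {u z : Gl p m} {i : ℕ}

theorem one_le (hq : Quad H T u z i) : 1 ≤ i := by have := hq.half; have := hq.lt; omega

theorem sq (hq : Quad H T u z i) : ((z : Mat p m) - 1) * ((z : Mat p m) - 1) = 0 :=
  (hq.deg.mul hq.deg).eq_zero (by have := hq.half; omega)

theorem le_H (hq : Quad H T u z i) : T ≤ H := hq.sylow ▸ inf_le_left

theorem le_near (hq : Quad H T u z i) : T ≤ near p m 1 := hq.sylow ▸ inf_le_right

theorem eq_smul (hq : Quad H T u z i) (hmp : m ≤ p) : ∀ n : ℕ, ∀ y ∈ T, ∀ s, m ≤ s + n →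
    Deg s ((y : Mat p m) - 1) → Crn i (m - i) ((y : Mat p m) - 1) →
    ∃ c : ZMod p, (y : Mat p m) - 1 = c • ((z : Mat p m) - 1) := by
  have hi := hq.one_le
  have him := hq.lt
  have hri : m - i ≤ i := by have := hq.half; omega
  intro n
  induction n with
  | zero =>
    intro y _ s hs hd _
    exact ⟨0, by rw [zero_smul]; exact hd.eq_zero (by omega)⟩
  | succ n ih =>
    intro y hy s hs hd hX
    set X := (y : Mat p m) - 1 with hXdef
    set Z := (z : Mat p m) - 1 with hZdef
    have hu0 : Deg 0 (u : Mat p m) := deg_of_mem_near (hq.le_near hq.memu)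
    have hui : Deg 0 ((u⁻¹ : Gl p m) : Mat p m) := deg_of_mem_near (hq.le_near (inv_mem hq.memu))
    set X' := (u : Mat p m) * X * ((u⁻¹ : Gl p m) : Mat p m)
    have hX' : Crn i (m - i) X' := hX.conj hu0 hui
    have hyinv : ((y⁻¹ : Gl p m) : Mat p m) = 1 - X := by
      refine Units.inv_eq_of_mul_eq_one_right ?_
      rw [show (y : Mat p m) = 1 + X by rw [hXdef]; abel, mul_sub, mul_one, add_mul, one_mul,
        hX.mul_eq_zero hX hri]
      abel
    have hy1 : u * y * u⁻¹ * y⁻¹ ∈ T :=
      mul_mem (mul_mem (mul_mem hq.memu hy) (inv_mem hq.memu)) (inv_mem hy)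
    have hv : ((u * y * u⁻¹ * y⁻¹ : Gl p m) : Mat p m) - 1 = X' - X := by
      rw [Units.val_mul, Units.val_mul, Units.val_mul, hyinv, show (y : Mat p m) = 1 + X by rw [hXdef]; abel]
      simp only [mul_add, mul_one, add_mul, Units.mul_inv, one_mul, mul_sub, X']
      rw [show (u : Mat p m) * X * ((u⁻¹ : Gl p m) : Mat p m) * X = 0 from hX'.mul_eq_zero hX hri]
      abel
    have hcr : Crn i (m - i) (X' - X) := fun a c h => by rw [Matrix.sub_apply, hX' a c h, hX a c h, sub_self]
    have hdd : Deg (s + 1) (X' - X) := by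
      have e : X' - X = ((u : Mat p m) - 1) * X * ((u⁻¹ : Gl p m) : Mat p m) +
          X * (((u⁻¹ : Gl p m) : Mat p m) - 1) := by
        simp only [X', sub_mul, mul_sub, one_mul, mul_one]; abel
      rw [e]
      exact ((((hq.le_near hq.memu)).mul hd).mul hui).mono (by omega) |>.add
        ((hd.mul (hq.le_near (inv_mem hq.memu))).mono (by omega))
    obtain ⟨k, hk⟩ := ih _ hy1 (s + 1) (by omega) (by rw [hv]; exact hdd) (by rw [hv]; exact hcr)
    rw [hv] at hk
    -- the trace functional
    have hk0 : k = 0 := by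
      have e : shift p m * X - X * shift p m = k • (Z * (u : Mat p m)) := by
        rw [← smul_mul_assoc, ← hk, sub_mul X' X, show X' * (u : Mat p m) = (u : Mat p m) * X from
          Units.inv_mul_cancel_right ((u : Mat p m) * X) u, hq.std, mul_add, add_mul, mul_one, one_mul]
        abel
      let f : ℕ → ZMod p := fun l =>
        if h : i + l - 1 < m ∧ l < m then X ⟨i + l - 1, h.1⟩ ⟨l, h.2⟩ else 0
      have hsum : ∑ l ∈ Finset.range (m - i), (f l - f (l + 1)) =
          ∑ l ∈ Finset.range (m - i), k * co Z i := by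
        refine Finset.sum_congr rfl fun l hl => ?_
        have hl' := Finset.mem_range.1 hl
        have h1 := congrFun (congrFun e ⟨i + l, by omega⟩) ⟨l, by omega⟩
        have hc : Commute (Z * (u : Mat p m)) (shift p m) := by
          refine (hq.comm.sub_left (Commute.one_left _)).mul_left ?_
          rw [hq.std]; exact (Commute.one_left _).add_left (Commute.refl _)
        rw [Matrix.sub_apply, Matrix.smul_apply, shift_mul_apply, mul_shift_apply, apply_of_commute hc,
          dif_pos (show 0 < i + l by omega), dif_pos (show l + 1 < m by omega), if_pos (Nat.le_add_left l i),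
          show i + l - l = i by omega, smul_eq_mul] at h1
        have h2 : co (Z * (u : Mat p m)) i = co Z i := by
          have := co_mul_deg (hq.comm.sub_left (Commute.one_left _))
            (show Commute (u : Mat p m) (shift p m) by rw [hq.std]; exact (Commute.one_left _).add_left (Commute.refl _))
            hq.deg hu0 (show i + 0 < m by omega)
          rw [add_zero] at this
          have e0 : co (u : Mat p m) 0 = 1 := by
            rw [hq.std, co_add, deg_shift.co_eq_zero Nat.one_pos, add_zero, co, dif_pos (by omega), Matrix.one_apply_eq]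
          rw [this, e0, mul_one]
        rw [h2] at h1
        rw [← h1]
        simp only [f]
        rw [dif_pos ⟨by omega, by omega⟩, dif_pos ⟨by omega, by omega⟩]
        congr 1
      rw [Finset.sum_range_sub', Finset.sum_const, Finset.card_range, nsmul_eq_mul] at hsum
      have f0 : f 0 = 0 := by
        simp only [f]; split
        · exact hX _ _ (Or.inl (by simp; omega))
        · rfl
      have fr : f (m - i) = 0 := by
        simp only [f]; split
        · exact hX _ _ (Or.inr (by simp))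
        · rfl
      rw [f0, fr, sub_zero, eq_comm, mul_eq_zero] at hsum
      rcases hsum with h | h
      · rw [ZMod.natCast_eq_zero_iff] at h
        exact absurd (Nat.le_of_dvd (by omega) h) (by omega)
      · exact (mul_eq_zero.1 h).resolve_right hq.co_ne
    rw [hk0, zero_smul, sub_eq_zero] at hk
    have hXc : Commute X (shift p m) := by
      have h1 : (u : Mat p m) * X = X * (u : Mat p m) := by
        conv_rhs => rw [← hk]
        simp [X', mul_assoc]
      rw [hq.std, add_mul, mul_add, one_mul, mul_one, add_right_inj] at h1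
      exact h1.symm
    have hXi : Deg i X := deg_of_co hXc fun l hl => by
      rw [co, dif_pos (show l < m by omega)]
      exact hX _ _ (Or.inl hl)
    set c := co X i * (co Z i)⁻¹
    refine ⟨c, ?_⟩
    have hZc : Commute Z (shift p m) := hq.comm.sub_left (Commute.one_left _)
    have hw : ((y * (z ^ c.val)⁻¹ : Gl p m) : Mat p m) - 1 = X - c • Z := by
      have hzi : (((z ^ c.val)⁻¹ : Gl p m) : Mat p m) = 1 - c • Z := by
        refine Units.inv_eq_of_mul_eq_one_right ?_
        rw [pow_eq_of_sq hq.sq, ZMod.natCast_zmod_val, mul_sub, mul_one, add_mul, one_mul, smul_mul_smul_comm,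
          hq.sq, smul_zero]
        abel
      rw [Units.val_mul, hzi, show (y : Mat p m) = 1 + X by rw [hXdef]; abel, add_mul, one_mul, mul_sub, mul_one,
        mul_smul_comm, (hXi.mul hq.deg).eq_zero (by have := hq.half; omega), smul_zero, sub_zero]
      abel
    have hdeg : Deg (i + 1) (X - c • Z) := deg_succ_of_co (hXc.sub_left (hZc.smul_left _))
      (hXi.sub (hq.deg.smul _)) (by
        rw [co_sub, co_smul]
        show co X i - co X i * (co Z i)⁻¹ * co Z i = 0
        rw [mul_assoc, inv_mul_cancel₀ (show co Z i ≠ 0 from hq.co_ne), mul_one, sub_self])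
    have h1 := hq.top _ (mul_mem hy (inv_mem (pow_mem hq.memz _)))
      (by
        have := (hXc.sub_left (hZc.smul_left c)).add_left (Commute.one_left (shift p m))
        rwa [← hw, sub_add_cancel] at this)
      (hw ▸ hdeg)
    rw [← sub_eq_zero, ← hw, h1, Units.val_one, sub_self]

/-- The torus element. -/
theorem exists_torus (hq : Quad H T u z i) (hmp : m ≤ p) (hp5 : 5 ≤ p)
    (hcore : ∀ O : Subgroup (Gl p m), O ≤ H → IsPGroup p O → H ≤ Subgroup.normalizer (O : Set (Gl p m)) → O = ⊥)
    {M : Subgroup H} (hM : Cfsg.IsStronglyPEmbedded p M) :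
    ∃ W : Mat p m, ((z : Mat p m) - 1) * W * ((z : Mat p m) - 1) = (z : Mat p m) - 1 ∧
      ∀ l : ZMod p, l ≠ 0 → ∃ h ∈ H, (h : Mat p m) =
        1 + (l - 1) • (((z : Mat p m) - 1) * W) + (l⁻¹ - 1) • (W * ((z : Mat p m) - 1)) := by
  have hk2 : ringChar (ZMod p) ≠ 2 := by rw [ZMod.ringChar_zmod_n]; omega
  have hk3 : Nat.card (ZMod p) ≠ 3 := by rw [Nat.card_zmod]; omega
  have hi := hq.one_le
  have hri : m - i ≤ i := by have := hq.half; omega
  have hirr := reduced_lin H hcore
  set Z := (z : Mat p m) - 1 with hZdef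
  have hz1 : z ≠ 1 := fun h => hq.co_ne (by rw [h, Units.val_one, sub_self, co_zero])
  have hZd : Deg i Z := hq.deg
  obtain ⟨e, he, hop⟩ := exists_opp_of_se H hM hmp hp5 hcore (hq.le_H hq.memz) hz1 (hq.le_near hq.memz) hq.sq
  have ha : InG (lin H) (endEquiv p m Z) := inG_of_mem H (hq.le_H hq.memz) hq.sq
  obtain ⟨P, -, hcP, hd, -, -⟩ := QuadRoot.split hk2 hk3 ha he hop
  obtain ⟨y, hy, hye⟩ := exists_of_inG H hd.inG
  set P' := (endEquiv p m).symm P
  have hyX : (y : Mat p m) - 1 = Z * P' := (endEquiv p m).injective (by simp [hye, P'])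
  have hyX' : (y : Mat p m) - 1 = P' * Z := (endEquiv p m).injective (by simp [hye, P', hcP.eq])
  have hcrn : Crn i (m - i) ((y : Mat p m) - 1) := by
    rintro a c (hac | hac)
    · rw [hyX, Matrix.mul_apply]
      exact Finset.sum_eq_zero fun k _ => by rw [hZd a k (by omega), zero_mul]
    · rw [hyX', Matrix.mul_apply]
      exact Finset.sum_eq_zero fun k _ => by rw [hZd k c (by have := k.2; omega), mul_zero]
  have hyT : y ∈ T := hq.sylow.symm ▸ ⟨hy, mem_near.2 (hcrn.deg hri)⟩
  obtain ⟨c, hc⟩ := hq.eq_smul hmp m y hyT 1 (by omega) (hcrn.deg hri) hcrn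
  have hc0 : c ≠ 0 := by
    rintro rfl
    exact hd.ne (by rw [← hye, hc, zero_smul, map_zero])
  have hdZ : Dmin (lin H) (endEquiv p m Z) := by
    have := hd.smul (inv_ne_zero hc0)
    rwa [← hye, hc, map_smul, smul_smul, inv_mul_cancel₀ hc0, one_smul] at this
  obtain ⟨b, hb, hopb⟩ := QuadRoot.exists_opp hk2 hk3 hirr hdZ
  obtain ⟨L, _, _, ⟨md⟩⟩ := QuadRoot.exists_model hk2 hk3 hdZ hb hopb
  set W' := md.T !![0, 0; 1, 0]
  refine ⟨(endEquiv p m).symm W', (endEquiv p m).injective ?_, fun l hl => ?_⟩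
  · rw [map_mul, map_mul, AlgEquiv.apply_symm_apply]
    have ea := md.map_a'
    refine Eq.trans ?_ ea
    conv_lhs => rw [md.a_mul_T, md.T_mul_a]
    congr 1
    ext a b; fin_cases a <;> fin_cases b <;> simp [Matrix.mul_apply, Fin.sum_univ_two]
  · let g : SL(2, L) := ⟨!![algebraMap (ZMod p) L l, 0; 0, algebraMap (ZMod p) L l⁻¹], by
      rw [Matrix.det_fin_two_of, mul_zero, sub_zero, ← map_mul, mul_inv_cancel₀ hl, map_one]⟩
    obtain ⟨h, hh, hhe⟩ := exists_of_mem_lin H (md.mem g)
    refine ⟨h, hh, (endEquiv p m).injective ?_⟩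
    rw [hhe]
    have h1 := md.sub_one_rho g
    rw [sub_eq_iff_eq_add'] at h1
    have e1 : endEquiv p m Z * W' = md.T !![1, 0; 0, 0] := by
      refine (md.a_mul_T _).trans ?_
      congr 1
      ext a b; fin_cases a <;> fin_cases b <;> simp [Matrix.mul_apply, Fin.sum_univ_two]
    have e2 : W' * endEquiv p m Z = md.T !![0, 0; 0, 1] := by
      refine (md.T_mul_a _).trans ?_
      congr 1
      ext a b; fin_cases a <;> fin_cases b <;> simp [Matrix.mul_apply, Fin.sum_univ_two]
    rw [h1, map_add, map_add, map_smul, map_smul, map_mul, map_mul, map_one, AlgEquiv.apply_symm_apply, e1, e2,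
      ← LinearMap.map_smul, ← LinearMap.map_smul, add_assoc, ← LinearMap.map_add]
    congr 2
    show (g : Matrix (Fin 2) (Fin 2) L) - 1 = _
    ext a b
    fin_cases a <;> fin_cases b <;>
      simp [g, Matrix.one_apply, Algebra.algebraMap_eq_smul_one, sub_smul, -map_inv₀]

/-- **The quadratic case.** -/
theorem false_of_quad (hq : Quad H T u z i) (hmp : m ≤ p) (hp5 : 5 ≤ p)
    (hcore : ∀ O : Subgroup (Gl p m), O ≤ H → IsPGroup p O → H ≤ Subgroup.normalizer (O : Set (Gl p m)) → O = ⊥)
    {M : Subgroup H} (hM : Cfsg.IsStronglyPEmbedded p M) (hm4 : 4 ≤ m)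
    (hL : ∀ t ∈ T, ∃ τ : ZMod p, ∀ a b : Fin m, (b : ℕ) + 3 ≤ m → (a : ℕ) = b + 1 → (t : Mat p m) a b = τ) :
    False := by
  obtain ⟨W, hW, hh⟩ := hq.exists_torus hmp hp5 hcore hM
  have h2 : (2 : ZMod p) ≠ 0 := by
    intro h
    have : ((2 : ℕ) : ZMod p) = 0 := by simpa using h
    rw [ZMod.natCast_eq_zero_iff] at this
    exact absurd (Nat.le_of_dvd two_pos this) (by omega)
  have h4 : (2 : ZMod p) * 2 ≠ 1 := by
    intro h
    have : ((3 : ℕ) : ZMod p) = 0 := by push_cast; linear_combination h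
    rw [ZMod.natCast_eq_zero_iff] at this
    exact absurd (Nat.le_of_dvd three_pos this) (by omega)
  have h21 : (2 : ZMod p) ≠ 1 := fun h => one_ne_zero (α := ZMod p) (by linear_combination h)
  obtain ⟨h, hH, hhv⟩ := hh 2 h2
  have hi := hq.one_le
  have him := hq.lt
  have hri : m - i ≤ i := by have := hq.half; omega
  set Z := (z : Mat p m) - 1 with hZdef
  have hZc : Commute Z (shift p m) := hq.comm.sub_left (Commute.one_left _)
  obtain ⟨U, hUc, hU⟩ := exists_factor hZc him hq.deg hq.co_ne
  have hZd : Deg i Z := hq.deg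
  have hZW : ∀ a b : Fin m, (a : ℕ) < i → (Z * W) a b = 0 := fun a b hab => by
    rw [Matrix.mul_apply]
    exact Finset.sum_eq_zero fun k _ => by rw [hZd a k (by omega), zero_mul]
  have hWZ : ∀ a b : Fin m, m ≤ (b : ℕ) + i → (W * Z) a b = 0 := fun a b hab => by
    rw [Matrix.mul_apply]
    exact Finset.sum_eq_zero fun k _ => by rw [hZd k b (by have := k.2; omega), mul_zero]
  have hhZ : (h : Mat p m) * Z = (2 : ZMod p) • Z := by
    rw [hhv, add_mul, add_mul, one_mul, smul_mul_assoc, smul_mul_assoc, hW, mul_assoc W Z Z, hq.sq, mul_zero,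
      smul_zero, add_zero, sub_smul, one_smul, add_sub_cancel]
  have hZh : Z * (h : Mat p m) = (2 : ZMod p)⁻¹ • Z := by
    rw [hhv, mul_add, mul_add, mul_one, mul_smul_comm, mul_smul_comm, ← mul_assoc, ← mul_assoc, hW, hq.sq,
      zero_mul, smul_zero, add_zero, sub_smul, one_smul, add_sub_cancel]
  have hcanc : ∀ X : Mat p m, X * (U : Mat p m) * ((U⁻¹ : Gl p m) : Mat p m) = X := fun X => by
    rw [mul_assoc, Units.mul_inv, mul_one]
  have hcol : ∀ a b : Fin m, i ≤ (b : ℕ) → (h : Mat p m) a b = if a = b then (2 : ZMod p) else 0 := by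
    intro a b hb
    have e : (h : Mat p m) * shift p m ^ i = (2 : ZMod p) • shift p m ^ i := by
      have := congrArg (· * ((U⁻¹ : Gl p m) : Mat p m)) hhZ
      simpa only [hU, ← mul_assoc, smul_mul_assoc, hcanc] using this
    have e1 := congrFun (congrFun e a) ⟨(b : ℕ) - i, by omega⟩
    rw [Matrix.mul_apply, Finset.sum_eq_single b, shift_pow_apply, if_pos (show (b : ℕ) = b - i + i by omega),
      mul_one, Matrix.smul_apply, shift_pow_apply, smul_eq_mul] at e1
    · rw [e1]
      by_cases hab : a = b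
      · subst hab; rw [if_pos rfl, if_pos (show (a : ℕ) = a - i + i by omega), mul_one]
      · rw [if_neg hab, if_neg, mul_zero]
        intro he
        exact hab (Fin.ext (by simp at he; omega))
    · intro k _ hk
      rw [shift_pow_apply, if_neg, mul_zero]
      intro he
      exact hk (Fin.ext (by simp at he; omega))
    · simp
  have hrow : ∀ a b : Fin m, (a : ℕ) + i < m → (h : Mat p m) a b = if a = b then (2 : ZMod p)⁻¹ else 0 := by
    intro a b ha
    have e : shift p m ^ i * (h : Mat p m) = (2 : ZMod p)⁻¹ • shift p m ^ i := by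
      have hUi : Commute ((U⁻¹ : Gl p m) : Mat p m) (shift p m ^ i) := hUc.units_inv_left.pow_right i
      have h1 : ((U⁻¹ : Gl p m) : Mat p m) * Z = shift p m ^ i := by
        rw [hU, ← mul_assoc, hUi.eq, mul_assoc, Units.inv_mul, mul_one]
      rw [← h1, mul_assoc, hZh, mul_smul_comm]
    have e1 := congrFun (congrFun e ⟨(a : ℕ) + i, ha⟩) b
    rw [Matrix.mul_apply, Finset.sum_eq_single a, shift_pow_apply, if_pos rfl,
      one_mul, Matrix.smul_apply, shift_pow_apply, smul_eq_mul] at e1
    · rw [e1]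
      by_cases hab : a = b
      · subst hab; rw [if_pos rfl, if_pos rfl, mul_one]
      · rw [if_neg hab, if_neg, mul_zero]
        intro he
        exact hab (Fin.ext (by simp at he; omega))
    · intro k _ hk
      rw [shift_pow_apply, if_neg, zero_mul]
      intro he
      exact hk (Fin.ext (by simp at he; omega))
    · simp
  have hmid : ∀ a b : Fin m, m ≤ (a : ℕ) + i → (a : ℕ) < i → m ≤ (b : ℕ) + i → (h : Mat p m) a b = if a = b then 1 else 0 := by
    intro a b h1 h2 h3
    rw [hhv, Matrix.add_apply, Matrix.add_apply, Matrix.smul_apply, Matrix.smul_apply, hZW a b h2, hWZ a b h3,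
      smul_zero, smul_zero, add_zero, add_zero, Matrix.one_apply]
  -- `h` is triangular, hence normalizes `T`
  have hd0 : Deg 0 (h : Mat p m) := by
    intro a b hab
    have hne : a ≠ b := fun e => by subst e; omega
    rcases Nat.lt_or_ge ((a : ℕ) + i) m with ha | ha
    · rw [hrow a b ha, if_neg hne]
    · rcases Nat.lt_or_ge (b : ℕ) i with hb | hb
      · rw [hmid a b ha (by omega) (by omega), if_neg hne]
      · rw [hcol a b hb, if_neg hne]
  have ht : h * u * h⁻¹ ∈ T := by
    rw [hq.sylow]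
    refine ⟨mul_mem (mul_mem hH (hq.le_H hq.memu)) (H.inv_mem hH), mem_near.2 ?_⟩
    have e : ((h * u * h⁻¹ : Gl p m) : Mat p m) - 1 =
        (h : Mat p m) * shift p m * ((h⁻¹ : Gl p m) : Mat p m) := by
      rw [Units.val_mul, Units.val_mul, hq.std]; simp [mul_add, add_mul]
    rw [e]
    exact (hd0.mul deg_shift).mul (deg_zero_inv hd0)
  obtain ⟨τ, hτ⟩ := hL _ ht
  set t : Gl p m := h * u * h⁻¹ with htdef
  have hkey : ∀ a b : Fin m, (b : ℕ) + 3 ≤ m → (a : ℕ) = b + 1 →
      (h : Mat p m) a a = τ * (h : Mat p m) b b := by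
    intro a b hb hab
    have e : (h : Mat p m) * (u : Mat p m) = (t : Mat p m) * (h : Mat p m) := by
      rw [← Units.val_mul, ← Units.val_mul, htdef, inv_mul_cancel_right]
    have e1 := congrFun (congrFun e a) b
    have ht1 := hq.le_near ht
    rw [hq.std, mul_add, mul_one, Matrix.add_apply, mul_shift_apply, dif_pos (show (b : ℕ) + 1 < m by omega),
      show (⟨(b : ℕ) + 1, by omega⟩ : Fin m) = a from Fin.ext hab.symm, Matrix.mul_apply,
      Finset.sum_eq_add_of_mem a b (Finset.mem_univ _) (Finset.mem_univ _) (fun e => by subst e; omega)] at e1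
    · have hta : (t : Mat p m) a a = 1 := by
        have := ht1 a a (by omega)
        rwa [Matrix.sub_apply, Matrix.one_apply_eq, sub_eq_zero] at this
      rw [hta, one_mul, hτ a b hb hab] at e1
      linear_combination e1
    · intro k _ hk
      rcases Nat.lt_or_ge (a : ℕ) k with h1 | h1
      · have := ht1 a k (by omega)
        rw [Matrix.sub_apply, Matrix.one_apply_ne (fun e => by subst e; omega), sub_zero] at this
        rw [this, zero_mul]
      · have hka : (k : ℕ) ≠ a := fun e => hk.1 (Fin.ext e)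
        have hkb : (k : ℕ) ≠ b := fun e => hk.2 (Fin.ext e)
        rw [hd0 k b (by omega), mul_zero]
  have hdiag : ∀ a : Fin m, (h : Mat p m) a a =
      if (a : ℕ) + i < m then (2 : ZMod p)⁻¹ else if (a : ℕ) < i then 1 else 2 := by
    intro a
    split
    · rename_i ha; rw [hrow a a ha, if_pos rfl]
    · split
      · rename_i ha hai; rw [hmid a a (by omega) hai (by omega), if_pos rfl]
      · rename_i ha hai; rw [hcol a a (by omega), if_pos rfl]
  have hinv1 : (2 : ZMod p)⁻¹ ≠ 1 := fun e => h21 (inv_eq_one.1 e)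
  rcases Nat.lt_or_ge (i + 1) m with hr | hr
  · -- at least two top positions
    have k0 := hkey ⟨1, by omega⟩ ⟨0, by omega⟩ (by simp; omega) (by simp)
    rw [hdiag, hdiag, if_pos (by simp; omega), if_pos (by simp; omega)] at k0
    have hτ1 : τ = 1 := mul_right_cancel₀ (inv_ne_zero h2) (k0.symm.trans (one_mul _).symm)
    have k1 := hkey ⟨m - i, by omega⟩ ⟨m - i - 1, by omega⟩ (by simp; omega) (by simp; omega)
    rw [hdiag, hdiag, if_neg (by simp; omega), if_pos (show m - i - 1 + i < m by omega), hτ1, one_mul] at k1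
    split at k1
    · exact hinv1 k1.symm
    · exact h4 (by rw [show (2 : ZMod p) * 2 = 2 * 2⁻¹ by rw [← k1], mul_inv_cancel₀ h2])
  · have k1 := hkey ⟨2, by omega⟩ ⟨1, by omega⟩ (by simp; omega) (by simp)
    rw [hdiag, hdiag, if_neg (by simp; omega), if_pos (by simp; omega), if_neg (by simp; omega),
      if_pos (by simp; omega)] at k1
    have hτ1 : τ = 1 := by rw [mul_one] at k1; exact k1.symm
    have k0 := hkey ⟨1, by omega⟩ ⟨0, by omega⟩ (by simp; omega) (by simp)
    rw [hdiag, hdiag, if_neg (by simp; omega), if_pos (by simp; omega), if_pos (by simp; omega), hτ1,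
      one_mul] at k0
    exact hinv1 k0.symm

end Quad

end Cfsg.Agent.UniserialSE
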