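import Cfsg.Agent.Lib.UniserialSE.Induction
import Cfsg.Agent.Lib.UniserialSE.Quad

/-!
# Uniserial modules in dimension less than `p` for groups with a strongly `p`-embedded subgroup

`false_of_uniserial` : a subgroup of `GL_m(p)`, `m < p`, with a strongly `p`-embedded subgroup has no Sylow
`p`-subgroup `T` of order at least `p ^ 2` containing a regular unipotent element, if the first `m - 2` transitions
between the layers of the flag are equal for each element of `T`, and `T` is abelian when `m ≤ 3`.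
-/

set_option autoImplicit false
set_option linter.unusedSectionVars false
set_option linter.style.haveILetI false

open Matrix

namespace Cfsg.Agent.UniserialSE

variable {p : ℕ} [Fact p.Prime] {m : ℕ}

theorem core_of_se {H : Subgroup (Gl p m)} {M : Subgroup H} (hM : Cfsg.IsStronglyPEmbedded p M) : Core H := by
  intro O hO hOp hOn
  haveI hN : (O.subgroupOf H).Normal := Subgroup.normal_subgroupOf_of_le_normalizer hOn
  have hp' : IsPGroup p (O.subgroupOf H) := hOp.of_equiv (Subgroup.subgroupOfEquivOfLe hO).symm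
  obtain ⟨P, hP⟩ := StrongPEmb.exists_sylow_le hM
  by_contra hne
  have hne' : O.subgroupOf H ≠ ⊥ := by
    rw [Ne, Subgroup.subgroupOf_eq_bot, disjoint_iff, inf_eq_left.2 hO]
    exact hne
  have h1 : O.subgroupOf H ≤ (P : Subgroup H) :=
    le_sup_right.trans (P.3 (IsPGroup.to_sup_of_normal_right P.2 hp') le_sup_left).le
  have h2 := StrongPEmb.normalizer_le hM hp' hne' (h1.trans hP)
  rw [Subgroup.normalizer_eq_top] at h2
  exact hM.2.1 (top_le_iff.1 h2)

theorem exists_quad {H T : Subgroup (Gl p m)} {u : Gl p m} (hT : T = H ⊓ near p m 1) (huT : u ∈ T)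
    (hu : (u : Mat p m) = 1 + shift p m) {z : Gl p m} (hz : z ∈ T) (hzc : Commute (z : Mat p m) (shift p m))
    {i : ℕ} (him : i < m) (hi : m ≤ 2 * i) (hid : Deg i ((z : Mat p m) - 1))
    (hic : co ((z : Mat p m) - 1) i ≠ 0) : ∃ (z' : Gl p m) (i' : ℕ), Quad H T u z' i' := by
  classical
  let P : ℕ → Prop := fun l => ∃ w ∈ T, Commute (w : Mat p m) (shift p m) ∧ Deg l ((w : Mat p m) - 1) ∧
    co ((w : Mat p m) - 1) l ≠ 0 ∧ l < m
  have hP : P (Nat.findGreatest P m) := Nat.findGreatest_spec him.le ⟨z, hz, hzc, hid, hic, him⟩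
  obtain ⟨w, hw, hwc, hwd, hwco, hlm⟩ := hP
  refine ⟨w, Nat.findGreatest P m, ⟨hT, huT, hu, hw, hwc, hlm, ?_, hwd, hwco, fun t ht htc htd => ?_⟩⟩
  · have := Nat.le_findGreatest him.le (show P i from ⟨z, hz, hzc, hid, hic, him⟩)
    omega
  · by_contra ht1
    obtain ⟨s, hsm, hsd, hsc⟩ := (eq_zero_or_exists_order (htc.sub_left (Commute.one_left _))).resolve_left
      fun h => ht1 (Units.ext (sub_eq_zero.1 h))
    have h1 : Nat.findGreatest P m + 1 ≤ s := by
      by_contra h
      exact hsc (htd.co_eq_zero (by omega))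
    have h2 := Nat.le_findGreatest hsm.le (show P s from ⟨t, ht, htc, hsd, hsc, hsm⟩)
    omega

/-- **The linear theorem.** -/
theorem false_of_uniserial (hp5 : 5 ≤ p) {H T : Subgroup (Gl p m)} {u : Gl p m} (hTH : T ≤ H)
    (hTp : IsPGroup p T) (hmax : ∀ P : Subgroup (Gl p m), P ≤ H → IsPGroup p P → T ≤ P → P = T)
    (huT : u ∈ T) (hu : (u : Mat p m) = 1 + shift p m) (hm : 2 ≤ m) (hmp : m < p)
    (hcard : p ^ 2 ≤ Nat.card T) {M : Subgroup H} (hM : Cfsg.IsStronglyPEmbedded p M)
    (hL : ∀ t ∈ T, ∃ τ : ZMod p, ∀ a b : Fin m, (b : ℕ) + 3 ≤ m → (a : ℕ) = b + 1 → (t : Mat p m) a b = τ)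
    (hna : (∀ s ∈ T, ∀ t ∈ T, s * t = t * s) ∨ 4 ≤ m) : False := by
  have hcore := core_of_se hM
  have hT : T = H ⊓ near p m 1 :=
    (hmax _ inf_le_left (isPGroup_near hmp.le).to_inf_right (le_inf hTH (le_near_one hTp huT hu))).symm
  by_cases hab : ∀ s ∈ T, ∀ t ∈ T, s * t = t * s
  · have hA : Ab H T u := ⟨hTH, hTp, hmax, hab, huT, hu⟩
    by_cases h3 : m = 3
    · exact false_of_ab hp5 m H T u hA hm hmp hcore (Or.inl h3) (Or.inl hcard)
    by_cases hs : ∀ t ∈ T, t ≠ 1 → t ∉ near p m ((p - 1) / 2)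
    · exact false_of_ab hp5 m H T u hA hm hmp hcore (Or.inr hs) (Or.inl hcard)
    push Not at hs
    obtain ⟨z, hz, hz1, hzn⟩ := hs
    have hzc := hA.commute_shift hz
    obtain ⟨i, him, hid, hic⟩ := (eq_zero_or_exists_order (hzc.sub_left (Commute.one_left _))).resolve_left
      fun h => hz1 (Units.ext (sub_eq_zero.1 h))
    have hsi : (p - 1) / 2 ≤ i := by
      by_contra h
      exact hic ((mem_near.1 hzn).co_eq_zero (by omega))
    have hodd : p % 2 = 1 := ((Fact.out : p.Prime).odd_of_ne_two (by omega)).elim fun k hk => by omega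
    obtain ⟨w, i', hq⟩ := exists_quad hT huT hu hz hzc him (by omega) hid hic
    have hm4 : 4 ≤ m := by
      by_contra h
      exact hz1 (eq_one_of_near hzn (by omega))
    exact hq.false_of_quad hmp.le hp5 hcore hM hm4 hL
  · have hna' : ∃ t ∈ T, ¬ Commute (t : Mat p m) (shift p m) := by
      by_contra h
      push Not at h
      exact hab fun s hs t ht => Units.ext (commute_of_commute_shift (h s hs) (h t ht)).eq
    obtain ⟨z, hz, hzc, i, him, hi2, hid, hic⟩ := exists_quadratic hmp.le hTp huT hu hna'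
    obtain ⟨w, i', hq⟩ := exists_quad hT huT hu hz hzc him (by omega) hid hic
    exact hq.false_of_quad hmp.le hp5 hcore hM (hna.resolve_left hab) hL

end Cfsg.Agent.UniserialSE
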