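import Cfsg.Agent.Lib.UniserialSE.Weights

/-!
# Passing to the top block

If every element of `H` commutes up to a scalar with `X = shift ^ j * U` then `H` preserves the flag of step `j`,
and its image on the top block keeps the abelian Sylow subgroup and has trivial `p`-core.
-/

set_option autoImplicit false
set_option linter.unusedSectionVars false
set_option linter.style.haveILetI false

open Matrix

namespace Cfsg.Agent.UniserialSE

variable {p : ℕ} [Fact p.Prime] {m : ℕ}

theorem commute_inv_of_commute {U : Gl p m} (hU : Commute (U : Mat p m) (shift p m)) :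
    Commute ((U⁻¹ : Gl p m) : Mat p m) (shift p m) := hU.units_inv_left

theorem deg_zero_inv {P : Gl p m} (h : Deg 0 (P : Mat p m)) : Deg 0 ((P⁻¹ : Gl p m) : Mat p m) := by
  rw [inv_eq_of_mul_eq_one_right (a := P) (b := P ^ (orderOf P - 1))
    (by rw [← pow_succ', Nat.sub_add_cancel (orderOf_pos P), pow_orderOf_eq_one]), Units.val_pow_eq_pow_val]
  simpa using h.pow (orderOf P - 1)

/-- A unit factor of an element of order `j` of the centralizer algebra. -/
theorem exists_factor {X : Mat p m} (hX : Commute X (shift p m)) {j : ℕ} (hj : j < m) (hd : Deg j X)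
    (hco : co X j ≠ 0) :
    ∃ U : Gl p m, Commute (U : Mat p m) (shift p m) ∧ X = shift p m ^ j * (U : Mat p m) := by
  let U : Mat p m := ∑ s ∈ Finset.range m, co X (j + s) • shift p m ^ s
  have hUc : Commute U (shift p m) :=
    Commute.sum_left _ _ _ fun s _ => ((Commute.refl _).pow_left s).smul_left _
  have hU0 : Deg 0 U := deg_zero_of_commute hUc
  have hunit : IsUnit U := by
    rw [Matrix.isUnit_iff_isUnit_det, Matrix.det_of_isLowerTriangular U (fun r c hrc => hU0 r c hrc),
      IsUnit.prod_univ_iff]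
    intro r
    refine isUnit_iff_ne_zero.2 ?_
    show (∑ s ∈ Finset.range m, co X (j + s) • shift p m ^ s) r r ≠ 0
    rw [Matrix.sum_apply, Finset.sum_eq_single 0]
    · simpa using hco
    · intro s _ hs
      simp [shift_pow_apply, hs]
    · intro h
      exact absurd (Finset.mem_range.2 (by omega)) h
  refine ⟨hunit.unit, hUc, ?_⟩
  rw [IsUnit.unit_spec]
  ext r c
  have hcc : Commute (shift p m ^ j * U) (shift p m) := ((Commute.refl _).pow_left j).mul_left hUc
  rw [apply_of_commute hX, apply_of_commute hcc]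
  split
  · rcases Nat.lt_or_ge ((r : ℕ) - c) j with h | h
    · rw [hd.co_eq_zero h, ((deg_shift_pow j).mul hU0).co_eq_zero (by omega)]
    · have hn : (r : ℕ) - c < m := by have := r.2; omega
      rw [co_mul ((Commute.refl _).pow_left j) hUc _ hn, Finset.sum_eq_single ((r : ℕ) - c - j)]
      · rw [co_shift_pow hj, if_pos (by omega), one_mul]
        have hsum : co U ((r : ℕ) - c - j) = co X (j + ((r : ℕ) - c - j)) := by
          rw [co, dif_pos (show (r : ℕ) - c - j < m by omega)]
          show (∑ s ∈ Finset.range m, co X (j + s) • shift p m ^ s) _ _ = _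
          rw [Matrix.sum_apply, Finset.sum_eq_single ((r : ℕ) - c - j)]
          · simp [shift_pow_apply]
          · intro s _ hs
            simp [shift_pow_apply, Ne.symm hs]
          · intro h'
            exact absurd (Finset.mem_range.2 (by omega)) h'
        rw [hsum]; congr 1; omega
      · intro k hk hne
        have := Finset.mem_range.1 hk
        rw [co_shift_pow hj, if_neg (by omega), zero_mul]
      · intro h'
        exact absurd (Finset.mem_range.2 (by omega)) h'
  · rfl

/-- `X` preserves the flag of step `j`. -/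
def Sgm (j : ℕ) (X : Mat p m) : Prop := ∀ r c : Fin m, (r : ℕ) / j < (c : ℕ) / j → X r c = 0

theorem sgm_one (j : ℕ) : Sgm j (1 : Mat p m) := fun r c h => by
  rw [Matrix.one_apply_ne]; intro e; subst e; omega

theorem Sgm.mul {j : ℕ} {X Y : Mat p m} (hX : Sgm j X) (hY : Sgm j Y) : Sgm j (X * Y) := fun r c h => by
  rw [Matrix.mul_apply]
  refine Finset.sum_eq_zero fun k _ => ?_
  rcases Nat.lt_or_ge ((r : ℕ) / j) ((k : ℕ) / j) with hk | hk
  · rw [hX r k hk, zero_mul]
  · rw [hY k c (by omega), mul_zero]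

theorem Deg.sgm {X : Mat p m} (hX : Deg 0 X) (j : ℕ) : Sgm j X := fun r c h => hX r c (by
  by_contra hle
  exact absurd (Nat.div_le_div_right (c := j) (show (c : ℕ) ≤ r by omega)) (not_le.2 h))

/-- The block diagonal part. -/
def bd (j : ℕ) (X : Mat p m) : Mat p m :=
  Matrix.of fun r c => if (r : ℕ) / j = (c : ℕ) / j then X r c else 0

theorem bd_one (j : ℕ) : bd j (1 : Mat p m) = 1 := by
  ext r c
  simp only [bd, Matrix.of_apply]
  rcases eq_or_ne r c with rfl | h
  · simp
  · simp [Matrix.one_apply_ne h]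

theorem bd_mul {j : ℕ} {X Y : Mat p m} (hX : Sgm j X) (hY : Sgm j Y) : bd j (X * Y) = bd j X * bd j Y := by
  ext r c
  rw [Matrix.mul_apply]
  simp only [bd, Matrix.of_apply]
  split
  · rename_i h
    rw [Matrix.mul_apply]
    refine Finset.sum_congr rfl fun k _ => ?_
    rcases lt_trichotomy ((r : ℕ) / j) ((k : ℕ) / j) with hk | hk | hk
    · rw [hX r k hk, if_neg hk.ne, zero_mul, zero_mul]
    · rw [if_pos hk, if_pos (hk ▸ h)]
    · rw [hY k c (by omega), if_neg hk.ne', zero_mul, mul_zero]
  · rename_i h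
    refine (Finset.sum_eq_zero fun k _ => ?_).symm
    split_ifs with h1 h2
    · exact absurd (h1.trans h2) h
    all_goals simp

/-- The upper left block. -/
def top (j : ℕ) (hj : j ≤ m) (X : Mat p m) : Mat p j := X.submatrix (Fin.castLE hj) (Fin.castLE hj)

theorem top_one {j : ℕ} (hj : j ≤ m) : top j hj (1 : Mat p m) = 1 :=
  Matrix.submatrix_one _ (Fin.castLE_injective hj)

theorem top_mul {j : ℕ} (hj : j ≤ m) {X Y : Mat p m} (hX : Sgm j X) :
    top j hj (X * Y) = top j hj X * top j hj Y := by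
  ext r c
  simp only [top, Matrix.submatrix_apply, Matrix.mul_apply]
  refine (Finset.sum_of_injOn (Fin.castLE hj) ((Fin.castLE_injective hj).injOn) ?_ ?_ ?_).symm
  · simp
  · intro k _ hk
    have hjk : j ≤ (k : ℕ) := by
      by_contra h
      exact hk ⟨⟨k, by omega⟩, Finset.mem_coe.2 (Finset.mem_univ _), Fin.ext rfl⟩
    rw [hX _ k ?_, zero_mul]
    rcases Nat.eq_zero_or_pos j with hj0 | hj0
    · subst hj0; exact r.elim0
    · rw [Fin.val_castLE, Nat.div_eq_of_lt r.2]
      exact Nat.div_pos hjk hj0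
  · intros; rfl

theorem co_top {j : ℕ} (hj : j ≤ m) (X : Mat p m) {s : ℕ} (hs : s < j) : co (top j hj X) s = co X s := by
  rw [co, co, dif_pos hs, dif_pos (by omega)]
  rfl

theorem top_shift {j : ℕ} (hj : j ≤ m) : top j hj (shift p m) = shift p j := by
  ext r c; simp [top, shift_apply]

/-- The elements of `H` on the top block. -/
structure Rel (H : Subgroup (Gl p m)) (j : ℕ) (U : Gl p m) : Prop where
  one_le : 1 ≤ j
  lt : j < m
  comm : Commute (U : Mat p m) (shift p m)
  scal : ∀ g ∈ H, ∃ a : ZMod p, a ≠ 0 ∧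
    (g : Mat p m) * (shift p m ^ j * (U : Mat p m)) = a • (shift p m ^ j * (U : Mat p m) * (g : Mat p m))

namespace Rel

variable {H : Subgroup (Gl p m)} {j : ℕ} {U : Gl p m}

theorem pow_rel (hR : Rel H j U) {g : Gl p m} (hg : g ∈ H) :
    ∃ a : ZMod p, a ≠ 0 ∧ ∀ l : ℕ, (g : Mat p m) * shift p m ^ (j * l) =
      a ^ l • (shift p m ^ (j * l) * ((U : Mat p m) ^ l * (g : Mat p m) * ((U⁻¹ : Gl p m) : Mat p m) ^ l)) := by
  obtain ⟨a, ha, h⟩ := hR.scal g hg
  refine ⟨a, ha, fun l => ?_⟩
  set X := shift p m ^ j * (U : Mat p m)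
  have hl : ∀ l : ℕ, (g : Mat p m) * X ^ l = a ^ l • (X ^ l * (g : Mat p m)) := by
    intro l
    induction l with
    | zero => simp
    | succ l ih =>
      rw [pow_succ, ← mul_assoc, ih, smul_mul_assoc, mul_assoc, h, mul_smul_comm, smul_smul,
        ← mul_assoc, pow_succ]
  have hsU : Commute (shift p m ^ j) (U : Mat p m) := (hR.comm.symm).pow_left j
  have e : X ^ l * ((U⁻¹ : Gl p m) : Mat p m) ^ l = shift p m ^ (j * l) := by
    rw [hsU.mul_pow, mul_assoc, ← (show Commute (U : Mat p m) ((U⁻¹ : Gl p m) : Mat p m) from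
      (Commute.refl _).units_inv_right).mul_pow, Units.mul_inv, one_pow, mul_one, pow_mul]
  conv_lhs => rw [← e, ← mul_assoc, hl, smul_mul_assoc, hsU.mul_pow, ← pow_mul]
  simp [mul_assoc]

theorem sgm (hR : Rel H j U) {g : Gl p m} (hg : g ∈ H) : Sgm j (g : Mat p m) := by
  obtain ⟨a, -, h⟩ := hR.pow_rel hg
  intro r c hrc
  set l := (c : ℕ) / j
  have hlc : j * l ≤ c := Nat.mul_div_le _ _
  have hrl : (r : ℕ) < j * l := by
    by_contra hle
    have h1 := Nat.div_le_div_right (c := j) (show j * l ≤ (r : ℕ) by omega)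
    rw [Nat.mul_div_cancel_left _ hR.one_le] at h1
    omega
  have hc : (c : ℕ) - j * l < m := by have := c.2; omega
  have e := congrFun (congrFun (h l) r) ⟨(c : ℕ) - j * l, hc⟩
  have hl : ((g : Mat p m) * shift p m ^ (j * l)) r ⟨(c : ℕ) - j * l, hc⟩ = (g : Mat p m) r c := by
    rw [Matrix.mul_apply, Finset.sum_eq_single c]
    · rw [shift_pow_apply, if_pos (show (c : ℕ) = c - j * l + j * l by omega), mul_one]
    · intro k _ hk
      rw [shift_pow_apply, if_neg, mul_zero]
      intro e'
      exact hk (Fin.ext (by simpa [Nat.sub_add_cancel hlc] using e'))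
    · simp
  rw [hl, Matrix.smul_apply, Matrix.mul_apply,
    Finset.sum_eq_zero fun k _ => by rw [deg_shift_pow (j * l) r k (by omega), zero_mul], smul_zero] at e
  exact e

/-- The map to the block diagonal part. -/
def bdHom (hR : Rel H j U) : H →* Gl p m :=
  MonoidHom.toHomUnits
    { toFun := fun g => bd j ((g : Gl p m) : Mat p m)
      map_one' := bd_one j
      map_mul' := fun g h => bd_mul (hR.sgm g.2) (hR.sgm h.2) }

/-- The map to the top block. -/
def topHom (hR : Rel H j U) : H →* Gl p j :=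
  MonoidHom.toHomUnits
    { toFun := fun g => top j hR.lt.le ((g : Gl p m) : Mat p m)
      map_one' := top_one _
      map_mul' := fun g _ => top_mul _ (hR.sgm g.2) }

theorem coe_bdHom (hR : Rel H j U) (g : H) : (hR.bdHom g : Mat p m) = bd j ((g : Gl p m) : Mat p m) := rfl

theorem coe_topHom (hR : Rel H j U) (g : H) :
    (hR.topHom g : Mat p j) = top j hR.lt.le ((g : Gl p m) : Mat p m) := rfl

/-- An element trivial on the top block is a scalar on every layer. -/
theorem bd_of_top (hR : Rel H j U) {g : H} (hg : hR.topHom g = 1) :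
    ∃ a : ZMod p, (hR.bdHom g : Mat p m) = Matrix.diagonal (fun r : Fin m => a ^ ((r : ℕ) / j)) ∧
      ((g : Gl p m) : Mat p m) * (shift p m ^ j * (U : Mat p m)) =
        a • (shift p m ^ j * (U : Mat p m) * ((g : Gl p m) : Mat p m)) := by
  obtain ⟨a, ha, h⟩ := hR.pow_rel g.2
  refine ⟨a, ?_, ?_⟩
  · ext r c
    show (if (r : ℕ) / j = (c : ℕ) / j then ((g : Gl p m) : Mat p m) r c else 0) = _
    rw [Matrix.diagonal_apply]
    split
    · rename_i hb
      set l := (c : ℕ) / j
      have hlc : j * l ≤ c := Nat.mul_div_le _ _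
      have hlr : j * l ≤ r := hb ▸ Nat.mul_div_le _ _
      have hr0 : (r : ℕ) - j * l < j := by
        have := Nat.lt_mul_div_succ (r : ℕ) hR.one_le
        rw [hb, Nat.mul_succ] at this; omega
      have hc0 : (c : ℕ) - j * l < j := by
        have : (c : ℕ) < j * (l + 1) := Nat.lt_mul_div_succ (c : ℕ) hR.one_le
        rw [mul_add, mul_one] at this; omega
      have hc : (c : ℕ) - j * l < m := by have := c.2; omega
      set V := (U : Mat p m) ^ l * ((g : Gl p m) : Mat p m) * ((U⁻¹ : Gl p m) : Mat p m) ^ l with hV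
      have htopV : top j hR.lt.le V = 1 := by
        have hUs : Sgm j ((U : Mat p m) ^ l) := (deg_zero_of_commute (hR.comm.pow_left l)).sgm j
        rw [hV, top_mul _ (hUs.mul (hR.sgm g.2)), top_mul _ hUs,
          show top j hR.lt.le ((g : Gl p m) : Mat p m) = 1 from (hR.coe_topHom g).symm.trans (by rw [hg]; rfl),
          mul_one, ← top_mul _ hUs, ← (show Commute (U : Mat p m) ((U⁻¹ : Gl p m) : Mat p m) from
            (Commute.refl _).units_inv_right).mul_pow, Units.mul_inv, one_pow, top_one]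
      have e := congrFun (congrFun (h l) r) ⟨(c : ℕ) - j * l, hc⟩
      have hl : (((g : Gl p m) : Mat p m) * shift p m ^ (j * l)) r ⟨(c : ℕ) - j * l, hc⟩ =
          ((g : Gl p m) : Mat p m) r c := by
        rw [Matrix.mul_apply, Finset.sum_eq_single c]
        · rw [shift_pow_apply, if_pos (show (c : ℕ) = c - j * l + j * l by omega), mul_one]
        · intro k _ hk
          rw [shift_pow_apply, if_neg, mul_zero]
          intro e'
          exact hk (Fin.ext (by simpa [Nat.sub_add_cancel hlc] using e'))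
        · simp
      have hr : (r : ℕ) - j * l < m := by have := r.2; omega
      rw [hl, Matrix.smul_apply, Matrix.mul_apply, Finset.sum_eq_single (⟨(r : ℕ) - j * l, hr⟩ : Fin m),
        shift_pow_apply, if_pos (show (r : ℕ) = r - j * l + j * l by omega), one_mul, ← hV] at e
      · have h3 := congrFun (congrFun htopV ⟨(r : ℕ) - j * l, hr0⟩) ⟨(c : ℕ) - j * l, hc0⟩
        simp only [top, Matrix.submatrix_apply, Fin.castLE_mk] at h3
        rw [e, h3, hb, smul_eq_mul, Matrix.one_apply]
        by_cases hrc : r = c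
        · subst hrc; simp
        · rw [if_neg hrc, if_neg, mul_zero]
          intro e'
          exact hrc (Fin.ext (by have := congrArg Fin.val e'; simp at this; omega))
      · intro k _ hk
        rw [shift_pow_apply, if_neg, zero_mul]
        intro e'
        exact hk (Fin.ext (by simp; omega))
      · simp
    · rename_i hb
      rw [if_neg]
      rintro rfl; exact hb rfl
  · have h1 := h 1
    simp only [mul_one, pow_one] at h1
    rw [← mul_assoc, h1, smul_mul_assoc]
    congr 1
    simp [mul_assoc]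

theorem commute_bd (hR : Rel H j U) {g : H} (hg : hR.topHom g = 1) (h : H) :
    Commute (hR.bdHom g) (hR.bdHom h) := by
  obtain ⟨a, ha, -⟩ := hR.bd_of_top hg
  apply Units.ext
  rw [Units.val_mul, Units.val_mul, ha]
  ext r c
  rw [Matrix.diagonal_mul, Matrix.mul_diagonal, hR.coe_bdHom]
  simp only [bd, Matrix.of_apply]
  split
  · rename_i hb; rw [hb, mul_comm]
  · simp

theorem isPGroup_ker (hR : Rel H j U) (hmp : m ≤ p) : IsPGroup p hR.bdHom.ker := by
  intro g
  refine ⟨1, Subtype.ext (Subtype.ext (Units.ext ?_))⟩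
  set X := ((g : H) : Gl p m).val - 1 with hX
  have hz : ∀ n : ℕ, ∀ r c : Fin m, (r : ℕ) / j < (c : ℕ) / j + n → (X ^ n) r c = 0 := by
    intro n
    induction n with
    | zero =>
      intro r c h
      rw [pow_zero, Matrix.one_apply_ne]; intro e; subst e; omega
    | succ n ih =>
      intro r c h
      rw [pow_succ, Matrix.mul_apply]
      refine Finset.sum_eq_zero fun k _ => ?_
      rcases Nat.lt_or_ge ((r : ℕ) / j) ((k : ℕ) / j + n) with hk | hk
      · rw [ih r k hk, zero_mul]
      · rcases Nat.lt_or_ge ((k : ℕ) / j) ((c : ℕ) / j) with hk' | hk'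
        · rw [hX, Matrix.sub_apply, hR.sgm (g : H).2 k c hk', Matrix.one_apply_ne, sub_zero, mul_zero]
          intro e; subst e; omega
        · have hkc : (k : ℕ) / j = (c : ℕ) / j := by omega
          have e0 : ((hR.bdHom g.1 : Gl p m) : Mat p m) = 1 := congrArg Units.val g.2
          have e := congrFun (congrFun e0 k) c
          simp only [hR.coe_bdHom, bd, Matrix.of_apply, if_pos hkc] at e
          rw [hX, Matrix.sub_apply, e, sub_self, mul_zero]
  have h0 : X ^ p = 0 := by
    ext r c
    exact hz p r c (lt_of_lt_of_le (lt_of_le_of_lt (Nat.div_le_self _ _) r.2) (hmp.trans (Nat.le_add_left _ _)))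
  haveI : Nonempty (Fin m) := ⟨⟨0, lt_of_le_of_lt (Nat.zero_le j) hR.lt⟩⟩
  haveI : CharP (Mat p m) p := Matrix.charP p
  rw [hX, sub_pow_char_of_commute p (Commute.one_right _), one_pow, sub_eq_zero] at h0
  simpa using h0

/-- The image on the top block. -/
def img (hR : Rel H j U) : Subgroup (Gl p j) := hR.topHom.range

/-- The image of a subgroup on the top block. -/
def imgT (hR : Rel H j U) (T : Subgroup (Gl p m)) : Subgroup (Gl p j) := (T.subgroupOf H).map hR.topHom

theorem imgT_mem (hR : Rel H j U) {T : Subgroup (Gl p m)} {s : Gl p j} (hs : s ∈ hR.imgT T) :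
    ∃ t ∈ T, (s : Mat p j) = top j hR.lt.le (t : Mat p m) := by
  obtain ⟨t, ht, rfl⟩ := hs
  exact ⟨t, ht, rfl⟩

theorem ab_img (hR : Rel H j U) {T : Subgroup (Gl p m)} {u : Gl p m} (hA : Ab H T u) :
    Ab hR.img (hR.imgT T) (hR.topHom ⟨u, hA.le hA.mem⟩) := by
  show Ab hR.topHom.range _ _
  have hS : IsPGroup p (T.subgroupOf H) := hA.pgroup.of_equiv (Subgroup.subgroupOfEquivOfLe hA.le).symm
  obtain ⟨S, hSle⟩ := hS.exists_le_sylow
  have h1 : ((S : Subgroup H).map H.subtype) = T := by
    refine hA.max _ (Subgroup.map_subtype_le _) (S.isPGroup'.map _) fun t ht => ?_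
    exact ⟨⟨t, hA.le ht⟩, hSle (Subgroup.mem_subgroupOf.2 ht), rfl⟩
  have h2 : (S : Subgroup H) = T.subgroupOf H :=
    (Subgroup.comap_map_eq_self_of_injective H.subtype_injective _).symm.trans
      (congrArg (Subgroup.comap H.subtype) h1)
  let S' := S.mapSurjective (MonoidHom.rangeRestrict_surjective hR.topHom)
  have hS' : ((S' : Subgroup hR.topHom.range).map hR.topHom.range.subtype) = hR.imgT T := by
    rw [Sylow.coe_mapSurjective, Subgroup.map_map, h2]; rfl
  refine ⟨?_, ?_, ?_, ?_, ?_, ?_⟩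
  · exact (Subgroup.map_le_range _ _)
  · exact hS.map _
  · intro P hP hPp hle
    have h3 : (P.subgroupOf hR.topHom.range) = (S' : Subgroup hR.topHom.range) := by
      refine S'.is_maximal' (hPp.of_equiv (Subgroup.subgroupOfEquivOfLe hP).symm) ?_
      intro x hx
      exact Subgroup.mem_subgroupOf.2 (hle (hS' ▸ ⟨x, hx, rfl⟩))
    rw [← hS', ← h3]
    exact (Subgroup.map_subgroupOf_eq_of_le hP).symm
  · rintro _ ⟨s, hs, rfl⟩ _ ⟨t, ht, rfl⟩
    rw [← map_mul, ← map_mul]
    congr 1
    exact Subtype.ext (hA.comm s hs t ht)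
  · exact ⟨⟨u, hA.le hA.mem⟩, hA.mem, rfl⟩
  · rw [hR.coe_topHom, hA.std]
    ext r c
    simp [top, shift_apply, Matrix.one_apply, Fin.ext_iff]

/-- If the normal `p`-subgroups die on the top block, the image has trivial `p`-core. -/
theorem img_core (hR : Rel H j U) (hmp : m ≤ p)
    (hQ : ∀ Q : Subgroup H, Q.Normal → IsPGroup p Q → Q ≤ hR.topHom.ker)
    (O : Subgroup (Gl p j)) (hO : O ≤ hR.img) (hOp : IsPGroup p O)
    (hOn : hR.img ≤ Subgroup.normalizer (O : Set (Gl p j))) : O = ⊥ := by
  set P1 : Subgroup H := O.comap hR.topHom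
  have hP1n : P1.Normal := ⟨fun x hx g => by
    rw [Subgroup.mem_comap, map_mul, map_mul, map_inv]
    exact (Subgroup.mem_normalizer_iff.1 (hOn ⟨g, rfl⟩) _).1 hx⟩
  set π : P1 →* hR.bdHom.range := (hR.bdHom.rangeRestrict).comp P1.subtype
  set B : Subgroup hR.bdHom.range := π.range
  have hBn : B.Normal := by
    have : B = P1.map hR.bdHom.rangeRestrict := by
      rw [show B = π.range from rfl, MonoidHom.range_comp, Subgroup.range_subtype]
    rw [this]
    exact hP1n.map _ (MonoidHom.rangeRestrict_surjective _)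
  set K : Subgroup B := ((hR.topHom.ker).map hR.bdHom.rangeRestrict).subgroupOf B
  have hKc : K ≤ Subgroup.center B := by
    rintro ⟨x, hx⟩ hk
    obtain ⟨k, hk1, hk2⟩ := Subgroup.mem_subgroupOf.1 hk
    rw [Subgroup.mem_center_iff]
    rintro ⟨y, hy⟩
    obtain ⟨y', rfl⟩ := hy
    refine Subtype.ext (Subtype.ext ?_)
    show (hR.bdHom (y' : H)) * (x : Gl p m) = (x : Gl p m) * hR.bdHom (y' : H)
    rw [show (x : Gl p m) = hR.bdHom k from (congrArg Subtype.val hk2).symm]
    exact (hR.commute_bd hk1 _).symm.eq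
  haveI hKn : K.Normal := ⟨fun x hx g => by
    rw [(Subgroup.mem_center_iff.1 (hKc hx) g), mul_assoc, mul_inv_cancel, mul_one]; exact hx⟩
  have hBK : IsPGroup p (B ⧸ K) := by
    rintro ⟨⟨x, hx⟩⟩
    obtain ⟨y, rfl⟩ := hx
    obtain ⟨k, hk⟩ := hOp ⟨hR.topHom (y : H), y.2⟩
    refine ⟨k, ?_⟩
    change ((⟨π y, y, rfl⟩ : B) : B ⧸ K) ^ p ^ k = 1
    rw [← QuotientGroup.mk_pow, QuotientGroup.eq_one_iff]
    refine Subgroup.mem_subgroupOf.2 ⟨(y : H) ^ p ^ k, ?_, ?_⟩
    · simpa [MonoidHom.mem_ker] using congrArg Subtype.val hk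
    · simp [π]
  haveI : Group.IsNilpotent (B ⧸ K) := hBK.isNilpotent
  haveI hBnil : Group.IsNilpotent B :=
    Subgroup.isNilpotent_of_ker_le_center (QuotientGroup.mk' K) (by rw [QuotientGroup.ker_mk']; exact hKc)
  obtain ⟨S⟩ : Nonempty (Sylow p B) := inferInstance
  haveI hSn : (S : Subgroup B).Normal := inferInstance
  haveI hSc : (S : Subgroup B).Characteristic := Sylow.characteristic_of_normal S hSn
  set Q : Subgroup H := ((S : Subgroup B).map B.subtype).comap hR.bdHom.rangeRestrict
  have hQn : Q.Normal := by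
    haveI := hBn
    exact (inferInstance : ((S : Subgroup B).map B.subtype).Normal).comap _
  have hQp : IsPGroup p Q := by
    refine (S.isPGroup'.map _).comap_of_ker_isPGroup _ ?_
    rw [MonoidHom.ker_rangeRestrict]
    exact hR.isPGroup_ker hmp
  have hQk := hQ Q hQn hQp
  rw [eq_bot_iff]
  intro o ho
  rw [Subgroup.mem_bot]
  obtain ⟨x, rfl⟩ := hO ho
  -- the p-part of `x`
  obtain ⟨k, hk⟩ := hOp ⟨hR.topHom x, ho⟩
  set n := (orderOf x).factorization p
  set d := orderOf x / p ^ n
  have hd : ¬ p ∣ d := Nat.not_dvd_ordCompl (Fact.out : p.Prime) (orderOf_pos x).ne'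
  have hxd : (x ^ d) ^ p ^ n = 1 := by
    rw [← pow_mul, Nat.div_mul_cancel (Nat.ordProj_dvd _ _), pow_orderOf_eq_one]
  have hmem : x ^ d ∈ P1 := by
    rw [Subgroup.mem_comap, map_pow]; exact pow_mem ho d
  have hQmem : x ^ d ∈ Q := by
    refine ⟨⟨hR.bdHom.rangeRestrict (x ^ d), ⟨_, hmem⟩, rfl⟩, ?_, rfl⟩
    set b : B := ⟨hR.bdHom.rangeRestrict (x ^ d), ⟨_, hmem⟩, rfl⟩
    have hb : IsPGroup p (Subgroup.zpowers b) := by
      have h1 : b ^ p ^ n = 1 := Subtype.ext (by
        show hR.bdHom.rangeRestrict (x ^ d) ^ p ^ n = 1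
        rw [← map_pow, hxd, map_one])
      obtain ⟨i, -, hi⟩ := (Nat.dvd_prime_pow (Fact.out : p.Prime)).1 (orderOf_dvd_of_pow_eq_one h1)
      exact IsPGroup.of_card (n := i) (by rw [Nat.card_zpowers, hi])
    have := S.is_maximal' (IsPGroup.to_sup_of_normal_right hb S.isPGroup') le_sup_right
    exact this ▸ Subgroup.mem_sup_left (Subgroup.mem_zpowers b)
  have h1 : hR.topHom x ^ d = 1 := by rw [← map_pow]; exact hQk hQmem
  have h2 : hR.topHom x ^ p ^ k = 1 := by simpa using congrArg Subtype.val hk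
  have hco : d.Coprime (p ^ k) := ((Fact.out : p.Prime).coprime_iff_not_dvd.2 hd).symm.pow_right k
  have := pow_gcd_eq_one.2 ⟨h1, h2⟩
  rwa [hco, pow_one] at this

end Rel

end Cfsg.Agent.UniserialSE
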