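import Cfsg.Agent.Lib.UniserialSE.Flag
import Mathlib.GroupTheory.Sylow
import Mathlib.RingTheory.IntegralDomain

/-!
# Weights of the normalizer of an abelian Sylow subgroup containing a regular unipotent

`Ab H T u` : `T` is an abelian Sylow `p`-subgroup of `H` containing `u = 1 + shift`.
`exists_eigen` : after a change of basis inside the centralizer of `u`, the normalizer acts on `shift` by scalars,
and one diagonal element has the weight generating all of them.
-/

set_option autoImplicit false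
set_option linter.unusedSectionVars false
set_option linter.style.haveILetI false

open Matrix

namespace Cfsg.Agent.UniserialSE

variable {p : ℕ} [Fact p.Prime] {m : ℕ}

/-- An abelian Sylow subgroup with a standard regular element. -/
structure Ab (H T : Subgroup (Gl p m)) (u : Gl p m) : Prop where
  le : T ≤ H
  pgroup : IsPGroup p T
  max : ∀ P : Subgroup (Gl p m), P ≤ H → IsPGroup p P → T ≤ P → P = T
  comm : ∀ s ∈ T, ∀ t ∈ T, s * t = t * s
  mem : u ∈ T
  std : (u : Mat p m) = 1 + shift p m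

/-- Conjugation of a matrix by a unit. -/
def cnj (g : Gl p m) (X : Mat p m) : Mat p m := (g : Mat p m) * X * ((g⁻¹ : Gl p m) : Mat p m)

theorem cnj_mul (g h : Gl p m) (X : Mat p m) : cnj (g * h) X = cnj g (cnj h X) := by
  simp [cnj, _root_.mul_inv_rev, mul_assoc]

theorem cnj_mul_right (g : Gl p m) (X Y : Mat p m) : cnj g (X * Y) = cnj g X * cnj g Y := by
  simp [cnj, mul_assoc]

theorem cnj_pow (g : Gl p m) (X : Mat p m) (n : ℕ) : cnj g (X ^ n) = cnj g X ^ n := by
  induction n with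
  | zero => simp [cnj]
  | succ n ih => rw [pow_succ, pow_succ, cnj_mul_right, ih]

theorem cnj_smul (g : Gl p m) (a : ZMod p) (X : Mat p m) : cnj g (a • X) = a • cnj g X := by simp [cnj]

theorem cnj_sum {ι : Type*} (s : Finset ι) (g : Gl p m) (X : ι → Mat p m) :
    cnj g (∑ i ∈ s, X i) = ∑ i ∈ s, cnj g (X i) := by simp [cnj, Finset.mul_sum, Finset.sum_mul]

theorem cnj_one_add (g : Gl p m) (X : Mat p m) : cnj g (1 + X) = 1 + cnj g X := by
  simp [cnj, mul_add, add_mul]

theorem cnj_eq_iff {g : Gl p m} {X Y : Mat p m} : cnj g X = Y ↔ (g : Mat p m) * X = Y * (g : Mat p m) := by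
  constructor
  · rintro rfl; simp [cnj, mul_assoc]
  · intro h; rw [cnj, h, mul_assoc, Units.mul_inv, mul_one]

theorem coe_conj (g x : Gl p m) : ((g * x * g⁻¹ : Gl p m) : Mat p m) = cnj g (x : Mat p m) := by
  simp [cnj]

/-- The weight of a triangular matrix. -/
def wgt (g : Gl p m) : ZMod p := co (cnj g (shift p m)) 1

namespace Ab

variable {H T : Subgroup (Gl p m)} {u : Gl p m}

theorem le_near (hA : Ab H T u) : T ≤ near p m 1 := le_near_one hA.pgroup hA.mem hA.std

theorem commute_shift (hA : Ab H T u) {t : Gl p m} (ht : t ∈ T) : Commute (t : Mat p m) (shift p m) := by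
  have h := congrArg Units.val (hA.comm t ht u hA.mem)
  rw [Units.val_mul, Units.val_mul, hA.std, mul_add, add_mul, mul_one, one_mul, add_right_inj] at h
  exact h

/-- The normalizer of `T` in `H`. -/
def nor (_hA : Ab H T u) : Subgroup (Gl p m) := H ⊓ Subgroup.normalizer (T : Set (Gl p m))

theorem le_nor (hA : Ab H T u) : T ≤ hA.nor := le_inf hA.le Subgroup.le_normalizer

theorem nor_u (hA : Ab H T u) {g : Gl p m} (hg : g ∈ hA.nor) : g * u * g⁻¹ ∈ T :=
  (Subgroup.mem_normalizer_iff.1 hg.2 u).1 hA.mem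

theorem nor_deg (hA : Ab H T u) {g : Gl p m} (hg : g ∈ hA.nor) : Deg 0 (g : Mat p m) :=
  deg_zero_of_conj_mem hA.std (hA.le_near (hA.nor_u hg))

theorem nor_shift (hA : Ab H T u) {g : Gl p m} (hg : g ∈ hA.nor) :
    Commute (cnj g (shift p m)) (shift p m) ∧ Deg 1 (cnj g (shift p m)) := by
  have e : cnj g (shift p m) = ((g * u * g⁻¹ : Gl p m) : Mat p m) - 1 := by
    rw [coe_conj, hA.std, cnj_one_add, add_sub_cancel_left]
  exact ⟨e ▸ (hA.commute_shift (hA.nor_u hg)).sub_left (Commute.one_left _), e ▸ hA.le_near (hA.nor_u hg)⟩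

theorem nor_cnj (hA : Ab H T u) {g : Gl p m} (hg : g ∈ hA.nor) {X : Mat p m} (hX : Commute X (shift p m)) :
    Commute (cnj g X) (shift p m) := by
  rw [eq_sum_of_commute hX, cnj_sum]
  refine Commute.sum_left _ _ _ fun s _ => ?_
  rw [cnj_smul, cnj_pow]
  exact (((hA.nor_shift hg).1).pow_left s).smul_left _

theorem wgt_mul (hA : Ab H T u) (hm : 2 ≤ m) {g h : Gl p m} (hg : g ∈ hA.nor) (hh : h ∈ hA.nor) :
    wgt (g * h) = wgt g * wgt h := by
  obtain ⟨hc, hd⟩ := hA.nor_shift hh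
  have hrem : Deg 2 (cnj h (shift p m) - wgt h • shift p m) := by
    refine deg_succ_of_co (hc.sub_left ((Commute.refl _).smul_left _)) (hd.sub (deg_shift.smul _)) ?_
    rw [co_sub, co_smul, ← pow_one (shift p m), co_shift_pow (by omega), if_pos rfl, mul_one, pow_one]
    simp [wgt]
  have e : cnj (g * h) (shift p m) =
      wgt h • cnj g (shift p m) + cnj g (cnj h (shift p m) - wgt h • shift p m) := by
    rw [cnj_mul]; simp [cnj, mul_sub, sub_mul]
  have h0 : Deg 2 (cnj g (cnj h (shift p m) - wgt h • shift p m)) :=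
    ((hA.nor_deg hg).mul hrem).mul (hA.nor_deg (inv_mem hg))
  rw [wgt, e, co_add, co_smul, h0.co_eq_zero one_lt_two, add_zero, mul_comm]
  rfl

theorem wgt_one (hm : 2 ≤ m) : wgt (1 : Gl p m) = 1 := by
  rw [wgt, show cnj (1 : Gl p m) (shift p m) = shift p m ^ 1 by simp [cnj], co_shift_pow (by omega), if_pos rfl]

theorem wgt_T (hA : Ab H T u) (hm : 2 ≤ m) {t : Gl p m} (ht : t ∈ T) : wgt t = 1 := by
  rw [wgt, cnj_eq_iff.2 (hA.commute_shift ht).eq, ← pow_one (shift p m), co_shift_pow (by omega), if_pos rfl]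

/-- The weight as a character. -/
def wgtHom (hA : Ab H T u) (hm : 2 ≤ m) : hA.nor →* ZMod p where
  toFun g := wgt (g : Gl p m)
  map_one' := wgt_one hm
  map_mul' g h := hA.wgt_mul hm g.2 h.2

/-- The index of `T` in its normalizer is prime to `p`. -/
theorem not_dvd_index (hA : Ab H T u) : ¬ p ∣ (T.subgroupOf hA.nor).index := by
  have hpg : IsPGroup p (T.subgroupOf hA.nor) :=
    hA.pgroup.of_equiv (Subgroup.subgroupOfEquivOfLe hA.le_nor).symm
  obtain ⟨S, hS⟩ := hpg.exists_le_sylow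
  have h1 : ((S : Subgroup hA.nor).map hA.nor.subtype) = T := by
    refine hA.max _ ((Subgroup.map_subtype_le _).trans inf_le_left) (S.isPGroup'.map _) ?_
    intro t ht
    exact ⟨⟨t, hA.le_nor ht⟩, hS (Subgroup.mem_subgroupOf.2 ht), rfl⟩
  have h2 : (S : Subgroup hA.nor) = T.subgroupOf hA.nor := by
    exact (Subgroup.comap_map_eq_self_of_injective hA.nor.subtype_injective _).symm.trans
      (congrArg (Subgroup.comap hA.nor.subtype) h1)
  rw [← h2]
  exact S.not_dvd_index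

/-- An eigen generator of the centralizer algebra. -/
theorem exists_eigen_gen (hA : Ab H T u) (hm : 2 ≤ m) :
    ∃ L : Mat p m, Commute L (shift p m) ∧ Deg 1 L ∧ co L 1 = 1 ∧
      ∀ g ∈ hA.nor, cnj g L = wgt g • L := by
  classical
  set Q := hA.nor ⧸ T.subgroupOf hA.nor
  haveI : Fintype Q := Fintype.ofFinite _
  let f : hA.nor → Mat p m := fun g => wgt ((g⁻¹ : hA.nor) : Gl p m) • cnj (g : Gl p m) (shift p m)
  have hf : ∀ (g : hA.nor) (t : hA.nor), t ∈ T.subgroupOf hA.nor → f (g * t) = f g := by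
    intro g t ht
    simp only [f, _root_.mul_inv_rev, Subgroup.coe_mul]
    rw [hA.wgt_mul hm (t⁻¹).2 (g⁻¹).2, cnj_mul,
      cnj_eq_iff.2 (hA.commute_shift (show ((t : hA.nor) : Gl p m) ∈ T from ht)).eq,
      hA.wgt_T hm (t := ((t⁻¹ : hA.nor) : Gl p m)) (T.inv_mem ht), one_mul]
  let L0 : Mat p m := ∑ q : Q, f q.out
  have hinv : ∀ g : hA.nor, wgt (g : Gl p m) * wgt ((g⁻¹ : hA.nor) : Gl p m) = 1 := fun g => by
    rw [← hA.wgt_mul hm g.2 (g⁻¹).2]; simp [wgt_one hm]
  have hco : co L0 1 = (Fintype.card Q : ZMod p) := by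
    have h1 : ∀ (s : Finset Q) (X : Q → Mat p m), co (∑ q ∈ s, X q) 1 = ∑ q ∈ s, co (X q) 1 := by
      intro s X
      induction s using Finset.induction_on with
      | empty => simp [co_zero]
      | insert a t ha ih => rw [Finset.sum_insert ha, Finset.sum_insert ha, co_add, ih]
    rw [h1, Finset.sum_congr rfl fun q _ => show co (f q.out) 1 = 1 by
      rw [co_smul, mul_comm]; exact hinv _]
    simp
  have hne : co L0 1 ≠ 0 := by
    rw [hco, Ne, ZMod.natCast_eq_zero_iff, ← Nat.card_eq_fintype_card]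
    exact hA.not_dvd_index
  have hLc : Commute L0 (shift p m) := Commute.sum_left _ _ _ fun q _ =>
    ((hA.nor_shift q.out.2).1).smul_left _
  have hLd : Deg 1 L0 := deg_sum _ fun q _ => ((hA.nor_shift q.out.2).2).smul _
  refine ⟨(co L0 1)⁻¹ • L0, hLc.smul_left _, hLd.smul _, by rw [co_smul, inv_mul_cancel₀ hne], fun g hg => ?_⟩
  rw [cnj_smul, smul_comm]
  congr 1
  have key : ∀ q : Q, cnj g (f q.out) = wgt g • f ((⟨g, hg⟩ : hA.nor) • q).out := by
    intro q
    set G' : hA.nor := ⟨g, hg⟩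
    have hq : ((G' • q).out : Q) = ((G' * q.out : hA.nor) : Q) := by
      rw [QuotientGroup.out_eq']
      conv_lhs => rw [← QuotientGroup.out_eq' q]
      rfl
    obtain ⟨t, ht, hte⟩ : ∃ t ∈ T.subgroupOf hA.nor, (G' • q).out = G' * q.out * t :=
      ⟨(G' * q.out)⁻¹ * (G' • q).out, QuotientGroup.eq.1 hq.symm, by group⟩
    rw [hte, hf _ _ ht]
    simp only [f, _root_.mul_inv_rev, Subgroup.coe_mul]
    rw [cnj_smul, ← cnj_mul, hA.wgt_mul hm (q.out⁻¹).2 (G'⁻¹).2, smul_smul]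
    congr 1
    have := hinv G'
    calc wgt ((q.out⁻¹ : hA.nor) : Gl p m) = wgt ((q.out⁻¹ : hA.nor) : Gl p m) * 1 := (mul_one _).symm
      _ = _ := by rw [← this]; ring
  rw [cnj_sum, Finset.sum_congr rfl fun q _ => key q, ← Finset.smul_sum]
  congr 1
  exact Equiv.sum_comp (MulAction.toPerm (⟨g, hg⟩ : hA.nor)) (fun q : Q => f q.out)

end Ab

theorem shift_pow_card : shift p m ^ m = 0 := (deg_shift_pow m).eq_zero le_rfl

theorem shift_pow_ne_zero {j : ℕ} (h : j < m) : shift p m ^ j ≠ 0 := fun e => by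
  have := congrArg (fun X => co X j) e
  simp [co_shift_pow h, co_zero] at this

theorem co_pow_one {X : Mat p m} (hX : Commute X (shift p m)) (hd : Deg 1 X) :
    ∀ n : ℕ, n < m → co (X ^ n) n = co X 1 ^ n
  | 0, h => by
    have := co_shift_pow (p := p) h 0
    simpa using this
  | n + 1, h => by
    rw [pow_succ, co_mul_deg (hX.pow_left n) hX (by simpa using hd.pow n) hd h, co_pow_one hX hd n (by omega),
      pow_succ]

/-- A basis in which the normalizer acts on `shift` by scalars and some element is diagonal. -/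
theorem Ab.exists_eigen {H T : Subgroup (Gl p m)} {u : Gl p m} (hA : Ab H T u) (hm : 2 ≤ m) (_hmp : m < p) :
    ∃ (P : Gl p m) (g : Gl p m) (c b : ZMod p),
      (∀ t ∈ T, Commute ((P⁻¹ * t * P : Gl p m) : Mat p m) (shift p m)) ∧
      (∀ X : Mat p m, Commute X (shift p m) → Commute (cnj P X) (shift p m)) ∧
      Deg 0 (P : Mat p m) ∧ g ∈ hA.nor ∧ c ≠ 0 ∧ b ≠ 0 ∧ wgt g = b ∧
      ((P⁻¹ * g * P : Gl p m) : Mat p m) = Matrix.diagonal (fun r : Fin m => c * b ^ (r : ℕ)) ∧
      ∀ h ∈ hA.nor, ∃ k : ℕ, wgt h = b ^ k ∧ cnj (P⁻¹ * h * P) (shift p m) = b ^ k • shift p m := by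
  classical
  obtain ⟨L, hLc, hLd, hL1, hLe⟩ := hA.exists_eigen_gen hm
  -- a generator of the weights, of order prime to `p`
  set β := (hA.wgtHom hm).toHomUnits
  obtain ⟨⟨b0, g0, hg0⟩, hgen⟩ := IsCyclic.exists_generator (α := β.range)
  set k := (orderOf (g0 : Gl p m)).factorization p
  set g : Gl p m := (g0 : Gl p m) ^ p ^ k
  have hgN : g ∈ hA.nor := pow_mem g0.2 _
  set n := orderOf g
  have hgn : g ^ n = 1 := pow_orderOf_eq_one g
  have hn : ¬ p ∣ n := by
    have h1 : n = orderOf (g0 : Gl p m) / p ^ k :=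
      orderOf_pow_of_dvd (pow_ne_zero _ (Fact.out : p.Prime).ne_zero) (Nat.ordProj_dvd _ _)
    rw [h1]
    exact Nat.not_dvd_ordCompl (Fact.out : p.Prime) (orderOf_pos _).ne'
  have hb : wgt g = (b0 : ZMod p) := by
    have h1 : wgt g = wgt (g0 : Gl p m) ^ p ^ k := (map_pow (hA.wgtHom hm) g0 (p ^ k)).trans rfl
    have h2 : wgt (g0 : Gl p m) = (b0 : ZMod p) := congrArg Units.val hg0
    rw [h1, ZMod.pow_card_pow, h2]
  set b : ZMod p := (b0 : ZMod p)
  set c : ZMod p := (g : Mat p m) ⟨0, by omega⟩ ⟨0, by omega⟩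
  have hgd := hA.nor_deg hgN
  have hgpow : ∀ j : ℕ, ((g : Mat p m) ^ j) ⟨0, by omega⟩ ⟨0, by omega⟩ = c ^ j := by
    intro j
    induction j with
    | zero => simp
    | succ j ih =>
      rw [pow_succ, pow_succ, Deg.mul_diag (by simpa using hgd.pow j) hgd, ih]
  have hc1 : c ^ n = 1 := by
    rw [← hgpow, ← Units.val_pow_eq_pow_val, hgn, Units.val_one, Matrix.one_apply_eq]
  have hn0 : n ≠ 0 := (orderOf_pos g).ne'
  have hc0 : c ≠ 0 := fun h => by rw [h, zero_pow hn0] at hc1; exact zero_ne_one hc1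
  -- the eigenvector
  let e0 : Fin m → ZMod p := Pi.single ⟨0, by omega⟩ 1
  let v : Fin m → ZMod p := ∑ j ∈ Finset.range n, (c⁻¹) ^ j • (((g : Mat p m) ^ j) *ᵥ e0)
  have hv : (g : Mat p m) *ᵥ v = c • v := by
    have h1 : ∀ j, (g : Mat p m) *ᵥ ((c⁻¹) ^ j • (((g : Mat p m) ^ j) *ᵥ e0)) =
        c • ((c⁻¹) ^ (j + 1) • (((g : Mat p m) ^ (j + 1)) *ᵥ e0)) := by
      intro j
      rw [Matrix.mulVec_smul, Matrix.mulVec_mulVec, ← pow_succ', smul_smul]
      congr 1
      rw [pow_succ, mul_comm, mul_assoc, inv_mul_cancel₀ hc0, mul_one]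
    simp only [v, Matrix.mulVec_sum, h1, ← Finset.smul_sum]
    congr 1
    have h2 := Finset.sum_range_succ' (fun j => (c⁻¹) ^ j • (((g : Mat p m) ^ j) *ᵥ e0)) n
    have h3 := Finset.sum_range_succ (fun j => (c⁻¹) ^ j • (((g : Mat p m) ^ j) *ᵥ e0)) n
    rw [h2, inv_pow c n, hc1, show (g : Mat p m) ^ n = 1 by rw [← Units.val_pow_eq_pow_val, hgn]; rfl] at h3
    simpa using h3
  have hv0 : v ⟨0, by omega⟩ = (n : ZMod p) := by
    simp only [v, Finset.sum_apply, Pi.smul_apply, e0, Matrix.mulVec_single, smul_eq_mul]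
    rw [Finset.sum_congr rfl fun j _ => show (c⁻¹) ^ j * _ = (1 : ZMod p) by
      simp [hgpow, inv_pow, inv_mul_cancel₀ (pow_ne_zero j hc0)]]
    simp
  have hnp : (n : ZMod p) ≠ 0 := by rwa [Ne, ZMod.natCast_eq_zero_iff]
  -- the new basis
  let P : Mat p m := Matrix.of fun r s => ((L ^ (s : ℕ)) *ᵥ v) r
  have hL0 : ∀ s : ℕ, ∀ r : Fin m, (r : ℕ) < s → ((L ^ s) *ᵥ v) r = 0 := fun s r hr => by
    simp only [Matrix.mulVec, dotProduct]
    exact Finset.sum_eq_zero fun k _ => by rw [hLd.pow s r k (by omega), zero_mul]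
  have hPdet : IsUnit P := by
    rw [Matrix.isUnit_iff_isUnit_det, Matrix.det_of_isLowerTriangular P (fun r s hrs => hL0 _ r hrs),
      IsUnit.prod_univ_iff]
    intro r
    refine isUnit_iff_ne_zero.2 ?_
    show ((L ^ (r : ℕ)) *ᵥ v) r ≠ 0
    simp only [Matrix.mulVec, dotProduct]
    rw [Finset.sum_eq_single (⟨0, by omega⟩ : Fin m)]
    · have h1 : (L ^ (r : ℕ)) r ⟨0, by omega⟩ = co (L ^ (r : ℕ)) r := by
        rw [co, dif_pos r.2]
      rw [h1, co_pow_one hLc hLd _ r.2, hL1, one_pow, one_mul, hv0]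
      exact hnp
    · intro k _ hk
      rw [hLd.pow r r k ?_, zero_mul]
      have : (k : ℕ) ≠ 0 := fun h => hk (Fin.ext h)
      omega
    · simp
  set P' : Gl p m := hPdet.unit
  have hPv : (P' : Mat p m) = P := rfl
  have hLP : L * P = P * shift p m := by
    ext r s
    rw [mul_shift_apply]
    have hl : (L * P) r s = ((L ^ ((s : ℕ) + 1)) *ᵥ v) r := by
      rw [pow_succ', ← Matrix.mulVec_mulVec, Matrix.mul_apply]
      rfl
    rw [hl]
    split
    · rfl
    · rename_i h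
      rw [show L ^ ((s : ℕ) + 1) = 0 from ((hLd.pow _).eq_zero (by omega)), Matrix.zero_mulVec]; rfl
  have hcP : cnj P' (shift p m) = L := cnj_eq_iff.2 hLP.symm
  have hPc : ∀ X : Mat p m, Commute X (shift p m) → Commute (cnj P' X) (shift p m) := by
    intro X hX
    rw [eq_sum_of_commute hX, cnj_sum]
    refine Commute.sum_left _ _ _ fun s _ => ?_
    rw [cnj_smul, cnj_pow, hcP]
    exact (hLc.pow_left s).smul_left _
  have hT' : ∀ t ∈ T, Commute ((P'⁻¹ * t * P' : Gl p m) : Mat p m) (shift p m) := by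
    intro t ht
    have h1 : Commute (t : Mat p m) L := commute_of_commute_shift (hA.commute_shift ht) hLc
    have h2 : shift p m = cnj P'⁻¹ L := by rw [← hcP, ← cnj_mul]; simp [cnj]
    have h3 : ((P'⁻¹ * t * P' : Gl p m) : Mat p m) = cnj P'⁻¹ (t : Mat p m) := by simp [cnj]
    rw [h2, h3, Commute, SemiconjBy, ← cnj_mul_right, h1.eq, cnj_mul_right]
  have hP0 : Deg 0 (P' : Mat p m) := fun r s hrs => hL0 _ r (by omega)
  refine ⟨P', g, c, b, hT', hPc, hP0, hgN, hc0, b0.ne_zero, hb, ?_, ?_⟩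
  · have hgL : ∀ s : ℕ, (g : Mat p m) * L ^ s = b ^ s • (L ^ s * (g : Mat p m)) := by
      intro s
      have h1 : cnj g (L ^ s) = b ^ s • L ^ s := by rw [cnj_pow, hLe g hgN, smul_pow, hb]
      rw [cnj_eq_iff.1 h1, smul_mul_assoc]
    have hgP : (g : Mat p m) * P = P * Matrix.diagonal (fun r : Fin m => c * b ^ (r : ℕ)) := by
      ext r s
      rw [Matrix.mul_diagonal]
      have hl : ((g : Mat p m) * P) r s = (((g : Mat p m) * L ^ (s : ℕ)) *ᵥ v) r := by
        rw [← Matrix.mulVec_mulVec, Matrix.mul_apply]; rfl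
      rw [hl, hgL, Matrix.smul_mulVec, ← Matrix.mulVec_mulVec, hv, Matrix.mulVec_smul, smul_smul,
        Pi.smul_apply, smul_eq_mul]
      show b ^ (s : ℕ) * c * ((L ^ (s : ℕ)) *ᵥ v) r = ((L ^ (s : ℕ)) *ᵥ v) r * (c * b ^ (s : ℕ))
      ring
    rw [Units.val_mul, Units.val_mul, mul_assoc, hPv, hgP, ← mul_assoc, ← hPv, Units.inv_mul, one_mul]
  · intro h hh
    obtain ⟨z, hz⟩ := Subgroup.mem_zpowers_iff.1 (hgen ⟨β ⟨h, hh⟩, _, rfl⟩)
    obtain ⟨k', hk'⟩ : ∃ k' : ℕ, b0 ^ k' = β ⟨h, hh⟩ := by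
      have h1 : β ⟨h, hh⟩ ∈ Subgroup.zpowers b0 := ⟨z, by simpa using congrArg Subtype.val hz⟩
      obtain ⟨i, _, hi⟩ := Finset.mem_image.1 (mem_zpowers_iff_mem_range_orderOf.1 h1)
      exact ⟨i, hi⟩
    have hw : wgt h = b ^ k' := by
      have := congrArg Units.val hk'
      rw [Units.val_pow_eq_pow_val] at this
      exact this.symm
    refine ⟨k', hw, ?_⟩
    rw [cnj_mul, cnj_mul, hcP, hLe h hh, cnj_smul, ← hcP, ← cnj_mul, inv_mul_cancel, hw]
    simp [cnj]

end Cfsg.Agent.UniserialSE
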